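import Cfsg.Agent.Lib.U3Recog.Borel
import Mathlib.LinearAlgebra.Matrix.SpecialLinearGroup

/-!
# `SU(2, q) ≅ SL(2, q)` and the involutions of the centraliser

* `slHom` : `SL(2, q) →* U2 F q`, injective, onto the elements of determinant one;
* `PreData.card_involutions` : the centraliser has `q (q - 1)` involutions besides `t`.
-/

set_option autoImplicit false
set_option linter.unusedSectionVars false
set_option linter.style.haveILetI false

namespace Cfsg.Agent.U3Recog

open Subgroup Cfsg.Agent.Unitary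

variable {F : Type*} [Field F] [Fintype F] {q : ℕ}

section slHom

variable (hF : Fintype.card F = q ^ 2) {δ : F} (hδ0 : δ ≠ 0) (hδ : δ ^ q = -δ)

theorem slEntry_fixed (g : Matrix.SpecialLinearGroup (Fin 2) (fixedField hF)) (i j : Fin 2) :
    ((g.1 i j : fixedField hF) : F) ^ q = (g.1 i j : F) := (g.1 i j).2

theorem slDet (g : Matrix.SpecialLinearGroup (Fin 2) (fixedField hF)) :
    (g.1 0 0 : F) * (g.1 1 1 : F) - (g.1 0 1 : F) * (g.1 1 0 : F) = 1 := by
  have h := g.2
  rw [Matrix.det_fin_two] at h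
  simpa using congrArg (fun x : fixedField hF => (x : F)) h

/-- The element of `U2` with entries `a, b δ, c / δ, d`. -/
noncomputable def slEl (g : Matrix.SpecialLinearGroup (Fin 2) (fixedField hF)) : U2 F q :=
  mk4 hF (g.1 0 0 : F) ((g.1 0 1 : F) * δ) ((g.1 1 0 : F) / δ) (g.1 1 1 : F)
    (by rw [div_pow, slEntry_fixed, slEntry_fixed, hδ, div_neg]; ring)
    (by rw [mul_pow, slEntry_fixed, slEntry_fixed, hδ]; ring)
    (by
      rw [mul_pow, slEntry_fixed, slEntry_fixed, hδ]
      field_simp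
      linear_combination slDet hF g)

theorem slEl_entries (g : Matrix.SpecialLinearGroup (Fin 2) (fixedField hF)) :
    e00 (slEl hF hδ0 hδ g) = (g.1 0 0 : F) ∧ e01 (slEl hF hδ0 hδ g) = (g.1 0 1 : F) * δ ∧
      e10 (slEl hF hδ0 hδ g) = (g.1 1 0 : F) / δ ∧ e11 (slEl hF hδ0 hδ g) = (g.1 1 1 : F) :=
  mk4_entries hF _ _ _ _ _ _ _

/-- `SL(2, q)` inside `U2`. -/
noncomputable def slHom : Matrix.SpecialLinearGroup (Fin 2) (fixedField hF) →* U2 F q where
  toFun := slEl hF hδ0 hδ
  map_one' := by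
    obtain ⟨a, b, c, d⟩ := slEl_entries hF hδ0 hδ 1
    apply ext4 <;> simp [a, b, c, d]
  map_mul' g g' := by
    obtain ⟨a, b, c, d⟩ := slEl_entries hF hδ0 hδ (g * g')
    obtain ⟨a1, b1, c1, d1⟩ := slEl_entries hF hδ0 hδ g
    obtain ⟨a2, b2, c2, d2⟩ := slEl_entries hF hδ0 hδ g'
    apply ext4 <;>
      simp [a, b, c, d, a1, b1, c1, d1, a2, b2, c2, d2, Matrix.mul_apply, Fin.sum_univ_two] <;>
      field_simp

theorem slHom_injective : Function.Injective (slHom hF hδ0 hδ) := fun g g' h => by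
  obtain ⟨a1, b1, c1, d1⟩ := slEl_entries hF hδ0 hδ g
  obtain ⟨a2, b2, c2, d2⟩ := slEl_entries hF hδ0 hδ g'
  refine Subtype.ext (Matrix.ext fun i j => Subtype.ext ?_)
  fin_cases i <;> fin_cases j
  · exact a1.symm.trans ((congrArg e00 h).trans a2)
  · exact mul_right_cancel₀ hδ0 (b1.symm.trans ((congrArg e01 h).trans b2))
  · exact (div_left_inj' hδ0).1 (c1.symm.trans ((congrArg e10 h).trans c2))
  · exact d1.symm.trans ((congrArg e11 h).trans d2)

theorem det2_slHom (g : Matrix.SpecialLinearGroup (Fin 2) (fixedField hF)) :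
    det2 (slHom hF hδ0 hδ g) = 1 := by
  obtain ⟨a, b, c, d⟩ := slEl_entries hF hδ0 hδ g
  change det2 (slEl hF hδ0 hδ g) = 1
  rw [det2, a, b, c, d]
  field_simp
  linear_combination slDet hF g

theorem mem_range_slHom {x : U2 F q} : x ∈ (slHom hF hδ0 hδ).range ↔ det2 x = 1 := by
  refine ⟨fun ⟨g, hg⟩ => hg ▸ det2_slHom hF hδ0 hδ g, fun hx => ?_⟩
  obtain ⟨h1, h2, h3, h4⟩ := eqs hF x
  have hx' : e00 x * e11 x - e01 x * e10 x = 1 := hx
  have f0 : e00 x ^ q = e00 x := by
    linear_combination e00 x * h4 - e01 x * h1 - e00 x ^ q * hx'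
  have f3 : e11 x ^ q = e11 x := by
    linear_combination e11 x * h3 - e10 x * h2 - e11 x ^ q * hx'
  have f1 : e01 x ^ q = -e01 x := by
    linear_combination e00 x * h2 - e01 x * h3 - e01 x ^ q * hx'
  have f2 : e10 x ^ q = -e10 x := by
    linear_combination e11 x * h1 - e10 x * h4 - e10 x ^ q * hx'
  let M : Matrix (Fin 2) (Fin 2) (fixedField hF) :=
    !![⟨e00 x, f0⟩, ⟨e01 x / δ, show (e01 x / δ) ^ q = e01 x / δ by rw [div_pow, f1, hδ, neg_div_neg_eq]⟩;
      ⟨e10 x * δ, show (e10 x * δ) ^ q = e10 x * δ by rw [mul_pow, f2, hδ, neg_mul_neg]⟩, ⟨e11 x, f3⟩]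
  refine ⟨⟨M, ?_⟩, ?_⟩
  · refine Subtype.ext ?_
    simp only [M, Matrix.det_fin_two_of]
    push_cast
    field_simp
    linear_combination hx'
  · obtain ⟨a, b, c, d⟩ := slEl_entries hF hδ0 hδ (⟨M, by
      refine Subtype.ext ?_
      simp only [M, Matrix.det_fin_two_of]
      push_cast
      field_simp
      linear_combination hx'⟩ : Matrix.SpecialLinearGroup (Fin 2) (fixedField hF))
    refine ext4 (a.trans ?_) (b.trans ?_) (c.trans ?_) (d.trans ?_) <;> simp [M, hδ0]

end slHom

namespace PreData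

variable {G : Type*} [Group G] [Finite G] (D : PreData G F q)
include D

/-- The noncentral involution belonging to a vector of norm two. -/
noncomputable def invol (z : {z : F × F // h2 q z z = 2}) : U2 F q :=
  sA D.hF D.two_ne z.1 z.2 * wn D.hF * (sA D.hF D.two_ne z.1 z.2)⁻¹

theorem invol_sq (z : {z : F × F // h2 q z z = 2}) : D.invol z * D.invol z = 1 := by
  simp only [invol]
  rw [show ∀ a b : U2 F q, a * b * a⁻¹ * (a * b * a⁻¹) = a * (b * b) * a⁻¹ from fun a b => by group,
    wn_mul_self, mul_one, mul_inv_cancel]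

theorem π_invol (z : {z : F × F // h2 q z z = 2}) :
    orderOf (D.π (D.invol z)) = 2 ∧ D.π (D.invol z) ≠ D.t := by
  have e : D.π (D.invol z) = D.π (sA D.hF D.two_ne z.1 z.2) * D.w *
      (D.π (sA D.hF D.two_ne z.1 z.2))⁻¹ := by
    rw [invol, map_mul, map_mul, map_inv]; rfl
  refine ⟨by rw [e, Involution.orderOf_conj, D.orderOf_w], fun h => D.w_ne_t ?_⟩
  rw [e] at h
  have hc := (D.comm_t (sA D.hF D.two_ne z.1 z.2)).eq
  calc D.w = (D.π (sA D.hF D.two_ne z.1 z.2))⁻¹ * (D.π (sA D.hF D.two_ne z.1 z.2) * D.w *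
        (D.π (sA D.hF D.two_ne z.1 z.2))⁻¹) * D.π (sA D.hF D.two_ne z.1 z.2) := by group
    _ = D.t := by rw [h, mul_assoc, ← hc, inv_mul_cancel_left]

theorem invol_fix (z : {z : F × F // h2 q z z = 2}) :
    act (D.invol z) z.1 = (-z.1.1, -z.1.2) := by
  set A := sA D.hF D.two_ne z.1 z.2 with hA
  have hz : act A (1, 1) = z.1 := act_sA D.hF D.two_ne z.1 z.2
  rw [invol, ← hA]
  conv_lhs => arg 2; rw [← hz]
  rw [act_mul, ← act_mul A⁻¹, inv_mul_cancel, act_one, act_mul]
  obtain ⟨w0, w1, w2, w3⟩ := wn_entries D.hF (q := q)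
  rw [show act (wn D.hF (q := q)) (1, 1) = ((-1 : F), -1) by simp [act, w0, w1, w2, w3], ← hz]
  simp only [act]
  ext <;> simp <;> ring

theorem invol_eq_iff (z z' : {z : F × F // h2 q z z = 2}) :
    D.invol z = D.invol z' ↔ ∃ l : F, l ^ (q + 1) = 1 ∧ z'.1 = (l * z.1.1, l * z.1.2) := by
  set A := sA D.hF D.two_ne z.1 z.2 with hA
  set A' := sA D.hF D.two_ne z'.1 z'.2 with hA'
  have hz : act A (1, 1) = z.1 := act_sA D.hF D.two_ne z.1 z.2
  have hz' : act A' (1, 1) = z'.1 := act_sA D.hF D.two_ne z'.1 z'.2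
  constructor
  · intro h
    set y := act A⁻¹ z'.1 with hy
    have hw : act (wn D.hF) y = (-y.1, -y.2) := by
      have h1 := D.invol_fix z'
      rw [← h, invol, ← hA, act_mul, act_mul, ← hy] at h1
      have h2' := congrArg (act A⁻¹) h1
      rw [← act_mul, inv_mul_cancel, act_one] at h2'
      rw [h2', hy]
      simp only [act]
      ext <;> simp <;> ring
    obtain ⟨w0, w1, w2, w3⟩ := wn_entries D.hF (q := q)
    have hy12 : y.2 = y.1 := by
      have := congrArg Prod.fst hw
      simpa [act, w0, w1, w2, w3] using this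
    have hn : h2 q y y = 2 := by rw [hy, h2_act, z'.2]
    refine ⟨y.1, ?_, ?_⟩
    · simp only [h2, hy12] at hn
      rw [pow_succ]
      refine mul_left_cancel₀ D.two_ne ?_
      linear_combination hn
    · have : act A y = z'.1 := by rw [hy, ← act_mul, mul_inv_cancel, act_one]
      rw [← this, show y = (y.1, y.1) from Prod.ext rfl hy12]
      conv_rhs => rw [← hz]
      simp only [act]
      ext <;> simp <;> ring
  · rintro ⟨l, hl, hzl⟩
    set M := A⁻¹ * A' with hM
    have hMfix : act M (1, 1) = (l, l) := by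
      have e : act A (l, l) = z'.1 := by
        rw [hzl]
        conv_rhs => rw [← hz]
        simp only [act]
        ext <;> simp <;> ring
      rw [hM, act_mul, hz', ← e, ← act_mul, inv_mul_cancel, act_one]
    have hMd : det2 M = 1 := by
      rw [hM, det2_mul, det2_inv D.hF, hA, hA', det2_sA, det2_sA, inv_one, one_mul]
    have hMw : M * wn D.hF = wn D.hF * M := by
      have e := eq_sA D.hF D.two_ne hMd
      obtain ⟨a, b, c, d⟩ := sA_entries D.hF D.two_ne (act M (1, 1)) (h2_act_one D.hF M)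
      rw [← e] at a b c d
      simp only [hMfix] at a b c d
      obtain ⟨w0, w1, w2, w3⟩ := wn_entries D.hF (q := q)
      apply ext4 <;> simp [a, b, c, d, w0, w1, w2, w3]
    have hA'M : A' = A * M := by rw [hM]; group
    simp only [invol]
    rw [← hA, ← hA', hA'M, mul_inv_rev]
    calc A * wn D.hF * A⁻¹ = A * (wn D.hF * M * M⁻¹) * A⁻¹ := by group
      _ = A * (M * wn D.hF * M⁻¹) * A⁻¹ := by rw [hMw]
      _ = _ := by group

/-- The involutions of the centraliser other than `t`. -/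
theorem card_involutions :
    Nat.card {x : centralizer ({D.t} : Set G) // orderOf x = 2 ∧ (x : G) ≠ D.t} = q * (q - 1) := by
  classical
  set S := {x : centralizer ({D.t} : Set G) // orderOf x = 2 ∧ (x : G) ≠ D.t}
  let f : {z : F × F // h2 q z z = 2} → S := fun z => ⟨⟨D.π (D.invol z), D.mem_C _⟩,
    by rw [Subgroup.orderOf_mk]; exact (D.π_invol z).1, (D.π_invol z).2⟩
  have hinj : ∀ z z', f z = f z' → D.invol z = D.invol z' := fun z z' h => by
    have h' : D.π (D.invol z) = D.π (D.invol z') := congrArg (fun x : S => (x.1 : G)) h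
    refine D.eq_of_det h' ?_
    simp only [invol, det2_mul, det2_inv D.hF, det2_sA]
  have hfib : ∀ x : S, Nat.card {z // f z = x} = q + 1 := by
    intro x
    obtain ⟨z, hz, he⟩ := D.exists_involution_conj x.1.2
      (by rw [Subgroup.orderOf_coe]; exact x.2.1) x.2.2
    set z₀ : {z : F × F // h2 q z z = 2} := ⟨z, hz⟩
    have hx : f z₀ = x := Subtype.ext (Subtype.ext (by
      show D.π (D.invol z₀) = _
      rw [he, invol, map_mul, map_mul, map_inv]; rfl))
    have hmem : ∀ l : {l : F // l ^ (q + 1) = 1}, h2 q (l.1 * z.1, l.1 * z.2) (l.1 * z.1, l.1 * z.2) = 2 := by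
      intro l
      have hl := l.2
      rw [pow_succ] at hl
      have hz2 := hz
      simp only [h2, mul_pow] at hz2 ⊢
      linear_combination 2 * hl + l.1 * l.1 ^ q * hz2
    rw [← card_pow_eq_one D.hF (d := q + 1) (Nat.succ_ne_zero q) (q_succ_dvd q)]
    refine (Nat.card_congr (Equiv.ofBijective (fun l : {l : F // l ^ (q + 1) = 1} =>
      (⟨⟨_, hmem l⟩, ?_⟩ : {z' // f z' = x})) ⟨?_, ?_⟩)).symm
    · rw [← hx]
      refine Subtype.ext (Subtype.ext (congrArg D.π ?_))
      exact ((D.invol_eq_iff z₀ ⟨_, hmem l⟩).2 ⟨l.1, l.2, rfl⟩).symm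
    · intro l l' h
      have h' : (l.1 * z.1, l.1 * z.2) = (l'.1 * z.1, l'.1 * z.2) := congrArg (fun w => w.1.1) h
      refine Subtype.ext ?_
      by_cases h1 : z.1 = 0
      · refine mul_right_cancel₀ (fun h0 => D.two_ne ?_) (congrArg Prod.snd h')
        simpa [h2, h1, h0, zero_pow_q D.hF] using hz.symm
      · exact mul_right_cancel₀ h1 (congrArg Prod.fst h')
    · rintro ⟨z', hz'⟩
      obtain ⟨l, hl, hl'⟩ := (D.invol_eq_iff z₀ z').1 (hinj _ _ (hx.trans hz'.symm))
      exact ⟨⟨l, hl⟩, Subtype.ext (Subtype.ext hl'.symm)⟩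
  have hsum : Nat.card {z : F × F // h2 q z z = 2} = Nat.card S * (q + 1) := by
    haveI := Fintype.ofFinite S
    rw [← Nat.card_congr (Equiv.sigmaFiberEquiv f), Nat.card_sigma, Finset.sum_congr rfl fun x _ => hfib x,
      Finset.sum_const, Finset.card_univ, smul_eq_mul, Nat.card_eq_fintype_card (α := S)]
  rw [card_norm_two D.hF D.two_ne] at hsum
  refine Nat.eq_of_mul_eq_mul_right (Nat.succ_pos q) ?_
  rw [← hsum, show q ^ 2 - 1 = (q + 1) * (q - 1) by simpa using Nat.sq_sub_sq q 1,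
    Nat.succ_eq_add_one]
  ring

end PreData

end Cfsg.Agent.U3Recog
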