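import Cfsg.Agent.Lib.U3Order.WeylBlock

/-!
# The order step of `PSU₃(q)`: the Sylow `2`-subgroup of the automiser in dimension three (owner: helper40)

* `WeylHyp` : a subgroup of `GL₃(r)` of determinant `±1` with a semidihedral involution centraliser
* `WeylHyp.SD` : its semidihedral Sylow `2`-subgroup
* `WeylHyp.involution_conj` : the involutions have determinant one and form one class
-/

set_option autoImplicit false
set_option linter.unusedSectionVars false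
set_option linter.style.haveILetI false

namespace Cfsg.Agent.U3Order

open Matrix

/-- The group `GL₃(r)`. -/
abbrev GLr (r : ℕ) : Type := GL (Fin 3) (ZMod r)

/-- The determinant. -/
abbrev dt {r : ℕ} (g : GLr r) : ZMod r := (g : Matrix (Fin 3) (Fin 3) (ZMod r)).det

theorem dt_mul {r : ℕ} (g h : GLr r) : dt (g * h) = dt g * dt h := by
  rw [dt, Units.val_mul, Matrix.det_mul]

theorem dt_one {r : ℕ} : dt (1 : GLr r) = 1 := by rw [dt, Units.val_one, Matrix.det_one]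

theorem dt_pow {r : ℕ} (g : GLr r) (k : ℕ) : dt (g ^ k) = dt g ^ k := by
  rw [dt, Units.val_pow_eq_pow_val, Matrix.det_pow]

theorem dt_inv_mul {r : ℕ} (g : GLr r) : dt g⁻¹ * dt g = 1 := by rw [← dt_mul, inv_mul_cancel, dt_one]

theorem dt_conj {r : ℕ} (g h : GLr r) : dt (g * h * g⁻¹) = dt h := by
  rw [dt_mul, dt_mul, mul_comm (dt g), mul_assoc, mul_comm (dt g), dt_inv_mul, mul_one]

/-- A subgroup of `GL₃(r)` of determinant `±1` with a semidihedral involution centraliser. -/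
structure WeylHyp (r v : ℕ) (W T : Subgroup (GLr r)) (t w σ y : GLr r) : Prop where
  prime : r.Prime
  r_ne_two : r ≠ 2
  three_le : 3 ≤ v
  det : ∀ g ∈ W, dt g = 1 ∨ dt g = -1
  t_val : (t : Matrix (Fin 3) (Fin 3) (ZMod r)) = tMat
  w_val : (w : Matrix (Fin 3) (Fin 3) (ZMod r)) = wMat
  t_mem : t ∈ T
  w_mem : w ∈ W
  y_mem : y ∈ W
  σ_mem : σ ∈ T
  le : T ≤ W
  cyclic : IsCyclic T
  order_σ : orderOf σ = 2 ^ v
  two_part : ¬ 2 ^ (v + 1) ∣ Nat.card T
  w_conj_σ : w * σ * w⁻¹ = σ⁻¹ * t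
  T_block : ∀ g ∈ T, IsBlock (g : Matrix (Fin 3) (Fin 3) (ZMod r)) ∧
    (g : Matrix (Fin 3) (Fin 3) (ZMod r)) 0 0 = 1
  cent : ∀ g ∈ W, Commute g t → g ∈ T ∨ g * w ∈ T
  yt : y * t * y⁻¹ = w

namespace WeylHyp

variable {r v : ℕ} [Fact r.Prime] {W T : Subgroup (GLr r)} {t w σ y : GLr r}
  (H : WeylHyp r v W T t w σ y)
include H

theorem two_ne : (2 : ZMod r) ≠ 0 := by
  intro e
  have h : ((2 : ℕ) : ZMod r) = 0 := by exact_mod_cast e
  rw [ZMod.natCast_eq_zero_iff] at h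
  exact H.r_ne_two ((Nat.prime_dvd_prime_iff_eq H.prime Nat.prime_two).1 h)

theorem neg_one_ne : (-1 : ZMod r) ≠ 1 := fun e => H.two_ne (by linear_combination -e)

theorem mul_self_t : t * t = 1 := Units.ext (by
  rw [Units.val_mul, H.t_val, tMat, Matrix.diagonal_mul_diagonal, Units.val_one, ← Matrix.diagonal_one]
  congr 1; funext i; fin_cases i <;> simp)

theorem mul_self_w : w * w = 1 := Units.ext (by
  rw [Units.val_mul, H.w_val, wMat, Matrix.diagonal_mul_diagonal, Units.val_one, ← Matrix.diagonal_one]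
  congr 1; funext i; fin_cases i <;> simp)

theorem inv_w : w⁻¹ = w := inv_eq_of_mul_eq_one_right H.mul_self_w

theorem comm_tw : Commute w t := Units.ext (by
  rw [Units.val_mul, Units.val_mul, H.t_val, H.w_val, tMat, wMat, Matrix.diagonal_mul_diagonal,
    Matrix.diagonal_mul_diagonal]
  congr 1; funext i; fin_cases i <;> simp)

theorem t_ne_one : t ≠ 1 := fun e => by
  have h := congrFun (congrFun (congrArg (fun g : GLr r => (g : Matrix (Fin 3) (Fin 3) (ZMod r))) e) 1) 1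
  simp [H.t_val, tMat] at h
  exact H.neg_one_ne h

theorem w_ne_one : w ≠ 1 := fun e => by
  have h := congrFun (congrFun (congrArg (fun g : GLr r => (g : Matrix (Fin 3) (Fin 3) (ZMod r))) e) 0) 0
  simp [H.w_val, wMat] at h
  exact H.neg_one_ne h

theorem order_t : orderOf t = 2 := orderOf_eq_prime (by rw [pow_two, H.mul_self_t]) H.t_ne_one

theorem order_w : orderOf w = 2 := orderOf_eq_prime (by rw [pow_two, H.mul_self_w]) H.w_ne_one

theorem w_not_mem : w ∉ T := fun h => by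
  have h1 := (H.T_block w h).2
  simp [H.w_val, wMat] at h1
  exact H.neg_one_ne h1

theorem dt_t : dt t = 1 := by
  rw [dt, H.t_val, tMat, Matrix.det_diagonal, Fin.prod_univ_three]; simp

theorem dt_w : dt w = 1 := by
  rw [dt, H.w_val, wMat, Matrix.det_diagonal, Fin.prod_univ_three]; simp

theorem comm_T {g h : GLr r} (hg : g ∈ T) (hh : h ∈ T) : Commute g h := by
  haveI := H.cyclic
  obtain ⟨c, hc⟩ := IsCyclic.exists_generator (α := T)
  obtain ⟨i, hi⟩ := hc ⟨g, hg⟩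
  obtain ⟨j, hj⟩ := hc ⟨h, hh⟩
  have hi' : (c : GLr r) ^ i = g := by simpa using congrArg Subtype.val hi
  have hj' : (c : GLr r) ^ j = h := by simpa using congrArg Subtype.val hj
  rw [← hi', ← hj']
  exact Commute.zpow_zpow_self (c : GLr r) i j

theorem comm_t {g : GLr r} (hg : g ∈ T) : Commute g t := H.comm_T hg H.t_mem

/-- The involution of the torus is `t`. -/
theorem involution_T {x : GLr r} (hx : x ∈ T) (hxo : x * x = 1) : x = 1 ∨ x = t := by
  classical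
  haveI := H.cyclic
  haveI : Fintype T := Fintype.ofFinite _
  by_contra hcon
  push Not at hcon
  have h2 := IsCyclic.card_pow_eq_one_le (α := T) (n := 2) (by norm_num)
  have hsub : ({1, ⟨t, H.t_mem⟩, ⟨x, hx⟩} : Finset T) ⊆ ({z : T | z ^ 2 = 1} : Finset T) := by
    intro z hz
    simp only [Finset.mem_insert, Finset.mem_singleton] at hz
    simp only [Finset.mem_filter, Finset.mem_univ, true_and, pow_two]
    rcases hz with rfl | rfl | rfl
    · simp
    · exact Subtype.ext H.mul_self_t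
    · exact Subtype.ext hxo
  have h3 := (Finset.card_le_card hsub).trans h2
  rw [Finset.card_insert_of_notMem, Finset.card_pair] at h3
  · omega
  · exact fun e => hcon.2 (congrArg Subtype.val e).symm
  · simp only [Finset.mem_insert, Finset.mem_singleton, not_or]
    exact ⟨fun e => H.t_ne_one (congrArg Subtype.val e).symm, fun e => hcon.1 (congrArg Subtype.val e).symm⟩

theorem t_eq : σ ^ 2 ^ (v - 1) = t := by
  have h3 := H.three_le
  refine (H.involution_T (pow_mem H.σ_mem _) ?_).resolve_left ?_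
  · rw [← pow_add, ← two_mul, ← pow_succ', show v - 1 + 1 = v by omega, ← H.order_σ, pow_orderOf_eq_one]
  · refine pow_ne_one_of_lt_orderOf (by positivity) ?_
    rw [H.order_σ]; exact Nat.pow_lt_pow_right (by norm_num) (by omega)

theorem σ_sq_ne : σ * σ ≠ t := fun e => by
  have h : σ ^ 4 = 1 := by
    rw [pow_succ, pow_succ, pow_two, mul_assoc (σ * σ) σ σ, e, H.mul_self_t]
  have h1 := Nat.le_of_dvd (by norm_num) (orderOf_dvd_of_pow_eq_one h)
  rw [H.order_σ] at h1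
  have h2 : 2 ^ 3 ≤ 2 ^ v := Nat.pow_le_pow_right (by norm_num) H.three_le
  omega

theorem σ_entries : (σ : Matrix (Fin 3) (Fin 3) (ZMod r)) 1 1 = (σ : Matrix (Fin 3) (Fin 3) (ZMod r)) 2 2 ∧
    (σ : Matrix (Fin 3) (Fin 3) (ZMod r)) 1 2 ≠ 0 ∧ (σ : Matrix (Fin 3) (Fin 3) (ZMod r)) 2 1 ≠ 0 ∧
    dt σ = -1 := by
  obtain ⟨hb, h00⟩ := H.T_block σ H.σ_mem
  have e : σ * (w * σ * w) = t := by
    nth_rw 2 [← H.inv_w]; rw [H.w_conj_σ, mul_inv_cancel_left]
  refine sd_entries H.two_ne hb h00 ?_ (fun e1 => H.σ_sq_ne (Units.ext (by rw [Units.val_mul, e1, H.t_val])))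
    (k := v - 2) ?_
  · rw [← H.w_val, ← H.t_val, ← Units.val_mul, ← Units.val_mul, ← Units.val_mul, e]
  · have h3 := H.three_le
    rw [show 4 * 2 ^ (v - 2) = 2 ^ v by
      rw [show (4 : ℕ) = 2 ^ 2 by norm_num, ← pow_add, show 2 + (v - 2) = v by omega],
      ← Units.val_pow_eq_pow_val, ← H.order_σ, pow_orderOf_eq_one, Units.val_one]

theorem dt_σ : dt σ = -1 := H.σ_entries.2.2.2

theorem w_conj_σ_pow (k : ℕ) : ∃ m : ℕ, w * σ ^ k * w⁻¹ = σ ^ m := by
  have hmem : σ⁻¹ * t ∈ Submonoid.powers σ := by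
    rw [← H.t_eq]
    exact Submonoid.mul_mem _ (mem_powers_iff_mem_zpowers.2 (inv_mem (Subgroup.mem_zpowers σ)))
      (Submonoid.pow_mem _ (Submonoid.mem_powers σ) _)
  obtain ⟨m, hm⟩ := hmem
  refine ⟨m * k, ?_⟩
  rw [← conj_pow, H.w_conj_σ, ← hm, ← pow_mul]

/-- The semidihedral group `⟨σ, w⟩`. -/
def SD : Subgroup (GLr r) where
  carrier := {g | ∃ k : ℕ, g = σ ^ k ∨ g = σ ^ k * w}
  one_mem' := ⟨0, Or.inl (by simp)⟩
  mul_mem' := by
    rintro a b ⟨i, hi⟩ ⟨j, hj⟩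
    obtain ⟨m, hm⟩ := H.w_conj_σ_pow j
    rw [mul_inv_eq_iff_eq_mul] at hm
    rcases hi with rfl | rfl <;> rcases hj with rfl | rfl
    · exact ⟨i + j, Or.inl (pow_add σ i j).symm⟩
    · exact ⟨i + j, Or.inr (by rw [pow_add, mul_assoc])⟩
    · exact ⟨i + m, Or.inr (by rw [mul_assoc, hm, ← mul_assoc, ← pow_add])⟩
    · refine ⟨i + m, Or.inl ?_⟩
      rw [mul_assoc, ← mul_assoc w (σ ^ j), hm, mul_assoc, H.mul_self_w, mul_one, pow_add]
  inv_mem' := by
    rintro a ⟨i, hi⟩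
    obtain ⟨n, hn⟩ : ∃ n : ℕ, (σ ^ i)⁻¹ = σ ^ n := by
      obtain ⟨n, hn⟩ := mem_powers_iff_mem_zpowers.2 (inv_mem (Subgroup.npow_mem_zpowers σ i))
      exact ⟨n, hn.symm⟩
    rcases hi with rfl | rfl
    · exact ⟨n, Or.inl hn⟩
    · obtain ⟨m, hm⟩ := H.w_conj_σ_pow n
      refine ⟨m, Or.inr ?_⟩
      rw [_root_.mul_inv_rev, hn, H.inv_w, ← hm, mul_assoc, H.inv_w, mul_assoc, H.mul_self_w, mul_one]

theorem σ_mem_SD : σ ∈ H.SD := ⟨1, Or.inl (pow_one σ).symm⟩

theorem w_mem_SD : w ∈ H.SD := ⟨0, Or.inr (by simp)⟩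

theorem t_mem_SD : t ∈ H.SD := ⟨_, Or.inl H.t_eq.symm⟩

theorem SD_le : H.SD ≤ W := by
  rintro g ⟨k, rfl | rfl⟩
  · exact pow_mem (H.le H.σ_mem) k
  · exact mul_mem (pow_mem (H.le H.σ_mem) k) H.w_mem

theorem σ_pow_order (k : ℕ) : (σ ^ k) ^ 2 ^ v = 1 := by
  rw [← pow_mul, mul_comm, pow_mul, ← H.order_σ, pow_orderOf_eq_one, one_pow]

theorem isPGroup_SD : IsPGroup 2 H.SD := by
  intro g
  obtain ⟨k, hk⟩ := g.2
  refine ⟨v + 1, Subtype.ext ?_⟩
  rw [Subgroup.coe_pow, Subgroup.coe_one, pow_succ', pow_mul]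
  rcases hk with e | e <;> rw [e]
  · rw [← pow_mul σ]; exact H.σ_pow_order _
  · obtain ⟨m, hm⟩ := H.w_conj_σ_pow k
    have h2 : (σ ^ k * w) ^ 2 = σ ^ (k + m) := by
      rw [pow_two, mul_assoc, ← mul_assoc w, ← H.inv_w]
      nth_rw 1 [H.inv_w]
      rw [hm, pow_add]
    rw [h2]; exact H.σ_pow_order _

theorem pow_four_of_SD {k : ℕ} (hk : Odd k) : (σ ^ k * w) ^ 4 = 1 ∧ σ ^ k * w * (σ ^ k * w) = t := by
  have hst : Commute σ t := H.comm_t H.σ_mem
  obtain ⟨j, rfl⟩ := hk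
  have e : w * σ ^ (2 * j + 1) * w⁻¹ = (σ ^ (2 * j + 1))⁻¹ * t := by
    rw [← conj_pow, H.w_conj_σ, hst.inv_left.mul_pow, inv_pow, pow_succ t, pow_mul, pow_two, H.mul_self_t,
      one_pow, one_mul]
  have h2 : σ ^ (2 * j + 1) * w * (σ ^ (2 * j + 1) * w) = t := by
    calc σ ^ (2 * j + 1) * w * (σ ^ (2 * j + 1) * w)
        = σ ^ (2 * j + 1) * (w * σ ^ (2 * j + 1) * w⁻¹) := by rw [H.inv_w]; simp only [mul_assoc]
      _ = t := by rw [e, mul_inv_cancel_left]
  refine ⟨?_, h2⟩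
  rw [show (4 : ℕ) = 2 * 2 by norm_num, pow_mul, pow_two, pow_two, h2, H.mul_self_t]

/-- `SD` is a maximal `2`-subgroup. -/
theorem SD_max {P : Subgroup (GLr r)} (hP : IsPGroup 2 P) (hPW : P ≤ W) (hle : H.SD ≤ P) : P = H.SD := by
  classical
  haveI := Fact.mk Nat.prime_two
  haveI : Nontrivial P := ⟨⟨t, hle H.t_mem_SD⟩, 1, fun e => H.t_ne_one (congrArg Subtype.val e)⟩
  haveI := hP.center_nontrivial
  obtain ⟨d, hd⟩ := exists_ne (1 : Subgroup.center P)
  obtain ⟨j, hj⟩ := IsPGroup.iff_orderOf.1 (hP.to_subgroup (Subgroup.center P)) d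
  obtain ⟨i, rfl⟩ : ∃ i, j = i + 1 := ⟨j - 1, by
    rcases j with _ | j
    · exact absurd (orderOf_eq_one_iff.1 (by rwa [pow_zero] at hj)) hd
    · rfl⟩
  set z : GLr r := (((d ^ 2 ^ i : Subgroup.center P) : P) : GLr r)
  have hzo : orderOf z = 2 := by
    show orderOf (((d ^ 2 ^ i : Subgroup.center P) : P) : GLr r) = 2
    rw [Subgroup.orderOf_coe, Subgroup.orderOf_coe, orderOf_pow' _ (by positivity), hj,
      Nat.gcd_eq_right (pow_dvd_pow 2 (Nat.le_succ i)), pow_succ, Nat.mul_div_cancel_left _ (by positivity)]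
  have hzc : ∀ g ∈ P, Commute z g := fun g hg =>
    (congrArg (fun x : P => (x : GLr r)) (Subgroup.mem_center_iff.1 (d ^ 2 ^ i).2 ⟨g, hg⟩)).symm
  have hzW : z ∈ W := hPW ((d ^ 2 ^ i : Subgroup.center P) : P).2
  have hzT : z ∈ T := (H.cent z hzW (hzc t (hle H.t_mem_SD))).resolve_right fun h => by
    have h1 : Commute w σ := by
      have h2 : Commute (z * w) σ := H.comm_T h H.σ_mem
      have h3 := ((hzc σ (hle H.σ_mem_SD)).inv_left).mul_left h2
      rwa [inv_mul_cancel_left] at h3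
    have e := H.w_conj_σ
    rw [h1.eq, mul_inv_cancel_right, eq_comm, inv_mul_eq_iff_eq_mul] at e
    exact H.σ_sq_ne e.symm
  have hz2 : z * z = 1 := by rw [← pow_two, ← hzo, pow_orderOf_eq_one]
  have hzt : z = t := (H.involution_T hzT hz2).resolve_left fun e => by simp [e] at hzo
  haveI := H.cyclic
  haveI : Fintype T := Fintype.ofFinite _
  -- two-elements of the torus
  have hTσ : ∀ g ∈ T, g ∈ P → g ∈ H.SD := by
    intro g hg hgP
    obtain ⟨k, hk⟩ := IsPGroup.iff_orderOf.1 hP ⟨g, hgP⟩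
    rw [Subgroup.orderOf_mk] at hk
    have hkv : k ≤ v := by
      by_contra hlt
      exact H.two_part ((pow_dvd_pow 2 (by omega : v + 1 ≤ k)).trans
        (hk ▸ Subgroup.orderOf_dvd_natCard T hg))
    set σ' : T := ⟨σ, H.σ_mem⟩
    have hσ' : orderOf σ' = 2 ^ v := (Subgroup.orderOf_coe σ').symm.trans H.order_σ
    have hsub : (Subgroup.zpowers σ' : Set T).toFinset ⊆ ({x : T | x ^ 2 ^ v = 1} : Finset T) := fun x hx => by
      simp only [Finset.mem_filter, Finset.mem_univ, true_and]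
      obtain ⟨m, rfl⟩ := Set.mem_toFinset.1 hx
      rw [← _root_.zpow_natCast, ← _root_.zpow_mul, mul_comm, _root_.zpow_mul, _root_.zpow_natCast, ← hσ', pow_orderOf_eq_one, _root_.one_zpow]
    have heq := Finset.eq_of_subset_of_card_le hsub (by
      refine le_trans (IsCyclic.card_pow_eq_one_le (by positivity)) (le_of_eq ?_)
      rw [Set.toFinset_card, ← Nat.card_eq_fintype_card]
      exact hσ'.symm.trans (Nat.card_zpowers σ').symm)
    have hg' : (⟨g, hg⟩ : T) ∈ (Subgroup.zpowers σ' : Set T).toFinset := by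
      rw [heq]
      simp only [Finset.mem_filter, Finset.mem_univ, true_and]
      exact Subtype.ext (orderOf_dvd_iff_pow_eq_one.1 (hk ▸ pow_dvd_pow 2 hkv))
    obtain ⟨m, hm⟩ := Set.mem_toFinset.1 hg'
    have hm' : σ ^ m = g := by simpa using congrArg Subtype.val hm
    rw [← hm']; exact zpow_mem H.σ_mem_SD m
  refine le_antisymm (fun g hg => ?_) hle
  rcases H.cent g (hPW hg) (hzt ▸ (hzc g hg).symm) with h | h
  · exact hTσ g h hg
  · have := mul_mem (hTσ _ h (mul_mem hg (hle H.w_mem_SD))) H.w_mem_SD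
    rwa [mul_assoc, H.mul_self_w, mul_one] at this

/-- Every `2`-element is conjugate into `SD`. -/
theorem exists_conj_SD {g : GLr r} (hg : g ∈ W) {j : ℕ} (hgo : orderOf g = 2 ^ j) :
    ∃ h ∈ W, ∃ k : ℕ, h * g * h⁻¹ = σ ^ k ∨ h * g * h⁻¹ = σ ^ k * w := by
  haveI := Fact.mk Nat.prime_two
  obtain ⟨P, hP⟩ := (H.isPGroup_SD.comap_subtype (K := W)).exists_le_sylow
  have hPeq : (P : Subgroup W).map W.subtype = H.SD := H.SD_max (P.isPGroup'.map _) (Subgroup.map_subtype_le _)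
    fun x hx => ⟨⟨x, H.SD_le hx⟩, hP hx, rfl⟩
  set g' : W := ⟨g, hg⟩
  have hg'o : orderOf g' = 2 ^ j := (Subgroup.orderOf_coe g').symm.trans hgo
  obtain ⟨Q, hQ⟩ := (IsPGroup.of_card (n := j) (by rw [Nat.card_zpowers, hg'o]) :
    IsPGroup 2 (Subgroup.zpowers g')).exists_le_sylow
  obtain ⟨h, hh⟩ := MulAction.exists_smul_eq W Q P
  have h1 : h * g' * h⁻¹ ∈ (P : Subgroup W) := by
    rw [← hh]
    exact Subgroup.smul_mem_pointwise_smul g' (MulAut.conj h) _ (hQ (Subgroup.mem_zpowers g'))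
  obtain ⟨k, hk⟩ := hPeq ▸ Subgroup.mem_map_of_mem W.subtype h1
  exact ⟨h, h.2, k, by simpa using hk⟩

/-- Involutions have determinant one and are conjugate to `t` inside the special part. -/
theorem involution_conj {i : GLr r} (hi : i ∈ W) (hio : orderOf i = 2) :
    dt i = 1 ∧ ∃ h ∈ W, dt h = 1 ∧ h * t * h⁻¹ = i := by
  obtain ⟨h, hh, k, hk⟩ := H.exists_conj_SD hi (j := 1) (by rw [hio, pow_one])
  have ho : orderOf (h * i * h⁻¹) = 2 := (orderOf_injective (MulAut.conj h).toMonoidHom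
    (MulAut.conj h).injective i).trans hio
  suffices hex : ∃ g ∈ W, g * t * g⁻¹ = h * i * h⁻¹ by
    obtain ⟨g, hg, hgt⟩ := hex
    have e : h⁻¹ * g * t * (h⁻¹ * g)⁻¹ = i := by
      rw [show h⁻¹ * g * t * (h⁻¹ * g)⁻¹ = h⁻¹ * (g * t * g⁻¹) * h by group, hgt]; group
    refine ⟨by rw [← e, dt_conj, H.dt_t], ?_⟩
    have hx : h⁻¹ * g ∈ W := mul_mem (inv_mem hh) hg
    rcases H.det _ hx with h1 | h1
    · exact ⟨_, hx, h1, e⟩
    · refine ⟨h⁻¹ * g * σ, mul_mem hx (H.le H.σ_mem), by rw [dt_mul, h1, H.dt_σ]; ring, ?_⟩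
      rw [← e, show h⁻¹ * g * σ * t * (h⁻¹ * g * σ)⁻¹ = h⁻¹ * g * (σ * t * σ⁻¹) * (h⁻¹ * g)⁻¹ by group,
        (H.comm_t H.σ_mem).eq, mul_inv_cancel_right]
  rcases hk with e | e
  · refine ⟨1, one_mem W, ?_⟩
    rw [e] at ho ⊢
    rw [(H.involution_T (pow_mem H.σ_mem k) (by rw [← pow_two, ← ho, pow_orderOf_eq_one])).resolve_left
      (fun e1 => by simp [e1] at ho)]
    simp
  · rcases Nat.even_or_odd k with ⟨j, rfl⟩ | hodd
    · have hst : Commute σ t := H.comm_t H.σ_mem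
      have e1 : σ ^ j * w * (σ ^ j)⁻¹ = σ ^ (j + j) * w * t ^ j := by
        have e2 : w * σ ^ j * w⁻¹ = (σ ^ j)⁻¹ * t ^ j := by
          rw [← conj_pow, H.w_conj_σ, hst.inv_left.mul_pow, inv_pow]
        have e3 : w * (σ ^ j)⁻¹ = σ ^ j * w * t ^ j := by
          have e4 : w * (σ ^ j)⁻¹ * w⁻¹ = (t ^ j)⁻¹ * σ ^ j := by
            rw [← conj_inv, e2, _root_.mul_inv_rev, inv_inv]
          rw [mul_inv_eq_iff_eq_mul] at e4
          have ht2 : (t ^ j)⁻¹ = t ^ j := inv_eq_of_mul_eq_one_right (by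
            rw [← (Commute.refl t).mul_pow, H.mul_self_t, one_pow])
          rw [e4, ht2, ← (hst.pow_pow j j).eq, mul_assoc, mul_assoc, (H.comm_tw.pow_right j).eq]
        rw [mul_assoc, e3, pow_add]; simp only [mul_assoc]
      rcases Nat.even_or_odd j with ⟨i', rfl⟩ | ⟨i', rfl⟩
      · refine ⟨σ ^ (i' + i') * y, mul_mem (pow_mem (H.le H.σ_mem) _) H.y_mem, ?_⟩
        rw [show σ ^ (i' + i') * y * t * (σ ^ (i' + i') * y)⁻¹ =
          σ ^ (i' + i') * (y * t * y⁻¹) * (σ ^ (i' + i'))⁻¹ by group, H.yt, e1, e, pow_add t,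
          ← (Commute.refl t).mul_pow, H.mul_self_t, one_pow, mul_one]
      · have h3 := H.three_le
        have hρ : σ ^ 2 ^ (v - 2) * σ ^ 2 ^ (v - 2) = t := by
          rw [← pow_add, ← two_mul, ← pow_succ', show v - 2 + 1 = v - 1 by omega, H.t_eq]
        have e2 : σ ^ 2 ^ (v - 2) * w * (σ ^ 2 ^ (v - 2))⁻¹ = t * w := by
          obtain ⟨c, hc⟩ : 2 ∣ 2 ^ (v - 2) := dvd_pow_self 2 (by omega)
          have e4 : w * σ ^ 2 ^ (v - 2) * w⁻¹ = (σ ^ 2 ^ (v - 2))⁻¹ := by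
            rw [← conj_pow, H.w_conj_σ, hst.inv_left.mul_pow, inv_pow, hc, pow_mul t, pow_two, H.mul_self_t,
              one_pow, mul_one]
          rw [← e4, ← hρ, H.inv_w]
          simp only [← mul_assoc]
          rw [mul_assoc _ w w, H.mul_self_w, mul_one]
        refine ⟨σ ^ (2 * i' + 1) * σ ^ 2 ^ (v - 2) * y,
          mul_mem (mul_mem (pow_mem (H.le H.σ_mem) _) (pow_mem (H.le H.σ_mem) _)) H.y_mem, ?_⟩
        rw [show σ ^ (2 * i' + 1) * σ ^ 2 ^ (v - 2) * y * t * (σ ^ (2 * i' + 1) * σ ^ 2 ^ (v - 2) * y)⁻¹ =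
          σ ^ (2 * i' + 1) * (σ ^ 2 ^ (v - 2) * (y * t * y⁻¹) * (σ ^ 2 ^ (v - 2))⁻¹) * (σ ^ (2 * i' + 1))⁻¹
          by group, H.yt, e2, H.comm_tw.symm.eq]
        calc σ ^ (2 * i' + 1) * (w * t) * (σ ^ (2 * i' + 1))⁻¹
            = σ ^ (2 * i' + 1) * w * (σ ^ (2 * i' + 1))⁻¹ * (σ ^ (2 * i' + 1) * t * (σ ^ (2 * i' + 1))⁻¹) := by
              group
          _ = _ := by
              rw [e1, e, (hst.pow_left _).eq, mul_inv_cancel_right, pow_succ t, pow_mul, pow_two, H.mul_self_t,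
                one_pow, one_mul, mul_assoc, H.mul_self_t, mul_one]
    · exfalso
      obtain ⟨-, h2⟩ := H.pow_four_of_SD hodd
      rw [e, orderOf_eq_iff (by norm_num)] at ho
      have h3 := ho.1
      rw [pow_two, h2] at h3
      exact H.t_ne_one h3

end WeylHyp

end Cfsg.Agent.U3Order
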