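import Cfsg.Agent.EqLemmas
import Mathlib.RingTheory.Int.Basic
import Mathlib.Data.Nat.Factorization.Basic
import Mathlib.Tactic

/-!
# The arithmetic of Brauer's equations for `GU₂(q)`, `q ≡ 1 (mod 4)`

The index `I` of `C(t)` and the parameter `X` satisfy `I (X + q)² = q (q - 1)² (q + 1) X (X - 1)` and
`q² - X ∣ X (X - 1)`; if no odd prime divisor of `q - 1` divides `I` then `X = -q³`, apart from
`X = q² - q - 1` and two small cases.
-/

set_option autoImplicit false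
set_option linter.unusedVariables false

namespace Cfsg.Agent.U3Order

theorem dvd_of_sq_dvd_mul {a y M : ℤ} (h : a ^ 2 ∣ y * (y + a * M)) : a ∣ y := by
  rcases eq_or_ne a 0 with rfl | ha
  · simp at h ⊢; exact h
  obtain ⟨a', ha'⟩ := Int.gcd_dvd_left a y
  obtain ⟨y', hy'⟩ := Int.gcd_dvd_right a y
  have hd : (Int.gcd a y : ℤ) ≠ 0 := by
    simpa [Int.gcd_eq_zero_iff] using fun h => absurd h ha
  have hc : IsCoprime a' y' := by
    obtain ⟨u, v, huv⟩ : ∃ u v : ℤ, (Int.gcd a y : ℤ) = a * u + y * v :=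
      ⟨_, _, Int.gcd_eq_gcd_ab a y⟩
    exact ⟨u, v, mul_left_cancel₀ hd (by linear_combination -huv - u * ha' - v * hy')⟩
  generalize (Int.gcd a y : ℤ) = d at hd ha' hy'
  subst ha' hy'
  have h1 : a' ∣ y' * y' := by
    have h' : d ^ 2 * a' ^ 2 ∣ d ^ 2 * (y' * (y' + a' * M)) := by
      convert h using 1 <;> ring
    have h2 := (dvd_pow_self a' two_ne_zero).trans ((mul_dvd_mul_iff_left (pow_ne_zero 2 hd)).1 h')
    have h3 : a' ∣ y' * (a' * M) := dvd_mul_of_dvd_right (dvd_mul_right _ _) _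
    simpa [mul_add] using dvd_sub h2 h3
  exact mul_dvd_mul_left d (hc.dvd_of_dvd_mul_left h1)

variable {p n q I : ℕ} {X : ℤ}

theorem two_mul_pred_dvd (hq : 3 ≤ q) (h4 : q % 4 = 1) (hX0 : X ≠ 0) (hX1 : X ≠ 1)
    (hX4 : (X - 1) % 4 = 2) (hXQ : X + q ≠ 0) (hI : Odd I)
    (hr : ∀ r : ℕ, r.Prime → r ≠ 2 → r ∣ q - 1 → ¬ r ∣ I)
    (hE : (I : ℤ) * (X + q) ^ 2 = (q : ℤ) * ((q : ℤ) - 1) ^ 2 * ((q : ℤ) + 1) * (X * (X - 1))) :
    2 * ((q : ℤ) - 1) ∣ X + q := by
  have hnat : I * (X + q).natAbs ^ 2 =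
      q * (q - 1) ^ 2 * (q + 1) * (X.natAbs * (X - 1).natAbs) := by
    have h := congrArg Int.natAbs hE
    simp only [Int.natAbs_mul, Int.natAbs_pow, Int.natAbs_natCast] at h
    rwa [show ((q : ℤ) - 1).natAbs = q - 1 by omega,
      show ((q : ℤ) + 1).natAbs = q + 1 by omega] at h
  suffices h : 2 * (q - 1) ∣ (X + q).natAbs by
    have h' := Int.ofNat_dvd_left.2 h
    push_cast [Nat.cast_sub (show 1 ≤ q by omega)] at h'
    exact h'
  have hI0 : I ≠ 0 := fun e => by rw [e] at hI; exact absurd hI (by decide)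
  have hea : (X + q).natAbs ≠ 0 := by omega
  refine (Nat.factorization_le_iff_dvd (by omega) hea).1 fun r => ?_
  have hx0 : X.natAbs ≠ 0 := by omega
  have hx1 : (X - 1).natAbs ≠ 0 := by omega
  have hv := congrArg (fun x => x.factorization r) hnat
  simp only [Nat.factorization_mul hI0 (pow_ne_zero 2 hea),
    Nat.factorization_mul (mul_ne_zero (mul_ne_zero (show q ≠ 0 by omega)
      (pow_ne_zero 2 (show q - 1 ≠ 0 by omega))) (Nat.succ_ne_zero q)) (mul_ne_zero hx0 hx1),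
    Nat.factorization_mul (mul_ne_zero (show q ≠ 0 by omega)
      (pow_ne_zero 2 (show q - 1 ≠ 0 by omega))) (Nat.succ_ne_zero q),
    Nat.factorization_mul (show q ≠ 0 by omega) (pow_ne_zero 2 (show q - 1 ≠ 0 by omega)),
    Nat.factorization_mul hx0 hx1, Nat.factorization_pow, Finsupp.coe_add, Pi.add_apply,
    Finsupp.coe_smul, Pi.smul_apply, smul_eq_mul] at hv
  rw [Nat.factorization_mul two_ne_zero (show q - 1 ≠ 0 by omega), Finsupp.add_apply,
    Nat.prime_two.factorization, Finsupp.single_apply]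
  rcases eq_or_ne r 2 with rfl | hr2
  · have h0 : ∀ m, ¬ 2 ∣ m → m.factorization 2 = 0 := fun m hm =>
      Nat.factorization_eq_zero_of_not_dvd hm
    have h1 : ∀ m, m % 4 = 2 → m.factorization 2 = 1 := fun m hm => by
      obtain ⟨k, rfl⟩ : ∃ k, m = 2 * k := ⟨m / 2, by omega⟩
      rw [Nat.factorization_mul two_ne_zero (by omega), Finsupp.add_apply,
        Nat.prime_two.factorization_self, h0 k (by omega)]
    rw [h0 I (by rw [Nat.odd_iff] at hI; omega), h0 q (by omega), h1 (q + 1) (by omega),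
      h0 X.natAbs (by omega), h1 (X - 1).natAbs (by omega)] at hv
    rw [if_pos rfl]
    omega
  · rw [if_neg (Ne.symm hr2), zero_add]
    by_cases hrp : r.Prime ∧ r ∣ q - 1
    · rw [Nat.factorization_eq_zero_of_not_dvd (hr r hrp.1 hr2 hrp.2)] at hv
      omega
    · push Not at hrp
      rcases em r.Prime with h | h
      · rw [Nat.factorization_eq_zero_of_not_dvd (hrp h)]; exact Nat.zero_le _
      · rw [Nat.factorization_eq_zero_of_not_prime _ h]; exact Nat.zero_le _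

/-- The classification of the parameters. -/
theorem classify (hp : p.Prime) (hn : 1 ≤ n) (hqp : q = p ^ n) (h4 : q % 4 = 1) (hX0 : X ≠ 0)
    (hX1 : X ≠ 1) (hX4 : (X - 1) % 4 = 2) (hXQ : X ≠ -(q : ℤ)) (hdiv : (q : ℤ) ^ 2 - X ∣ X * (X - 1))
    (hI : Odd I) (hr : ∀ r : ℕ, r.Prime → r ≠ 2 → r ∣ q - 1 → ¬ r ∣ I)
    (hE : (I : ℤ) * (X + q) ^ 2 = (q : ℤ) * ((q : ℤ) - 1) ^ 2 * ((q : ℤ) + 1) * (X * (X - 1))) :
    X = -(q : ℤ) ^ 3 ∨ X = (q : ℤ) ^ 2 - q - 1 ∨ (q = 9 ∧ X = 135) ∨ (q = 5 ∧ X = 35) := by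
  have hp3 : 3 ≤ p := by
    rcases hp.eq_two_or_odd with h | h
    · exfalso
      rw [hqp, h, ← Nat.succ_pred_eq_of_pos hn, pow_succ] at h4
      omega
    · have := hp.two_le; omega
  have hq3 : 3 ≤ q := hqp ▸ hp3.trans (Nat.le_self_pow (by omega) p)
  have hpo : p % 2 = 1 := (hp.eq_two_or_odd).resolve_left (by omega)
  set Q : ℤ := (q : ℤ) with hQdef
  have hQ : Q = (p : ℤ) ^ n := by rw [hQdef, hqp]; push_cast; rfl
  obtain ⟨w, hw⟩ := two_mul_pred_dvd hq3 h4 hX0 hX1 hX4 (by omega) hI hr hE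
  obtain ⟨f, hf, hf2⟩ : ∃ f : ℤ, X + Q = (Q - 1) * f ∧ 2 ∣ f :=
    ⟨2 * w, by linear_combination hw, dvd_mul_right _ _⟩
  have hf0 : f ≠ 0 := by rintro rfl; apply hXQ; linear_combination hf
  -- `f ^ 2` divides `q (q + 1) X (X - 1)`
  have hE' : (I : ℤ) * f ^ 2 = Q * (Q + 1) * (X * (X - 1)) := by
    refine mul_left_cancel₀ (pow_ne_zero 2 (show Q - 1 ≠ 0 by omega)) ?_
    rw [hf] at hE
    linear_combination hE
  -- the divisor `q² - X`
  have hD1 : Q ^ 2 - X ∣ Q ^ 2 * (Q ^ 2 - 1) := by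
    have : Q ^ 2 * (Q ^ 2 - 1) = X * (X - 1) + (Q ^ 2 - X) * (Q ^ 2 + X - 1) := by ring
    rw [this]
    exact dvd_add hdiv (dvd_mul_right _ _)
  have hq4 : Q % 4 = 1 := by omega
  have hD2 : Q ^ 2 - X ∣ Q ^ 2 * (Q + 1) := by
    have hq2 : Q ^ 2 % 4 = 1 := by rw [pow_two, Int.mul_emod, hq4]; norm_num
    obtain ⟨D, hD⟩ : (2 : ℤ) ∣ Q ^ 2 - X := ⟨(Q ^ 2 - X) / 2, by omega⟩
    obtain ⟨m, hm⟩ : (2 : ℤ) ∣ Q + 1 := ⟨(Q + 1) / 2, by omega⟩
    obtain ⟨m', hm'⟩ : (2 : ℤ) ∣ Q - 1 := ⟨(Q - 1) / 2, by omega⟩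
    have hc : IsCoprime D (Q - 1) := by
      have h2 : IsCoprime D 2 := ⟨1, -((D - 1) / 2), by omega⟩
      have e : 2 * D = 2 + (Q - 1) * (Q + 2 - f) := by linear_combination -hD - hf
      obtain ⟨a, b, hab⟩ := h2
      exact ⟨a + 2 * b, -(b * (Q + 2 - f)), by linear_combination hab + b * e⟩
    rw [hD, hm, show Q ^ 2 * (2 * m) = 2 * (Q ^ 2 * m) by ring]
    refine mul_dvd_mul_left 2 (hc.dvd_of_dvd_mul_right ?_)
    rw [hD, show Q ^ 2 * (Q ^ 2 - 1) = 2 * (Q ^ 2 * m * (Q - 1)) by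
      linear_combination Q ^ 2 * (Q - 1) * hm] at hD1
    exact (mul_dvd_mul_iff_left two_ne_zero).1 hD1
  -- `f = p ^ j g'` with `g' k = q + 1`
  obtain ⟨j, g', hg', hfg⟩ : ∃ (j : ℕ) (g' : ℤ), ¬ (p : ℤ) ∣ g' ∧ f = (p : ℤ) ^ j * g' := by
    obtain ⟨g', hfg, hg'⟩ := (Int.finiteMultiplicity_iff.2 ⟨by simp; omega, hf0⟩ :
      FiniteMultiplicity (p : ℤ) f).exists_eq_pow_mul_and_not_dvd
    exact ⟨_, g', hg', hfg⟩
  have hpq : IsCoprime g' (p : ℤ) :=
    ((Nat.prime_iff_prime_int.1 hp).coprime_iff_not_dvd.2 hg').symm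
  have hg2 : g' ^ 2 ∣ Q * (Q + 1) * (X * (X - 1)) := by
    rw [← hE', hfg, mul_pow]; exact (dvd_mul_left _ _).mul_left _
  obtain ⟨k, hk⟩ : g' ∣ Q + 1 := by
    have hgy : g' ∣ Q * (Q + 1) := by
      refine dvd_of_sq_dvd_mul (M := (Q - 1) * (p : ℤ) ^ j *
        (g' * ((Q - 1) * (p : ℤ) ^ j) - (2 * Q + 1))) ?_
      convert hg2 using 1
      have hX : X = (Q - 1) * ((p : ℤ) ^ j * g') - Q := by rw [← hfg]; linear_combination hf
      rw [hX]; ring
    rw [hQ] at hgy ⊢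
    exact (hpq.pow_right (n := n)).dvd_of_dvd_mul_left hgy
  have hg2' : (2 : ℤ) ∣ g' := by
    rw [hfg] at hf2
    rcases Int.prime_two.dvd_or_dvd hf2 with h | h
    · exfalso
      have := Int.prime_two.dvd_of_dvd_pow h
      omega
    · exact h
  obtain ⟨g2, hg2e⟩ := hg2'
  have hg0 : g' ≠ 0 := fun e => by rw [e, zero_mul] at hk; omega
  have hkodd : k % 2 = 1 := by
    by_contra h
    obtain ⟨k', rfl⟩ : 2 ∣ k := ⟨k / 2, by omega⟩
    have : Q + 1 = 4 * (g2 * k') := by rw [hk, hg2e]; ring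
    omega
  have hkb : 2 * |k| ≤ Q + 1 := by
    have h1 : Q + 1 = |g'| * |k| := by rw [← abs_mul, ← hk, abs_of_nonneg (by omega)]
    rw [h1]
    refine mul_le_mul_of_nonneg_right ?_ (abs_nonneg _)
    rw [hg2e, abs_mul]
    have : g2 ≠ 0 := fun e => by rw [e, mul_zero] at hg2e; exact hg0 hg2e
    have := Int.one_le_abs this
    simp; omega
  have hpk : ¬ (p : ℤ) ∣ k := fun h => by
    have h1 : (p : ℤ) ∣ Q + 1 := hk ▸ h.mul_left g'
    have h2 : (p : ℤ) ∣ Q := hQ ▸ dvd_pow_self _ (by omega)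
    have h3 : (p : ℤ) ∣ 1 := by simpa using dvd_sub h1 h2
    exact hp.not_dvd_one (by exact_mod_cast h3)
  -- `T` divides `q²`
  set T := Q * k - (Q - 1) * (p : ℤ) ^ j with hT
  have hDT : Q ^ 2 - X = g' * T := by
    have hX : X = (Q - 1) * ((p : ℤ) ^ j * g') - Q := by rw [← hfg]; linear_combination hf
    rw [hX, hT]; linear_combination Q * hk
  have hTdvd : T ∣ Q ^ 2 := by
    rw [hDT, hk, show Q ^ 2 * (g' * k) = g' * (Q ^ 2 * k) by ring] at hD2
    refine IsCoprime.dvd_of_dvd_mul_right ?_ ((mul_dvd_mul_iff_left hg0).1 hD2)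
    -- `k` is prime to `T`
    have h1 : IsCoprime k (p : ℤ) := ((Nat.prime_iff_prime_int.1 hp).coprime_iff_not_dvd.2 hpk).symm
    have h2 : IsCoprime k (Q - 1) := by
      obtain ⟨u, v, huv⟩ : IsCoprime k 2 := ⟨1, -((k - 1) / 2), by omega⟩
      exact ⟨u + v * g', -v, by linear_combination huv - v * hk⟩
    have h3 : IsCoprime k (-((Q - 1) * (p : ℤ) ^ j)) := (h2.mul_right h1.pow_right).neg_right
    have h4 := h3.add_mul_left_right Q
    rw [show -((Q - 1) * (p : ℤ) ^ j) + k * Q = T by rw [hT]; ring] at h4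
    exact h4.symm
  have hQ0 : Q ≠ 0 := by omega
  have hX : X = (Q - 1) * ((p : ℤ) ^ j * g') - Q := by rw [← hfg]; linear_combination hf
  have unit : ∀ u : ℤ, u ∣ Q ^ 2 → ¬ (p : ℤ) ∣ u → u = 1 ∨ u = -1 := fun u hu hpu => by
    rw [hQ, ← pow_mul] at hu
    refine Int.isUnit_iff.1 (IsCoprime.isUnit_of_dvd' ?_ hu dvd_rfl)
    exact (((Nat.prime_iff_prime_int.1 hp).coprime_iff_not_dvd.2 hpu)).pow_left
  have hpQ1 : ∀ c : ℤ, (p : ℤ) ∣ c → ¬ (p : ℤ) ∣ c - (Q - 1) := fun c hc h => by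
    have h2 : (p : ℤ) ∣ Q := hQ ▸ dvd_pow_self _ (by omega)
    have h3 := dvd_sub (dvd_add h h2) hc
    rw [show c - (Q - 1) + Q - c = 1 by ring] at h3
    exact hp.not_dvd_one (by exact_mod_cast h3)
  rcases lt_trichotomy j n with hjn | hjn | hjn
  · -- `j < n`
    set u := (p : ℤ) ^ (n - j) * k - (Q - 1) with hu
    have hTu : T = (p : ℤ) ^ j * u := by
      rw [hT, hu, mul_sub, ← mul_assoc, ← pow_add, Nat.add_sub_cancel' hjn.le, ← hQ]; ring
    have hu1 := unit u ((Dvd.intro_left _ hTu.symm).trans hTdvd)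
      (hpQ1 _ ((dvd_pow_self _ (by omega)).mul_right _))
    have hk1 : (p : ℤ) ^ (n - j) * k = Q := by
      rcases hu1 with h | h
      · omega
      · exfalso
        have h2 : (p : ℤ) ∣ Q := hQ ▸ dvd_pow_self _ (by omega)
        have h3 : (p : ℤ) ∣ Q - 2 := by
          rw [show Q - 2 = (p : ℤ) ^ (n - j) * k by omega]
          exact (dvd_pow_self _ (by omega)).mul_right _
        have h5 : (p : ℤ) ∣ 2 := by simpa using dvd_sub h2 h3
        have h6 : p ∣ 2 := by exact_mod_cast h5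
        have := Nat.le_of_dvd two_pos h6
        omega
    have hkj : k = (p : ℤ) ^ j := by
      refine mul_left_cancel₀ (pow_ne_zero (n - j) (show (p : ℤ) ≠ 0 by omega)) ?_
      rw [hk1, ← pow_add, Nat.sub_add_cancel hjn.le, hQ]
    have hj0 : j = 0 := by
      by_contra hj
      exact hpk (hkj ▸ dvd_pow_self _ hj)
    subst hj0
    rw [pow_zero] at hkj
    subst hkj
    right; left
    rw [hX, pow_zero, one_mul]
    linear_combination -(Q - 1) * hk
  · -- `j = n`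
    rw [hjn, ← hQ] at hT hX
    have hu : k - (Q - 1) ∣ Q := by
      rw [hT, show Q * k - (Q - 1) * Q = Q * (k - (Q - 1)) by ring, pow_two] at hTdvd
      exact (mul_dvd_mul_iff_left hQ0).1 hTdvd
    rw [← Int.natAbs_dvd_natAbs, show Q.natAbs = p ^ n by rw [hQdef, Int.natAbs_natCast, hqp]] at hu
    obtain ⟨l, hl, hle⟩ := (Nat.dvd_prime_pow hp).1 hu
    rcases eq_or_lt_of_le hl with rfl | hlt
    · rw [← hqp] at hle
      have hk' : k = -1 := by
        rcases abs_cases k with ⟨h, h'⟩ | ⟨h, h'⟩ <;> omega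
      subst hk'
      left
      rw [hX]
      linear_combination Q * (Q - 1) * hk
    · have h3 : 3 * p ^ l ≤ q := by
        rw [hqp]
        calc 3 * p ^ l ≤ p * p ^ l := Nat.mul_le_mul_right _ hp3
          _ = p ^ (l + 1) := by rw [pow_succ']
          _ ≤ p ^ n := Nat.pow_le_pow_right hp.pos hlt
      have h1 : 1 ≤ p ^ l := Nat.one_le_pow _ _ hp.pos
      have hle9 : q ≤ 9 := by
        rcases abs_cases k with ⟨h, h'⟩ | ⟨h, h'⟩ <;> omega
      have hkk : (q = 5 ∧ k = 3) ∨ (q = 9 ∧ k = 5) := by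
        rcases abs_cases k with ⟨h, h'⟩ | ⟨h, h'⟩ <;>
        · rcases (show q = 5 ∨ q = 9 by omega) with hq | hq <;> omega
      rcases hkk with ⟨hq, rfl⟩ | ⟨hq, rfl⟩
      · right; right; right
        refine ⟨hq, ?_⟩
        have : g' = 2 := by omega
        rw [hX, this, show Q = 5 by omega]; norm_num
      · right; right; left
        refine ⟨hq, ?_⟩
        have : g' = 2 := by omega
        rw [hX, this, show Q = 9 by omega]; norm_num
  · -- `n < j`
    exfalso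
    set u := k - (Q - 1) * (p : ℤ) ^ (j - n) with hu
    have hTu : T = Q * u := by
      rw [hT, hu, mul_sub, show Q * ((Q - 1) * (p : ℤ) ^ (j - n)) = (Q - 1) * (Q * (p : ℤ) ^ (j - n)) by ring]
      congr 2
      rw [hQ, ← pow_add, Nat.add_sub_cancel' hjn.le]
    have hpj : (p : ℤ) ∣ (Q - 1) * (p : ℤ) ^ (j - n) := (dvd_pow_self _ (by omega)).mul_left _
    have hu1 := unit u ((Dvd.intro_left _ hTu.symm).trans hTdvd)
      (fun h => hpk (by simpa [hu] using dvd_add h hpj))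
    have h3 : (3 : ℤ) * (Q - 1) ≤ (Q - 1) * (p : ℤ) ^ (j - n) := by
      rw [mul_comm]
      refine mul_le_mul_of_nonneg_left ?_ (by omega)
      calc (3 : ℤ) ≤ p := by exact_mod_cast hp3
        _ ≤ (p : ℤ) ^ (j - n) := le_self_pow₀ (by omega) (by omega)
    rcases abs_cases k with ⟨h, h'⟩ | ⟨h, h'⟩ <;> rcases hu1 with h1 | h1 <;> omega

end Cfsg.Agent.U3Order
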