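import Cfsg.Agent.Lib.U3Order.SU2
import Cfsg.Agent.Lib.LThreeRec.Equations
import Cfsg.Agent.S1218

/-!
# Brauer's equations for an involution centraliser of type `GU₂(q)/Z`, `q ≡ 1 (mod 4)`

* `PreData.exists_semidihedral` : a semidihedral Sylow 2-subgroup of `G` inside `C(t)`;
* `PreData.exists_equations` : the equations for the index of `C(t)`.
-/

set_option autoImplicit false
set_option linter.unusedSectionVars false
set_option linter.style.haveILetI false

open Cfsg.Agent.DihedralDefect (mid)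

namespace Cfsg.Agent.U3Recog

open Subgroup Cfsg.Agent.Unitary Cfsg.Agent.SylowCyclicSuzuki
open scoped MatrixGroups

universe u

variable {G : Type u} [Group G] [Finite G] {F : Type*} [Field F] [Fintype F] {q : ℕ}

namespace PreData

variable (D : PreData G F q)
include D

theorem not_comm : ¬ IsMulCommutative G := fun hc => by
  obtain ⟨c, hcs, hc0⟩ := D.exists_skew_ne
  obtain ⟨h10, -⟩ := of_comm_uu D.hF (wn D.hF) hcs hc0 (D.comm_lift (hc.is_comm.comm _ _))
  simp at h10

theorem negOne_central (g : U2 F q) : g * negOne D.hF = negOne D.hF * g := by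
  obtain ⟨a, b, c, d⟩ := negOne_entries D.hF (q := q)
  apply ext4 <;> simp [a, b, c, d]

/-- A semidihedral Sylow 2-subgroup inside the centraliser. -/
theorem exists_semidihedral (h4 : q % 4 = 1) :
    ∃ R : Sylow 2 G, (R : Subgroup G) ≤ centralizer ({D.t} : Set G) ∧ D.t ∈ R ∧
      Cfsg.IsQuasiDihedral (R : Subgroup G) := by
  haveI : Fact (Nat.Prime 2) := ⟨Nat.prime_two⟩
  set C := centralizer ({D.t} : Set G) with hCdef
  haveI : (zpowers (negOne D.hF : U2 F q)).Normal := ⟨fun x hx g => by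
    obtain ⟨k, rfl⟩ := hx
    refine ⟨k, ?_⟩
    have hc : Commute g (negOne D.hF : U2 F q) := D.negOne_central g
    show (negOne D.hF : U2 F q) ^ k = g * (negOne D.hF : U2 F q) ^ k * g⁻¹
    rw [(hc.zpow_right k).eq, mul_inv_cancel_right]⟩
  -- a Sylow subgroup of `U2` containing `-1`, and its image
  have hp : IsPGroup 2 (zpowers (negOne D.hF : U2 F q)) := by
    refine IsPGroup.of_card (n := 1) ?_
    rw [Nat.card_zpowers, pow_one]
    exact orderOf_eq_prime (by rw [sq]; exact D.negOne_sq) D.negOne_ne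
  obtain ⟨P, hP⟩ := hp.exists_le_sylow
  set R₁ : Subgroup G := (P : Subgroup (U2 F q)).map D.π with hR₁
  have hinj : Function.Injective (D.π.subgroupMap (P : Subgroup (U2 F q))) := by
    rw [injective_iff_map_eq_one]
    intro x hx
    have hx' : D.π (x : U2 F q) = 1 := congrArg Subtype.val hx
    obtain ⟨k, hk⟩ := P.isPGroup' x
    have h1 : orderOf x ∣ 2 ^ k := orderOf_dvd_of_pow_eq_one hk
    have h2 : orderOf x ∣ Nat.card D.π.ker := by
      rw [← Subgroup.orderOf_coe]
      exact (Subgroup.orderOf_coe (⟨(x : U2 F q), hx'⟩ : D.π.ker)).symm ▸ _root_.orderOf_dvd_natCard _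
    rw [← orderOf_eq_one_iff]
    exact Nat.eq_one_of_dvd_coprimes (Nat.Coprime.pow_left k
      (Nat.coprime_two_left.2 D.ker_odd)) h1 h2
  let e : (P : Subgroup (U2 F q)) ≃* R₁ :=
    MulEquiv.ofBijective (D.π.subgroupMap _) ⟨hinj, D.π.subgroupMap_surjective _⟩
  have hle : R₁ ≤ C := fun _ ⟨g, _, hg⟩ => hg ▸ D.mem_C g
  have htR₁ : D.t ∈ R₁ := ⟨_, hP (mem_zpowers _), D.π_negOne⟩
  have hqd : Cfsg.IsQuasiDihedral R₁ := by
    obtain ⟨φ⟩ := exists_equiv_GU D.hF D.two_ne
    obtain ⟨n, ⟨d⟩⟩ := QDWreath.nonempty_qdData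
      ((S1218.result q D.hF D.hodd (P.comapOfInjective φ.toMonoidHom φ.injective
        (fun x _ => ⟨φ.symm x, φ.apply_symm_apply x⟩))).1 h4)
    let e₀ : (P : Subgroup (U2 F q)).comap φ.toMonoidHom ≃* (P : Subgroup (U2 F q)) :=
      { toFun := fun x => ⟨φ x, x.2⟩
        invFun := fun y => ⟨φ.symm y, by
          show φ (φ.symm y) ∈ (P : Subgroup (U2 F q))
          rw [φ.apply_symm_apply]; exact y.2⟩
        left_inv := fun x => Subtype.ext (φ.symm_apply_apply _)
        right_inv := fun y => Subtype.ext (φ.apply_symm_apply _)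
        map_mul' := fun x y => Subtype.ext (map_mul φ _ _) }
    let e' := e₀.trans e
    have d' := Transfer.qdMap d e'
    exact ⟨n, d'.hn, d'.card, d'.x, d'.y, d'.order_x, d'.order_y, d'.rel⟩
  have hcard : Nat.card R₁ = 2 ^ (Nat.card C).factorization 2 := by
    rw [← Nat.card_congr e.toEquiv, P.card_eq_multiplicity]
    congr 1
    have h := D.π.ker.card_mul_index
    rw [Subgroup.index_ker, D.range_eq] at h
    rw [← h, Nat.factorization_mul Nat.card_pos.ne' Nat.card_pos.ne', Finsupp.add_apply,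
      Nat.factorization_eq_zero_of_not_dvd (n := Nat.card D.π.ker)
        (fun h => Nat.not_even_iff_odd.2 D.ker_odd (even_iff_two_dvd.2 h)), zero_add]
  obtain ⟨R, hR⟩ := (P.isPGroup'.map D.π : IsPGroup 2 R₁).exists_le_sylow
  have hR' : (R : Subgroup G) = R₁ := by
    by_contra hne
    haveI : Group.IsNilpotent (R : Subgroup G) := R.isPGroup'.isNilpotent
    have hlt : R₁.subgroupOf R < ⊤ :=
      lt_top_iff_ne_top.2 fun h => hne (le_antisymm (subgroupOf_eq_top.1 h) hR)
    obtain ⟨g, hg, hgn⟩ := SetLike.exists_of_lt (Group.normalizerCondition_of_isNilpotent _ hlt)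
    refine hgn (mem_subgroupOf.2 ?_)
    -- `t` is the only central involution of `R₁`
    let S : Sylow 2 C := Sylow.ofCard (R₁.subgroupOf C) (by
      rw [Nat.card_congr (subgroupOfEquivOfLe hle).toEquiv, hcard])
    have hS : Cfsg.IsQuasiDihedral (S : Subgroup C) := by
      obtain ⟨n, ⟨d⟩⟩ := QDWreath.nonempty_qdData hqd
      have d' := Transfer.qdMap d (subgroupOfEquivOfLe hle).symm
      exact ⟨n, d'.hn, d'.card, d'.x, d'.y, d'.order_x, d'.order_y, d'.rel⟩
    haveI : Fintype C := Fintype.ofFinite _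
    obtain ⟨a, r, σ, s, hsd⟩ := SD.exists_of_isQuasiDihedral S hS
    have uniq : ∀ z : G, ∀ hz : z ∈ R₁, (∀ y ∈ R₁, y * z = z * y) → z ≠ 1 →
        (⟨z, hle hz⟩ : C) = mid a σ := fun z hz hc h1 =>
      hsd.eq_mid_of_central hz (fun y hy => Subtype.ext (hc y hy))
        (fun h => h1 (congrArg Subtype.val h))
    have key : ∀ y ∈ R₁, (g : G) * y * (g : G)⁻¹ ∈ R₁ := fun y hy =>
      (mem_normalizer_iff.1 hg ⟨y, hR hy⟩).1 hy
    have key' : ∀ y ∈ R₁, (g : G)⁻¹ * y * g ∈ R₁ := fun y hy => by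
      simpa using mem_subgroupOf.1 ((mem_normalizer_iff.1 (inv_mem hg) ⟨y, hR hy⟩).1 hy)
    have hgt : (g : G) * D.t * (g : G)⁻¹ = D.t := by
      have e1 := uniq D.t htR₁ (fun y hy => mem_centralizer_singleton_iff.1 (hle hy))
        (Involution.ne_one D.orderOf_t)
      have e2 := uniq _ (key _ htR₁) (fun y hy => by
        have h' := mem_centralizer_singleton_iff.1 (hle (key' y hy))
        calc y * ((g : G) * D.t * (g : G)⁻¹) = g * ((g : G)⁻¹ * y * g * D.t) * (g : G)⁻¹ := by group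
          _ = g * (D.t * ((g : G)⁻¹ * y * g)) * (g : G)⁻¹ := by rw [h']
          _ = _ := by group)
        (Involution.ne_one (by rw [Involution.orderOf_conj, D.orderOf_t]))
      exact congrArg Subtype.val (e2.trans e1.symm)
    have hgC : (g : G) ∈ C := mem_centralizer_singleton_iff.2 (mul_inv_eq_iff_eq_mul.1 hgt)
    have hT : IsPGroup 2 ((R : Subgroup G) ⊓ C : Subgroup G) := R.isPGroup'.to_le inf_le_left
    have e1 : R₁ = (R : Subgroup G) ⊓ C := by
      refine eq_of_le_of_card_ge (le_inf hR hle) ?_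
      obtain ⟨k, hk⟩ := hT.exists_card_eq
      rw [hcard, hk]
      refine Nat.pow_le_pow_right two_pos
        ((Nat.Prime.pow_dvd_iff_le_factorization Nat.prime_two Nat.card_pos.ne').1 ?_)
      rw [← hk]; exact card_dvd_of_le inf_le_right
    rw [e1]; exact ⟨g.2, hgC⟩
  exact ⟨R, hR' ▸ hle, hR htR₁, hR' ▸ hqd⟩

/-- Brauer's equations. -/
theorem exists_equations [IsSimpleGroup G] (h4 : q % 4 = 1) :
    ∃ X : ℤ, X ≠ 0 ∧ X ≠ 1 ∧ X ≠ -(q : ℤ) ∧ (X - 1) % 4 = 2 ∧ (q : ℤ) ^ 2 - X ∣ X * (X - 1) ∧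
      Odd (centralizer ({D.t} : Set G)).index ∧
      ((centralizer ({D.t} : Set G)).index : ℤ) * (X + q) ^ 2 =
        (q : ℤ) * ((q : ℤ) - 1) ^ 2 * ((q : ℤ) + 1) * (X * (X - 1)) := by
  letI := Fintype.ofFinite G
  obtain ⟨p, n, hp, -, hqp, hn⟩ := exists_prime_pow D.hF
  haveI := Fact.mk hp
  haveI : Fact (Nat.Prime 2) := ⟨Nat.prime_two⟩
  obtain ⟨R, hRC, htR, hSD⟩ := D.exists_semidihedral h4
  obtain ⟨a, r, σ, s, h⟩ := SD.exists_of_isQuasiDihedral R hSD
  have ht : D.t = mid a σ := h.eq_mid_of_central htR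
    (fun y hy => mem_centralizer_singleton_iff.1 (hRC hy)) (Involution.ne_one D.orderOf_t)
  set C := centralizer ({D.t} : Set G) with hCdef
  have hC : ∀ g, g ∈ C ↔ Commute (mid a σ) g := fun g => by
    rw [hCdef, mem_centralizer_singleton_iff, ht]; exact eq_comm
  -- the normal `SL(2, q)` of `C / O(C)`
  obtain ⟨δ, hδ0, hδ⟩ := exists_skew D.hF
  let φ : Matrix.SpecialLinearGroup (Fin 2) (fixedField D.hF) →* C :=
    (D.π.comp (slHom D.hF hδ0 hδ)).codRestrict C fun g => D.mem_C _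
  let ψ : Matrix.SpecialLinearGroup (Fin 2) (fixedField D.hF) →* C ⧸ Cfsg.oddCore C :=
    (QuotientGroup.mk' (Cfsg.oddCore C)).comp φ
  have hφ : Function.Injective φ := by
    rw [injective_iff_map_eq_one]
    intro g hg
    refine slHom_injective D.hF hδ0 hδ ((D.eq_of_det (g' := 1) ?_ ?_).trans (map_one _).symm)
    · rw [map_one]; exact congrArg Subtype.val hg
    · rw [det2_slHom, det2_one]
  have h2F : (2 : fixedField D.hF) ≠ 0 := fun h => D.two_ne (by
    have := congrArg (fixedField D.hF).subtype h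
    rwa [map_ofNat, map_zero] at this)
  haveI : Fintype (fixedField D.hF) := Fintype.ofFinite _
  have hψ : Function.Injective ψ := by
    have hoddO : Odd (Nat.card (Cfsg.oddCore C)) :=
      Nat.odd_iff.2 (Nat.two_dvd_ne_zero.1 (Cores.not_dvd_card_pPrimeCore (p := 2)))
    have hk : ψ.ker = (Cfsg.oddCore C).comap φ := by
      rw [← MonoidHom.comap_ker, QuotientGroup.ker_mk']
    rw [← MonoidHom.ker_eq_bot_iff, hk]
    refine LThreeRec.sl2_odd_normal h2F _ (hoddO.of_dvd_nat ?_)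
    exact card_dvd_of_injective
      ((φ.comp ((Cfsg.oddCore C).comap φ).subtype).codRestrict (Cfsg.oddCore C) fun x => x.2)
      fun x y e => Subtype.ext (hφ (congrArg Subtype.val e))
  have hN : ψ.range.Normal := by
    refine ⟨fun x hx y => ?_⟩
    obtain ⟨g, rfl⟩ := hx
    obtain ⟨c, rfl⟩ := QuotientGroup.mk'_surjective _ y
    obtain ⟨b, hb⟩ := D.exists_of_comm (mem_centralizer_singleton_iff.1 c.2)
    obtain ⟨g', hg'⟩ := (mem_range_slHom D.hF hδ0 hδ).2
      (show det2 (b * slHom D.hF hδ0 hδ g * b⁻¹) = 1 by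
        rw [det2_mul, det2_mul, det2_inv D.hF, det2_slHom, mul_one,
          mul_inv_cancel₀ (det2_ne_zero D.hF b)])
    refine ⟨g', ?_⟩
    show QuotientGroup.mk' _ (φ g') = _
    rw [show φ g' = c * φ g * c⁻¹ from Subtype.ext (by
      show D.π (slHom D.hF hδ0 hδ g') = (c : G) * D.π (slHom D.hF hδ0 hδ g) * (c : G)⁻¹
      rw [hg', map_mul, map_mul, map_inv, hb]), map_mul, map_mul, map_inv]
    rfl
  have hFc : Fintype.card (fixedField D.hF) = p ^ n := by
    rw [← Nat.card_eq_fintype_card, card_fixedField D.hF, hqp]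
  obtain ⟨F', _, _, hF', N, hN', ⟨eN⟩⟩ := InvolChar.exists_small_field (H := C ⧸ Cfsg.oddCore C) hn
    (fixedField D.hF) hFc ⟨ψ.range, hN, ⟨(MonoidHom.ofInjective hψ).symm⟩⟩
  have hcardF' : Nat.card F' = q := by rw [Nat.card_eq_fintype_card, hF', hqp]
  have hodd' : Odd (Nat.card F') := by rw [hcardF']; exact D.hodd
  haveI := hN'
  obtain ⟨Ω, _, _, L, -⟩ := QGroup.exists_line h hSD hodd' hC N eN
  rw [hcardF'] at L
  obtain ⟨X, hX0, hX1, hXQ, hX4, hdiv, hE⟩ :=
    InvolChar.semidihedral_equations h (InvolChar.commutator_eq_top_of_simple D.not_comm) hC L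
  have hQ : InvolChar.signQ q = -(q : ℤ) := by rw [InvolChar.signQ, if_neg (by omega)]
  rw [hQ] at hXQ hdiv hE
  have hN1 : Nat.card {x : C // orderOf x = 2 ∧ (x : G) ≠ mid a σ} = q * (q - 1) := by
    rw [← ht]; exact D.card_involutions
  rw [hN1] at hE
  refine ⟨X, hX0, hX1, hXQ, hX4, by rwa [neg_sq] at hdiv, ?_, ?_⟩
  · rw [← Nat.not_even_iff_odd, even_iff_two_dvd]
    exact fun h2 => R.not_dvd_index (h2.trans (Subgroup.index_dvd_of_le hRC))
  have hq1 := D.q_ge
  refine mul_left_cancel₀ (show (Nat.card C : ℤ) * q ≠ 0 from mul_ne_zero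
    (by exact_mod_cast Nat.card_pos.ne') (by exact_mod_cast (show q ≠ 0 by omega))) ?_
  rw [show Nat.card G = Nat.card C * C.index from (card_mul_index C).symm] at hE
  push_cast [Nat.cast_sub (show 1 ≤ q by omega)] at hE
  linear_combination -hE

end PreData

end Cfsg.Agent.U3Recog
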