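import Cfsg.Agent.Lib.U3Order.Equations

/-!
# The index is not `357` for `q = 5`

A Sylow 2-subgroup of `C(t)` acts on the involutions not commuting with `t`; those fixed by a noncentral
involution `s` number `q (q - 1) - 2` for each `s`, and the others fall into regular orbits.
-/

set_option autoImplicit false
set_option linter.unusedSectionVars false
set_option linter.style.haveILetI false

open Cfsg.Agent.DihedralDefect (mid)

namespace Cfsg.Agent.U3Recog

open Subgroup Cfsg.Agent.Unitary Cfsg.Agent.SylowCyclicSuzuki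

universe u

variable {G : Type u} [Group G] [Finite G] {F : Type*} [Field F] [Fintype F] {q : ℕ}

namespace PreData

variable (D : PreData G F q)
include D

/-- An involution of the centraliser commuting with `w`. -/
theorem invol_cases {x : G} (hx : orderOf x = 2) (hxt : Commute x D.t) (hxw : Commute x D.w) :
    x = D.t ∨ x = D.w ∨ x = D.t * D.w := by
  obtain ⟨g, rfl⟩ := D.exists_of_comm hxt
  obtain ⟨m, hm⟩ := D.ker_odd
  have hk : g * g ∈ D.π.ker := by
    rw [MonoidHom.mem_ker, map_mul, ← sq]
    exact orderOf_dvd_iff_pow_eq_one.1 (dvd_of_eq hx)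
  set g' := g * (g * g) ^ m
  have hg' : g' * g' = 1 := by
    have hc : Commute g ((g * g) ^ m) := ((Commute.refl g).mul_right (Commute.refl g)).pow_right m
    calc g' * g' = g * g * ((g * g) ^ m * (g * g) ^ m) := by
          simp only [g']
          rw [mul_assoc, ← mul_assoc ((g * g) ^ m), ← hc.eq]
          simp [mul_assoc]
      _ = 1 := by
          rw [← pow_add, ← pow_succ', show m + m + 1 = 2 * m + 1 by ring, ← hm]
          exact congrArg Subtype.val (pow_card_eq_one' (x := (⟨g * g, hk⟩ : D.π.ker)))
  have hπ : D.π g' = D.π g := by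
    rw [map_mul, map_pow, MonoidHom.mem_ker.1 hk, one_pow, mul_one]
  have hcw : g' * wn D.hF = wn D.hF * g' := D.comm_lift (by rw [hπ]; exact hxw)
  obtain ⟨w0, w1, w2, w3⟩ := wn_entries D.hF (q := q)
  obtain ⟨n0, n1, n2, n3⟩ := negOne_entries D.hF (q := q)
  have a1 := congrArg e00 hcw
  have a2 := congrArg e01 hcw
  have b1 := congrArg e00 hg'
  have b2 := congrArg e01 hg'
  simp [w0, w1, w2, w3] at a1 a2 b1 b2
  have hab : e00 g' = 0 ∨ e01 g' = 0 := by
    have : (2 : F) * (e00 g' * e01 g') = 0 := by linear_combination b2 + e01 g' * a2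
    exact mul_eq_zero.1 ((mul_eq_zero.1 this).resolve_left D.two_ne)
  rw [← hπ]
  rcases hab with h0 | h0
  · have h11 : e11 g' = 0 := by linear_combination a2.symm.trans h0
    rcases mul_self_eq_one_iff.1 (show e01 g' * e01 g' = 1 by
      linear_combination b1 - e00 g' * h0 - e01 g' * a1.symm) with h | h
    · refine Or.inr (Or.inr ?_)
      rw [w, ← D.π_negOne, ← map_mul]
      refine congrArg D.π (ext4 ?_ ?_ ?_ ?_) <;> simp [n0, n1, n2, n3, h0, h11, h, ← a1]
    · refine Or.inr (Or.inl (congrArg D.π (ext4 ?_ ?_ ?_ ?_))) <;>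
        simp [w0, w1, w2, w3, h0, h11, h, ← a1]
  · have h10 : e10 g' = 0 := by linear_combination a1.symm.trans h0
    rcases mul_self_eq_one_iff.1 (show e00 g' * e00 g' = 1 by
      linear_combination b1 - e10 g' * h0) with h | h
    · exfalso
      have : g' = 1 := ext4 (by simp [h]) (by simp [h0]) (by simp [h10]) (by simp [← a2, h])
      rw [← hπ, this, map_one, orderOf_one] at hx
      exact absurd hx (by norm_num)
    · refine Or.inl ?_
      rw [← D.π_negOne]
      refine congrArg D.π (ext4 ?_ ?_ ?_ ?_) <;> simp [n0, n1, n2, n3, h0, h10, h, ← a2]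

theorem false_of_five [IsSimpleGroup G] (hq : q = 5)
    (hI : (centralizer ({D.t} : Set G)).index = 357) : False := by
  subst hq
  classical
  letI := Fintype.ofFinite G
  haveI : Fact (Nat.Prime 2) := ⟨Nat.prime_two⟩
  obtain ⟨R, hRC, htR, hSD⟩ := D.exists_semidihedral (by omega)
  obtain ⟨a, r, σ, s₀, h⟩ := SD.exists_of_isQuasiDihedral R hSD
  have ht : D.t = mid a σ := h.eq_mid_of_central htR
    (fun y hy => mem_centralizer_singleton_iff.1 (hRC hy)) (Involution.ne_one D.orderOf_t)
  set C := centralizer ({D.t} : Set G) with hCdef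
  have hperf := InvolChar.commutator_eq_top_of_simple D.not_comm
  have hone : ∀ x : G, orderOf x = 2 → IsConj D.t x := fun x hx => by
    rw [ht]
    exact h.isConj_mid hperf (by rw [← pow_two]; exact orderOf_dvd_iff_pow_eq_one.1 hx.dvd)
      fun e => by simp [e] at hx
  -- the order of `R`
  have hR16 : Nat.card (R : Subgroup G) = 16 ∧ a = 1 := by
    have h1 : Nat.card (R : Subgroup G) ∣ Nat.card C := card_dvd_of_le hRC
    have h2 : ¬ 2 * Nat.card (R : Subgroup G) ∣ Nat.card C := fun h2 => by
      have h3 := h2.trans (card_subgroup_dvd_card C)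
      obtain ⟨k, hk⟩ := h3
      refine R.not_dvd_index ⟨k, ?_⟩
      have := (R : Subgroup G).card_mul_index
      rw [hk, mul_assoc, mul_comm 2, mul_assoc] at this
      have := Nat.eq_of_mul_eq_mul_left Nat.card_pos this
      rw [this, mul_comm]
    have hC := D.card_C
    rw [h.card_P] at h1 h2 ⊢
    rw [← hCdef] at hC
    change Nat.card C * _ = 720 at hC
    have hd := D.d_dvd
    obtain ⟨d, hd2⟩ := D.ker_odd
    have hker : Nat.card D.π.ker = 1 ∨ Nat.card D.π.ker = 3 := by
      have := Nat.le_of_dvd (by norm_num) hd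
      generalize Nat.card D.π.ker = k at hd hd2 this
      interval_cases k <;> first | omega | norm_num at hd
    have ha : a = 1 := by
      have hCv : Nat.card C = 720 ∨ Nat.card C = 240 := by rcases hker with e | e <;> rw [e] at hC <;> omega
      have h5 : a ≤ 6 := by
        by_contra hlt
        have h6 : 2 ^ 9 ∣ Nat.card C := (pow_dvd_pow 2 (by omega)).trans h1
        rcases hCv with e | e <;> rw [e] at h6 <;> norm_num at h6
      rcases hCv with e | e <;> rw [e] at h1 h2 <;> interval_cases a <;> first | rfl | (revert h1 h2; norm_num)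
    exact ⟨by rw [ha]; norm_num, ha⟩
  -- the sets of involutions
  set Inv : Finset G := Finset.univ.filter fun x => orderOf x = 2 with hInv
  set M : Finset G := Inv.filter fun x => ¬ Commute x D.t with hM
  set S : Finset G := Inv.filter fun x => x ∈ (R : Subgroup G) ∧ x ≠ D.t with hS
  have hcardInv : Inv.card = 357 := by
    have e1 : Inv.card = Nat.card {x : G // IsConj D.t x} := by
      rw [Nat.card_eq_fintype_card, Fintype.card_subtype]
      congr 1
      ext x
      simp only [hInv, Finset.mem_filter, Finset.mem_univ, true_and]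
      refine ⟨fun hx => hone x hx, fun hx => ?_⟩
      obtain ⟨g, rfl⟩ := isConj_iff.1 hx
      rw [Involution.orderOf_conj, D.orderOf_t]
    have e2 : Nat.card {x : G // IsConj D.t x} * Nat.card (centralizer ({D.t} : Set G)) = Nat.card G :=
      Cfsg.Agent.Char.card_conjugates_mul_card_centralizer D.t
    rw [← e1, ← hCdef, ← C.card_mul_index, hI, mul_comm (Nat.card C)] at e2
    exact Nat.eq_of_mul_eq_mul_right Nat.card_pos e2
  -- the involutions commuting with a given involution
  have hcent : ∀ v : G, orderOf v = 2 → (Inv.filter fun x => Commute x v).card = 21 := by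
    intro v hv
    obtain ⟨g, rfl⟩ := isConj_iff.1 (hone v hv)
    have e : (Inv.filter fun x => Commute x D.t).card = 21 := by
      have h1 : (Inv.filter fun x => Commute x D.t).erase D.t =
          (Finset.univ.filter fun x : C => orderOf x = 2 ∧ (x : G) ≠ D.t).map
            (Function.Embedding.subtype _) := by
        ext x
        simp only [hInv, Finset.mem_erase, Finset.mem_filter, Finset.mem_univ, true_and,
          Finset.mem_map, Function.Embedding.subtype_apply, Subtype.exists, exists_and_right,
          exists_eq_right]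
        constructor
        · rintro ⟨hne, ho, hc⟩
          exact ⟨⟨mem_centralizer_singleton_iff.2 hc.eq, by rw [Subgroup.orderOf_mk]; exact ho⟩, hne⟩
        · rintro ⟨⟨hc, ho⟩, hne⟩
          exact ⟨hne, by rwa [Subgroup.orderOf_mk] at ho, mem_centralizer_singleton_iff.1 hc⟩
      have h2 := D.card_involutions
      rw [Nat.card_eq_fintype_card, Fintype.card_subtype, ← Finset.card_map (Function.Embedding.subtype _),
        ← hCdef, ← h1] at h2
      have h3 : D.t ∈ Inv.filter fun x => Commute x D.t := by
        simp [hInv, D.orderOf_t]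
      rw [← Finset.card_erase_add_one h3, h2]
    rw [← e]
    refine Finset.card_bij (fun x _ => g⁻¹ * x * g) ?_ ?_ ?_
    · intro x hx
      simp only [hInv, Finset.mem_filter, Finset.mem_univ, true_and] at hx ⊢
      refine ⟨by rw [show g⁻¹ * x * g = g⁻¹ * x * (g⁻¹)⁻¹ by group, Involution.orderOf_conj]; exact hx.1, ?_⟩
      show _ * _ = _
      calc g⁻¹ * x * g * D.t = g⁻¹ * (x * (g * D.t * g⁻¹)) * g := by group
        _ = g⁻¹ * (g * D.t * g⁻¹ * x) * g := by rw [hx.2.eq]
        _ = _ := by group
    · intro x _ y _ e'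
      exact mul_left_cancel (mul_right_cancel e')
    · intro y hy
      simp only [hInv, Finset.mem_filter, Finset.mem_univ, true_and] at hy
      refine ⟨g * y * g⁻¹, ?_, by group⟩
      simp only [hInv, Finset.mem_filter, Finset.mem_univ, true_and]
      refine ⟨by rw [Involution.orderOf_conj]; exact hy.1, ?_⟩
      show _ * _ = _
      calc g * y * g⁻¹ * (g * D.t * g⁻¹) = g * (y * D.t) * g⁻¹ := by group
        _ = g * (D.t * y) * g⁻¹ := by rw [hy.2.eq]
        _ = _ := by group
  have hMcard : M.card = 336 := by
    have h1 := Finset.card_filter_add_card_filter_not (s := Inv) (fun x => Commute x D.t)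
    rw [hcent D.t D.orderOf_t, hcardInv] at h1
    rw [hM]; omega
  have hSmem : ∀ v ∈ S, orderOf v = 2 ∧ v ∈ (R : Subgroup G) ∧ v ≠ D.t ∧ v ∉ zpowers σ := fun v hv => by
    simp only [hS, hInv, Finset.mem_filter, Finset.mem_univ, true_and] at hv
    refine ⟨hv.1, hv.2.1, hv.2.2, fun hvR => hv.2.2 ?_⟩
    rw [ht]
    exact h.eq_mid_of_mem hvR (by rw [← pow_two]; exact orderOf_dvd_iff_pow_eq_one.1 hv.1.dvd)
      fun e => by simp [e] at hv
  -- each noncentral involution of `R` fixes 18 points of `M`
  have hfix : ∀ v ∈ S, (M.filter fun x => Commute x v).card = 18 := by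
    intro v hv
    obtain ⟨hv2, hvR, hvt, -⟩ := hSmem v hv
    have hvc : Commute v D.t := mem_centralizer_singleton_iff.1 (hRC hvR)
    obtain ⟨z, hz, he⟩ := D.exists_involution_conj (hRC hvR) hv2 hvt
    set c := D.π (sA D.hF D.two_ne z hz)
    have hct : Commute c D.t := D.comm_t _
    have hsub : (Inv.filter fun x => Commute x v).filter (fun x => Commute x D.t) =
        {D.t, v, D.t * v} := by
      ext x
      simp only [hInv, Finset.mem_filter, Finset.mem_univ, true_and, Finset.mem_insert,
        Finset.mem_singleton]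
      constructor
      · rintro ⟨⟨ho, hc⟩, hxt⟩
        have h1 : Commute (c⁻¹ * x * c) D.t := (hct.inv_left.mul_left hxt).mul_left hct
        have h2 : Commute (c⁻¹ * x * c) D.w := by
          show _ * _ = _
          calc c⁻¹ * x * c * D.w = c⁻¹ * (x * v) * c := by rw [he]; group
            _ = c⁻¹ * (v * x) * c := by rw [hc.eq]
            _ = _ := by rw [he]; group
        have e0 : x = c * (c⁻¹ * x * c) * c⁻¹ := by group
        rcases D.invol_cases (by
          rw [show c⁻¹ * x * c = c⁻¹ * x * (c⁻¹)⁻¹ by group, Involution.orderOf_conj]; exact ho) h1 h2 with e | e | e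
        · left; rw [e0, e, hct.eq, mul_inv_cancel_right]
        · right; left; rw [e0, e, he]
        · right; right
          rw [e0, e, he, show c * (D.t * D.w) * c⁻¹ = c * D.t * D.w * c⁻¹ by group, hct.eq]
          group
      · rintro (rfl | rfl | rfl)
        · exact ⟨⟨D.orderOf_t, hvc.symm⟩, Commute.refl _⟩
        · exact ⟨⟨hv2, Commute.refl _⟩, hvc⟩
        · refine ⟨⟨orderOf_eq_prime ?_ ?_, hvc.symm.mul_left (Commute.refl _)⟩,
            (Commute.refl _).mul_left hvc⟩
          · rw [sq, hvc.mul_mul_mul_comm, Involution.mul_self D.orderOf_t,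
              Involution.mul_self hv2, one_mul]
          · exact fun e => hvt (by rw [eq_inv_of_mul_eq_one_right e, Involution.inv_eq D.orderOf_t])
    have h3 : ((Inv.filter fun x => Commute x v).filter fun x => Commute x D.t).card = 3 := by
      rw [hsub, Finset.card_insert_of_notMem, Finset.card_insert_of_notMem, Finset.card_singleton]
      · simp only [Finset.mem_singleton]
        exact fun e => Involution.ne_one D.orderOf_t (right_eq_mul.1 e)
      · simp only [Finset.mem_insert, Finset.mem_singleton, not_or]
        exact ⟨hvt.symm, fun e => Involution.ne_one hv2 (left_eq_mul.1 e)⟩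
    have h1 := Finset.card_filter_add_card_filter_not (s := Inv.filter fun x => Commute x v)
      (fun x => Commute x D.t)
    rw [h3, hcent v hv2] at h1
    rw [hM, Finset.filter_comm]
    omega
  -- no point of `M` is fixed by two of them
  have huniq : ∀ x ∈ M, ∀ v ∈ S, ∀ v' ∈ S, Commute x v → Commute x v' → v = v' := by
    intro x hx v hv v' hv' hc hc'
    obtain ⟨hv2, hvR, -, hvσ⟩ := hSmem v hv
    obtain ⟨hv2', hvR', -, hvσ'⟩ := hSmem v' hv'
    by_contra hne
    have hy : v * v' ∈ zpowers σ := by
      have h2 := mul_mem_iff_of_index_two h.index_R (a := (⟨v, hvR⟩ : (R : Subgroup G))) (b := ⟨v', hvR'⟩)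
      simp only [mem_subgroupOf, Subgroup.coe_mul] at h2
      exact h2.2 (iff_of_false hvσ hvσ')
    have hy1 : v * v' ≠ 1 := fun e => hne (by
      rw [eq_inv_of_mul_eq_one_left e, Involution.inv_eq hv2'])
    obtain ⟨k, hk⟩ := IsPGroup.iff_orderOf.1 R.isPGroup' ⟨v * v', mul_mem hvR hvR'⟩
    rw [Subgroup.orderOf_mk] at hk
    rcases k with _ | k
    · exact hy1 (orderOf_eq_one_iff.1 (by simpa using hk))
    have e : (v * v') ^ 2 ^ k = D.t := by
      rw [ht]
      refine h.eq_mid_of_mem (pow_mem hy _) ?_ ?_
      · rw [← pow_add, ← two_mul, ← pow_succ', ← hk, pow_orderOf_eq_one]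
      · intro e
        have := orderOf_dvd_of_pow_eq_one e
        rw [hk, Nat.pow_dvd_pow_iff_le_right (by norm_num)] at this
        omega
    simp only [hM, Finset.mem_filter] at hx
    exact hx.2 (e ▸ (hc.mul_right hc').pow_right _)
  -- the free part
  set M0 : Finset G := M.filter fun x => ∀ v ∈ S, ¬ Commute x v with hM0
  have hM0dvd : 16 ∣ M0.card := by
    have hmem : ∀ c : (R : Subgroup G), ∀ x ∈ M0, (c : G) * x * (c : G)⁻¹ ∈ M0 := by
      intro c x hx
      simp only [hM0, hM, hInv, Finset.mem_filter, Finset.mem_univ, true_and] at hx ⊢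
      have hct : Commute (c : G) D.t := mem_centralizer_singleton_iff.1 (hRC c.2)
      refine ⟨⟨by rw [Involution.orderOf_conj]; exact hx.1.1, fun hc => hx.1.2 ?_⟩, fun v hv hc => ?_⟩
      · have e : x = (c : G)⁻¹ * ((c : G) * x * (c : G)⁻¹) * c := by group
        rw [e]
        exact (hct.inv_left.mul_left hc).mul_left hct
      · refine hx.2 ((c : G)⁻¹ * v * c) ?_ ?_
        · obtain ⟨hv2, hvR, hvt, -⟩ := hSmem v hv
          simp only [hS, hInv, Finset.mem_filter, Finset.mem_univ, true_and]
          refine ⟨by rw [show (c : G)⁻¹ * v * c = (c : G)⁻¹ * v * ((c : G)⁻¹)⁻¹ by group,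
            Involution.orderOf_conj]; exact hv2, mul_mem (mul_mem (inv_mem c.2) hvR) c.2, fun e => hvt ?_⟩
          calc v = (c : G) * ((c : G)⁻¹ * v * c) * (c : G)⁻¹ := by group
            _ = D.t := by rw [e, hct.eq, mul_inv_cancel_right]
        · show _ * _ = _
          calc x * ((c : G)⁻¹ * v * c) = (c : G)⁻¹ * (c * x * (c : G)⁻¹ * v) * c := by group
            _ = (c : G)⁻¹ * (v * (c * x * (c : G)⁻¹)) * c := by rw [hc.eq]
            _ = _ := by group
    letI : MulAction (R : Subgroup G) M0 :=
      { smul := fun c x => ⟨(c : G) * x * (c : G)⁻¹, hmem c x x.2⟩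
        one_smul := fun x => Subtype.ext (show ((1 : (R : Subgroup G)) : G) * x * _ = x by simp)
        mul_smul := fun c d x => Subtype.ext (show ((c * d : (R : Subgroup G)) : G) * x * _ =
          (c : G) * ((d : G) * x * (d : G)⁻¹) * (c : G)⁻¹ by simp [mul_assoc]) }
    have hfree : ∀ x : M0, MulAction.stabilizer (R : Subgroup G) x = ⊥ := by
      intro x
      by_contra hne
      obtain ⟨k, hk⟩ := (R.isPGroup'.to_subgroup (MulAction.stabilizer (R : Subgroup G) x)).exists_card_eq
      have hk0 : k ≠ 0 := fun e => hne (Subgroup.card_eq_one.1 (by rw [hk, e, pow_zero]))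
      obtain ⟨c, hc⟩ := exists_prime_orderOf_dvd_card' (G := MulAction.stabilizer (R : Subgroup G) x) 2
        (by rw [hk]; exact dvd_pow_self 2 hk0)
      have hc2 : orderOf ((c : (R : Subgroup G)) : G) = 2 := by
        rw [Subgroup.orderOf_coe, Subgroup.orderOf_coe, hc]
      have hfixc : Commute (x : G) ((c : (R : Subgroup G)) : G) :=
        (mul_inv_eq_iff_eq_mul.1 (congrArg Subtype.val c.2 :
          ((c : (R : Subgroup G)) : G) * x * ((c : (R : Subgroup G)) : G)⁻¹ = x)).symm
      have hx := x.2
      simp only [hM0, hM, hInv, Finset.mem_filter, Finset.mem_univ, true_and] at hx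
      by_cases hct : ((c : (R : Subgroup G)) : G) = D.t
      · exact hx.1.2 (hct ▸ hfixc)
      · exact hx.2 _ (by
          simp only [hS, hInv, Finset.mem_filter, Finset.mem_univ, true_and]
          exact ⟨hc2, (c : (R : Subgroup G)).2, hct⟩) hfixc
    haveI := Fintype.ofFinite (Quotient (MulAction.orbitRel (R : Subgroup G) M0))
    rw [← Fintype.card_coe, ← Nat.card_eq_fintype_card,
      Nat.card_congr (MulAction.selfEquivSigmaOrbitsQuotientStabilizer (R : Subgroup G) M0), Nat.card_sigma]
    refine Finset.dvd_sum fun ω _ => ?_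
    rw [← index_eq_card, hfree, index_bot, hR16.1]
  have hunion : M.filter (fun x => ¬ ∀ v ∈ S, ¬ Commute x v) =
      S.biUnion fun v => M.filter fun x => Commute x v := by
    ext x
    simp only [Finset.mem_filter, Finset.mem_biUnion, not_forall, not_not, exists_prop]
    exact ⟨fun ⟨hx, v, hv, hc⟩ => ⟨v, hv, hx, hc⟩, fun ⟨v, hv, hx, hc⟩ => ⟨hx, v, hv, hc⟩⟩
  have hcount : M0.card + 18 * S.card = 336 := by
    rw [← hMcard, ← Finset.card_filter_add_card_filter_not (s := M) (fun x => ∀ v ∈ S, ¬ Commute x v),
      hunion, Finset.card_biUnion, Finset.sum_congr rfl hfix, Finset.sum_const, smul_eq_mul, mul_comm 18]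
    intro v hv v' hv' hne
    rw [Function.onFun, Finset.disjoint_left]
    intro x hx hx'
    rw [Finset.mem_filter] at hx hx'
    exact hne (huniq x hx.1 v hv v' hv' hx.2 hx'.2)
  -- there are between one and seven of them
  have hS1 : 1 ≤ S.card := Finset.card_pos.2 ⟨s₀, by
    simp only [hS, hInv, Finset.mem_filter, Finset.mem_univ, true_and]
    exact ⟨orderOf_eq_prime (by rw [pow_two]; exact h.s_sq)
        fun e => h.s_notMem (e ▸ one_mem _), h.s_mem,
      fun e => h.s_notMem (e.trans ht ▸ npow_mem_zpowers σ _)⟩⟩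
  have hS7 : S.card ≤ 7 := by
    set out : Finset G := Finset.univ.filter fun x => x ∈ (R : Subgroup G) ∧ x ∉ zpowers σ
    have hσs : σ * s₀ ∈ out := by
      simp only [out, Finset.mem_filter, Finset.mem_univ, true_and]
      exact ⟨mul_mem h.tame.mem h.s_mem, fun e => h.s_notMem (by
        simpa using mul_mem (inv_mem (mem_zpowers σ)) e)⟩
    have hsub : S ⊆ out.erase (σ * s₀) := fun v hv => by
      obtain ⟨hv2, hvR, -, hvσ⟩ := hSmem v hv
      simp only [out, Finset.mem_erase, Finset.mem_filter, Finset.mem_univ, true_and]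
      refine ⟨?_, hvR, hvσ⟩
      rintro rfl
      have e := h.refl_sq 1
      rw [pow_one, pow_one, Involution.mul_self hv2] at e
      exact h.tame.mid_ne_one e.symm
    have hout : out.card = 8 := by
      have h1 : (Finset.univ.filter fun x : G => x ∈ (R : Subgroup G)).card = 16 := by
        rw [← hR16.1, Nat.card_eq_fintype_card, Fintype.card_subtype]
      have h2 : (Finset.univ.filter fun x : G => x ∈ zpowers σ).card = 8 := by
        have e : Nat.card (zpowers σ) = 8 := by rw [Nat.card_zpowers, h.tame.order, hR16.2]; norm_num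
        rw [← e, Nat.card_eq_fintype_card, Fintype.card_subtype]
      have h3 : out = (Finset.univ.filter fun x : G => x ∈ (R : Subgroup G)) \
          (Finset.univ.filter fun x : G => x ∈ zpowers σ) := by
        ext x; simp [out]
      rw [h3, Finset.card_sdiff_of_subset, h1, h2]
      intro x
      simp only [Finset.mem_filter, Finset.mem_univ, true_and]
      exact fun hx => h.tame.zpowers_le hx
    calc S.card ≤ (out.erase (σ * s₀)).card := Finset.card_le_card hsub
      _ = 7 := by rw [Finset.card_erase_of_mem hσs, hout]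
  obtain ⟨m, hm⟩ := hM0dvd
  omega

end PreData

end Cfsg.Agent.U3Recog
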