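import Cfsg.Agent.EqLemmas

/-!
# The order step of `PSU₃(q)`: linear algebra in dimension three (owner: helper40)

* `cayley_three` : the Cayley-Hamilton identity written out
* `unipotent_of_rotated` : if `d²` inverts `x` and `d x d⁻¹` commutes with `x` then `x` is unipotent
* `scale_pow_six` : an element of determinant `-1` with a fixed vector scales a regular unipotent by a
  sixth root of unity
-/

set_option autoImplicit false
set_option linter.unusedSectionVars false

namespace Cfsg.Agent.U3Order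

open Matrix

variable {F : Type*} [Field F]

theorem adjugate_eq_quadratic (X : Matrix (Fin 3) (Fin 3) F) :
    X.adjugate = X * X - X.trace • X + X.adjugate.trace • 1 := by
  ext i j
  fin_cases i <;> fin_cases j <;>
    simp [Matrix.adjugate_fin_three, Matrix.mul_apply, Fin.sum_univ_three, Matrix.trace_fin_three] <;> ring

theorem cayley_three (X : Matrix (Fin 3) (Fin 3) F) :
    X * X * X - X.trace • (X * X) + X.adjugate.trace • X - X.det • 1 = 0 := by
  have h := Matrix.mul_adjugate X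
  rw [adjugate_eq_quadratic X] at h
  rw [← h]
  simp only [mul_add, mul_sub, Matrix.mul_smul, mul_one, mul_assoc]
  abel

theorem det_sub_smul (X : Matrix (Fin 3) (Fin 3) F) (z : F) :
    (X - z • (1 : Matrix (Fin 3) (Fin 3) F)).det =
      X.det - z * X.adjugate.trace + z ^ 2 * X.trace - z ^ 3 := by
  simp [Matrix.det_fin_three, Matrix.adjugate_fin_three, Matrix.trace_fin_three]
  ring

theorem no_square_swap : ∀ π : Fin 3 → Fin 3, π (π 0) = 0 → π (π 1) = 2 → π (π 2) = 1 → False := by
  decide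

variable {K : Type*} [Field K]

/-- The case of three distinct eigenvalues. -/
theorem false_of_eigen {x d : Matrix (Fin 3) (Fin 3) K} {α : K}
    (hα0 : α ≠ 0) (hα1 : α ≠ 1) (hα : α ≠ α⁻¹)
    (hev : ∀ l ∈ ({1, α, α⁻¹} : Set K), ∃ v ≠ 0, x *ᵥ v = l • v)
    {d' x' : Matrix (Fin 3) (Fin 3) K} (hd : d' * d = 1) (hxx : x' * x = 1)
    (hinv : x * (d * d) = d * d * x') (hcomm : Commute (d * x * d') x) : False := by
  let l : Fin 3 → K := ![1, α, α⁻¹]
  have hl : Function.Injective l := by
    have h2 : α⁻¹ ≠ 1 := fun e => hα1 (inv_eq_one.1 e)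
    intro i j h
    fin_cases i <;> fin_cases j <;>
      first
        | rfl
        | (exfalso; revert h; simp [l, hα1, hα, hα1.symm, hα.symm, h2, h2.symm])
  have hl0 : ∀ i, l i ≠ 0 := fun i => by fin_cases i <;> simp [l, hα0]
  choose v hv0 hv using fun i : Fin 3 => hev (l i) (by fin_cases i <;> simp [l])
  have hli : LinearIndependent K v := Module.End.eigenvectors_linearIndependent' (Matrix.toLin' x) l hl v
    fun i => Module.End.hasEigenvector_iff.2
      ⟨Module.End.mem_eigenspace_iff.2 (by rw [Matrix.toLin'_apply]; exact hv i), hv0 i⟩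
  let b := basisOfLinearIndependentOfCardEqFinrank hli (by simp)
  have hsum : ∀ u, ∑ j, b.repr u j • v j = u := fun u => by
    have h := b.sum_repr u
    simp only [b, coe_basisOfLinearIndependentOfCardEqFinrank] at h
    exact h
  have hcoef : ∀ (Y : Matrix (Fin 3) (Fin 3) K) (m : Fin 3 → K), (∀ j, Y *ᵥ v j = m j • v j) →
      ∀ u c, Y *ᵥ u = c • u → ∀ j, b.repr u j ≠ 0 → m j = c := by
    intro Y m hY u c hu j hj
    have h1 : ∑ i, (b.repr u i * (m i - c)) • v i = 0 := by
      have e : ∑ i, (b.repr u i * (m i - c)) • v i = Y *ᵥ (∑ i, b.repr u i • v i) - c • ∑ i, b.repr u i • v i := by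
        rw [Matrix.mulVec_sum, Finset.smul_sum, ← Finset.sum_sub_distrib]
        refine Finset.sum_congr rfl fun i _ => ?_
        rw [Matrix.mulVec_smul, hY, smul_smul, smul_smul, ← sub_smul]
        congr 1; ring
      rw [e, hsum, hu, sub_self]
    exact sub_eq_zero.1 ((mul_eq_zero.1 (Fintype.linearIndependent_iff.1 hli _ h1 j)).resolve_left hj)
  have hline : ∀ u i, x *ᵥ u = l i • u → u = b.repr u i • v i := by
    intro u i hu
    conv_lhs => rw [← hsum u]
    refine Finset.sum_eq_single i (fun j _ hji => ?_) fun h => absurd (Finset.mem_univ i) h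
    rw [show b.repr u j = 0 from by_contra fun h => hji (hl (hcoef x l hv u _ hu j h)), zero_smul]
  set y := d * x * d'
  obtain ⟨m, hm⟩ : ∃ m : Fin 3 → K, ∀ j, y *ᵥ v j = m j • v j := ⟨fun j => b.repr (y *ᵥ v j) j, fun j => by
    refine hline _ j ?_
    rw [Matrix.mulVec_mulVec, ← hcomm.eq, ← Matrix.mulVec_mulVec, hv j, Matrix.mulVec_smul]⟩
  have hdne : ∀ u, u ≠ 0 → d *ᵥ u ≠ 0 := fun u hu e => hu (by
    have h := congrArg (d' *ᵥ ·) e
    simpa [Matrix.mulVec_mulVec, hd] using h)
  have hdv : ∀ i, y *ᵥ (d *ᵥ v i) = l i • (d *ᵥ v i) := fun i => by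
    rw [Matrix.mulVec_mulVec, show y * d = d * x by show d * x * d' * d = d * x; rw [mul_assoc, hd, mul_one],
      ← Matrix.mulVec_mulVec, hv i, Matrix.mulVec_smul]
  have hπ : ∀ i, ∃ j, b.repr (d *ᵥ v i) j ≠ 0 := fun i => by
    by_contra hcon
    push Not at hcon
    refine hdne _ (hv0 i) ?_
    rw [← hsum (d *ᵥ v i)]
    simp [hcon]
  choose π hπ' using hπ
  have hmπ : ∀ i, m (π i) = l i := fun i => hcoef y m hm _ _ (hdv i) _ (hπ' i)
  have hπs : Function.Surjective π := Finite.surjective_of_injective fun i j h => hl (by rw [← hmπ, ← hmπ, h])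
  have hminj : Function.Injective m := fun p q h => by
    obtain ⟨i, rfl⟩ := hπs p
    obtain ⟨j, rfl⟩ := hπs q
    rw [hmπ, hmπ] at h
    rw [hl h]
  have hdline : ∀ i, ∃ c : K, c ≠ 0 ∧ d *ᵥ v i = c • v (π i) := fun i => by
    refine ⟨_, hπ' i, ?_⟩
    conv_lhs => rw [← hsum (d *ᵥ v i)]
    refine Finset.sum_eq_single (π i) (fun j _ hji => ?_) fun h => absurd (Finset.mem_univ _) h
    rw [show b.repr (d *ᵥ v i) j = 0 from by_contra fun h =>
      hji (hminj ((hcoef y m hm _ _ (hdv i) j h).trans (hmπ i).symm)), zero_smul]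
  have hsq : ∀ i, l (π (π i)) = (l i)⁻¹ := by
    intro i
    obtain ⟨c, hc, e⟩ := hdline i
    obtain ⟨c', hc', e'⟩ := hdline (π i)
    have e2 : (d * d) *ᵥ v i = (c * c') • v (π (π i)) := by
      rw [← Matrix.mulVec_mulVec, e, Matrix.mulVec_smul, e', smul_smul]
    have hx'v : x' *ᵥ v i = (l i)⁻¹ • v i := by
      have h := congrArg (x' *ᵥ ·) (hv i)
      simp only [Matrix.mulVec_mulVec, hxx, Matrix.one_mulVec, Matrix.mulVec_smul] at h
      nth_rw 2 [h]
      rw [smul_smul, inv_mul_cancel₀ (hl0 i), one_smul]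
    have e3 := congrArg (· *ᵥ v i) hinv
    rw [← Matrix.mulVec_mulVec, e2, ← Matrix.mulVec_mulVec, hx'v, Matrix.mulVec_smul, Matrix.mulVec_smul, hv, e2,
      smul_comm (c * c'), smul_smul, smul_smul] at e3
    have e4 := smul_left_injective K (hv0 (π (π i))) e3
    exact mul_right_cancel₀ (mul_ne_zero hc hc') e4
  refine no_square_swap π (hl ?_) (hl ?_) (hl ?_)
  · rw [hsq 0]; simp [l]
  · rw [hsq 1]; simp [l]
  · rw [hsq 2]; simp [l]

/-- If `d²` inverts `x` of odd order and `d x d⁻¹` commutes with `x`, then `x` is unipotent. -/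
theorem unipotent_of_rotated (h2 : (2 : F) ≠ 0) {x d : GL (Fin 3) F}
    (hdet : (x : Matrix (Fin 3) (Fin 3) F).det = 1) {n : ℕ} (hn : Odd n) (hxn : x ^ n = 1)
    (hinv : d * d * x * (d * d)⁻¹ = x⁻¹) (hcomm : Commute (d * x * d⁻¹) x) :
    ((x : Matrix (Fin 3) (Fin 3) F) - 1) ^ 3 = 0 := by
  set X : Matrix (Fin 3) (Fin 3) F := (x : Matrix (Fin 3) (Fin 3) F) with hX
  have hXadj : X.adjugate = ((x⁻¹ : GL (Fin 3) F) : Matrix (Fin 3) (Fin 3) F) := by
    have h := Matrix.mul_adjugate X
    rw [hdet, one_smul] at h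
    calc X.adjugate = ((x⁻¹ : GL (Fin 3) F) : Matrix (Fin 3) (Fin 3) F) * (X * X.adjugate) := by
          rw [← mul_assoc, hX, Units.inv_mul, one_mul]
      _ = _ := by rw [h, mul_one]
  have htr : X.adjugate.trace = X.trace := by
    rw [hXadj, ← hinv, Units.val_mul, Units.val_mul, Matrix.trace_units_conj]
  by_cases hs : X.trace = 3
  · have h := cayley_three X
    rw [hdet, one_smul, htr, hs] at h
    rw [pow_succ, pow_two, ← h]
    simp only [sub_mul, mul_sub, mul_one, one_mul, show (3 : F) = 1 + 1 + 1 by norm_num, add_smul, one_smul]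
    abel
  exfalso
  let L := AlgebraicClosure F
  let f : F →+* L := algebraMap F L
  have h2' : (2 : L) ≠ 0 := fun e => h2 (f.injective (by rw [map_ofNat, map_zero]; exact e))
  obtain ⟨α, hα⟩ : ∃ α : L, α * α - (f X.trace - 1) * α + 1 = 0 := by
    obtain ⟨z, hz⟩ := IsAlgClosed.exists_eq_mul_self ((f X.trace - 1) * (f X.trace - 1) - 4)
    have h := mul_inv_cancel₀ h2'
    set i := (2 : L)⁻¹
    set s := f X.trace - 1
    refine ⟨(s + z) * i, ?_⟩
    linear_combination -(i * i) * hz + (i * (s * s + s * z) - (2 * i + 1)) * h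
  have hα0 : α ≠ 0 := fun e => one_ne_zero (α := L) (by rw [e] at hα; linear_combination hα)
  have hαinv : α⁻¹ * α⁻¹ - (f X.trace - 1) * α⁻¹ + 1 = 0 := by
    linear_combination α⁻¹ * α⁻¹ * hα + ((f X.trace - 1) * α⁻¹ - 1 - α * α⁻¹) * mul_inv_cancel₀ hα0
  set Y : Matrix (Fin 3) (Fin 3) L := f.mapMatrix X with hY
  have hev : ∀ l ∈ ({1, α, α⁻¹} : Set L), ∃ v ≠ 0, Y *ᵥ v = l • v := by
    intro l hl
    have hd : (Y - l • (1 : Matrix (Fin 3) (Fin 3) L)).det = 0 := by
      have e1 : Y.det = 1 := by rw [hY, ← RingHom.map_det, hdet, map_one]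
      have e2 : Y.trace = f X.trace := (AddMonoidHom.map_trace f.toAddMonoidHom X).symm
      have e3 : Y.adjugate.trace = f X.trace := by
        rw [hY, ← RingHom.map_adjugate, ← htr]; exact (AddMonoidHom.map_trace f.toAddMonoidHom X.adjugate).symm
      rw [det_sub_smul, e1, e2, e3]
      rcases hl with h | h | h <;> rw [h]
      · ring
      · linear_combination (1 - α) * hα
      · linear_combination (1 - α⁻¹) * hαinv
    obtain ⟨v, hv0, hv⟩ := Matrix.exists_mulVec_eq_zero_iff.2 hd
    refine ⟨v, hv0, ?_⟩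
    rw [Matrix.sub_mulVec, Matrix.smul_mulVec, Matrix.one_mulVec, sub_eq_zero] at hv
    exact hv
  have hYn : Y ^ n = 1 := by
    rw [hY, ← map_pow, hX, ← Units.val_pow_eq_pow_val, hxn, Units.val_one, map_one]
  refine false_of_eigen (x := Y) (α := α) hα0 (fun e => hs (f.injective ?_)) (fun e => ?_) hev
    (d := f.mapMatrix d) (d' := f.mapMatrix (d⁻¹ : GL (Fin 3) F)) (x' := f.mapMatrix (x⁻¹ : GL (Fin 3) F))
    ?_ ?_ ?_ ?_
  · rw [map_ofNat]
    rw [e] at hα
    linear_combination -hα
  · have hsq : α * α = 1 := by nth_rw 1 [e]; exact inv_mul_cancel₀ hα0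
    rcases mul_self_eq_one_iff.1 hsq with h1 | h1
    · rw [h1] at hα
      exact hs (f.injective (by rw [map_ofNat]; linear_combination -hα))
    · obtain ⟨v, hv0, hv⟩ := hev α (by simp)
      have hp : ∀ k : ℕ, (Y ^ k) *ᵥ v = ((-1 : L) ^ k) • v := by
        intro k
        induction k with
        | zero => simp
        | succ k ih => rw [pow_succ, ← Matrix.mulVec_mulVec, hv, h1, Matrix.mulVec_smul, ih, smul_smul, ← pow_succ']
      have := hp n
      rw [hYn, Matrix.one_mulVec, hn.neg_one_pow] at this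
      have h3 : (2 : L) • v = 0 := by rw [two_smul]; nth_rw 2 [this]; simp
      exact hv0 ((smul_eq_zero.1 h3).resolve_left h2')
  · rw [← map_mul, Units.inv_mul, map_one]
  · rw [← map_mul, Units.inv_mul, map_one]
  · rw [hY, hX, ← map_mul, ← map_mul, ← map_mul, ← Units.val_mul, ← Units.val_mul, ← Units.val_mul]
    congr 2
    calc x * (d * d) = (d * d * x * (d * d)⁻¹)⁻¹ * (d * d) := by rw [hinv, inv_inv]
      _ = _ := by simp [mul_assoc]
  · rw [hY, hX, ← map_mul, ← map_mul]
    have h := congrArg (fun u : GL (Fin 3) F => (u : Matrix (Fin 3) (Fin 3) F)) hcomm.eq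
    simp only [Units.val_mul] at h
    exact (show Commute _ _ from h).map f.mapMatrix

/-- Scaling a regular unipotent element. -/
theorem scale_pow_six (h20 : (2 : F) ≠ 0) {X : Matrix (Fin 3) (Fin 3) F} {g : GL (Fin 3) F} {c : ℕ}
    (h3 : (X - 1) ^ 3 = 0) (h2 : (X - 1) ^ 2 ≠ 0)
    (hg : (g : Matrix (Fin 3) (Fin 3) F) * X = X ^ c * g) (hdet : (g : Matrix (Fin 3) (Fin 3) F).det = -1)
    (hfix : ((g : Matrix (Fin 3) (Fin 3) F) - 1).det = 0) : (c : F) ^ 6 = 1 := by
  set N := X - 1 with hN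
  have hN3 : N * (N * N) = 0 := by rw [← h3, pow_succ, pow_two, mul_assoc]
  have hXc : ∀ k : ℕ, X ^ k = 1 + (k : F) • N + (k.choose 2 : F) • (N * N) := by
    intro k
    induction k with
    | zero => simp
    | succ k ih =>
      rw [pow_succ, ih, show X = 1 + N by rw [hN]; abel, Nat.choose_succ_succ, Nat.choose_one_right]
      simp only [mul_add, add_mul, mul_one, one_mul, Matrix.smul_mul, mul_assoc, hN3, smul_zero,
        Nat.cast_add, Nat.cast_one, add_smul, one_smul]
      abel
  set C : Matrix (Fin 3) (Fin 3) F := (g : Matrix (Fin 3) (Fin 3) F)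
  have hgN : C * N = (c : F) • (N * C) + (c.choose 2 : F) • (N * N * C) := by
    rw [hN, mul_sub, mul_one, hg, hXc, ← hN]
    simp only [add_mul, one_mul, Matrix.smul_mul]
    abel
  obtain ⟨v, hv⟩ : ∃ v, (N * N) *ᵥ v ≠ 0 := by
    by_contra hcon
    push Not at hcon
    exact h2 (by
      rw [pow_two]
      exact Matrix.ext_iff_mulVec.2 fun v => by rw [hcon v, Matrix.zero_mulVec])
  let col : Fin 3 → Fin 3 → F := ![v, N *ᵥ v, (N * N) *ᵥ v]
  let P : Matrix (Fin 3) (Fin 3) F := Matrix.of fun i j => col j i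
  have hP : ∀ u : Fin 3 → F, P *ᵥ u = u 0 • v + u 1 • N *ᵥ v + u 2 • (N * N) *ᵥ v := by
    intro u; funext i
    simp [P, col, Matrix.mulVec, dotProduct, Fin.sum_univ_three, mul_comm]
  have hPinj : ∀ u, P *ᵥ u = 0 → u = 0 := by
    intro u hu
    rw [hP] at hu
    have e0 : u 0 = 0 := by
      have := congrArg ((N * N) *ᵥ ·) hu
      simp only [Matrix.mulVec_add, Matrix.mulVec_smul, Matrix.mulVec_mulVec, Matrix.mulVec_zero] at this
      rw [mul_assoc N N N, hN3, mul_assoc N N (N * N), hN3] at this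
      simpa [hv] using this
    have e1 : u 1 = 0 := by
      have := congrArg (N *ᵥ ·) hu
      simp only [e0, zero_smul, zero_add, Matrix.mulVec_add, Matrix.mulVec_smul, Matrix.mulVec_mulVec,
        Matrix.mulVec_zero, hN3, Matrix.zero_mulVec, smul_zero, add_zero] at this
      exact (smul_eq_zero.1 this).resolve_right hv
    have e2 : u 2 = 0 := by
      simp only [e0, e1, zero_smul, zero_add] at hu
      exact (smul_eq_zero.1 hu).resolve_right hv
    funext i; fin_cases i <;> assumption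
  have hPdet : P.det ≠ 0 := fun e => by
    obtain ⟨u, hu0, hu⟩ := Matrix.exists_mulVec_eq_zero_iff.2 e
    exact hu0 (hPinj u hu)
  obtain ⟨u, hu⟩ := (Matrix.mulVec_surjective_iff_isUnit.2 ((Matrix.isUnit_iff_isUnit_det P).2
    (isUnit_iff_ne_zero.2 hPdet))) (C *ᵥ v)
  rw [hP] at hu
  have hC1 : C *ᵥ (N *ᵥ v) =
      ((c : F) * u 0) • N *ᵥ v + ((c : F) * u 1 + (c.choose 2 : F) * u 0) • (N * N) *ᵥ v := by
    rw [Matrix.mulVec_mulVec, hgN, Matrix.add_mulVec, Matrix.smul_mulVec, Matrix.smul_mulVec]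
    simp only [← Matrix.mulVec_mulVec, ← hu]
    simp only [Matrix.mulVec_add, Matrix.mulVec_smul, Matrix.mulVec_mulVec, hN3, mul_assoc, Matrix.zero_mulVec,
      smul_zero, add_zero]
    simp [smul_add, smul_smul, add_smul, add_assoc]
  have hC2 : C *ᵥ ((N * N) *ᵥ v) = ((c : F) * ((c : F) * u 0)) • (N * N) *ᵥ v := by
    have e : C * (N * N) = (c : F) • (N * (C * N)) + (c.choose 2 : F) • (N * N * (C * N)) := by
      conv_lhs => rw [← mul_assoc, hgN]
      simp only [add_mul, Matrix.smul_mul, mul_assoc]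
    rw [Matrix.mulVec_mulVec, e, Matrix.add_mulVec, Matrix.smul_mulVec, Matrix.smul_mulVec]
    simp only [← Matrix.mulVec_mulVec, hC1, Matrix.mulVec_add, Matrix.mulVec_smul]
    simp only [Matrix.mulVec_mulVec, hN3, Matrix.zero_mulVec, smul_zero, add_zero, mul_assoc]
    simp [smul_smul]
  let U : Matrix (Fin 3) (Fin 3) F := !![u 0, 0, 0; u 1, (c : F) * u 0, 0;
    u 2, (c : F) * u 1 + (c.choose 2 : F) * u 0, (c : F) * ((c : F) * u 0)]
  have hCP : C * P = P * U := by
    refine Matrix.ext_iff_mulVec.2 fun z => ?_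
    rw [← Matrix.mulVec_mulVec, ← Matrix.mulVec_mulVec, hP, hP, Matrix.mulVec_add, Matrix.mulVec_add,
      Matrix.mulVec_smul, Matrix.mulVec_smul, Matrix.mulVec_smul, ← hu, hC1, hC2]
    simp [U, Matrix.mulVec, dotProduct, Fin.sum_univ_three]
    module
  have hdU : U.det = -1 := by
    have := congrArg Matrix.det hCP
    rw [Matrix.det_mul, Matrix.det_mul, hdet, mul_comm] at this
    exact (mul_left_cancel₀ hPdet this).symm
  have hdU1 : (U - 1).det = 0 := by
    have : (C - 1) * P = P * (U - 1) := by rw [sub_mul, mul_sub, one_mul, mul_one, hCP]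
    have := congrArg Matrix.det this
    rw [Matrix.det_mul, Matrix.det_mul, hfix, zero_mul] at this
    exact (mul_eq_zero.1 this.symm).resolve_left hPdet
  simp [U, Matrix.det_fin_three] at hdU hdU1
  have hd : (c : F) ^ 3 * u 0 ^ 3 = -1 := by linear_combination hdU
  rcases hdU1 with (h | h) | h
  · rw [sub_eq_zero] at h
    rw [h, one_pow, mul_one] at hd
    linear_combination ((c : F) ^ 3 - 1) * hd
  · rw [sub_eq_zero] at h
    have h1 : ((c : F) * u 0) ^ 3 = 1 := by rw [h, one_pow]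
    exact absurd (show (2 : F) = 0 by linear_combination hd - h1) h20
  · rw [sub_eq_zero] at h
    have h1 : ((c : F) * ((c : F) * u 0)) ^ 3 = 1 := by rw [h, one_pow]
    linear_combination ((c : F) ^ 3 - 1) * ((c : F) ^ 3 * hd - h1)

end Cfsg.Agent.U3Order
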