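import Cfsg.Agent.Lib.U3Order.WeylBSW
import Cfsg.Agent.Lib.U3Order.WeylLinear

/-!
# The order step of `PSU₃(q)`: no automiser in dimension three (owner: helper40)

* `prime_power_of_free` : a subgroup with a large semiregular automorphism group has prime power order
* `card_one` : the arithmetic bound from the order of `GL₃(r)`
* `WeylHyp.false` : the configuration is impossible
-/

set_option autoImplicit false
set_option linter.unusedSectionVars false
set_option linter.style.haveILetI false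

namespace Cfsg.Agent.U3Order

open Matrix
open scoped Pointwise

variable {G : Type*} [Group G] [Finite G]

/-- A self-centralising subgroup with a semiregular group of half its size has prime power order. -/
theorem prime_power_of_free (Q D : Subgroup G) (hcent : ∀ x ∈ Q, x ≠ 1 → BSW.cent x = Q) (hQD : Q ⊓ D = ⊥)
    (hnorm : D ≤ Subgroup.normalizer (Q : Set G)) (hd : 2 * Nat.card D + 1 = Nat.card Q) :
    ∃ l k : ℕ, l.Prime ∧ 1 ≤ k ∧ Nat.card Q = l ^ k := by
  classical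
  have hd0 : 0 < Nat.card D := Nat.card_pos
  have hq : Nat.card Q ≠ 1 := by omega
  obtain ⟨l, hl, hlQ⟩ := Nat.exists_prime_and_dvd hq
  suffices huniq : ∀ z, z.Prime → z ∣ Nat.card Q → z = l by
    refine ⟨l, (Nat.card Q).primeFactorsList.length, hl, ?_,
      Nat.eq_prime_pow_of_unique_prime_dvd Nat.card_pos.ne' fun {d} hdp hdd => huniq d hdp hdd⟩
    rw [Nat.one_le_iff_ne_zero, Ne, List.length_eq_zero_iff, Nat.primeFactorsList_eq_nil]
    push Not
    exact ⟨Nat.card_pos.ne', hq⟩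
  intro z hz hzQ
  by_contra hne
  haveI := Fact.mk hl
  haveI := Fact.mk hz
  obtain ⟨x, hx⟩ := exists_prime_orderOf_dvd_card' (G := Q) l hlQ
  obtain ⟨x', hx'⟩ := exists_prime_orderOf_dvd_card' (G := Q) z hzQ
  have hx1 : (x : G) ≠ 1 := fun e => hl.one_lt.ne' (by
    rw [← hx, show x = 1 from Subtype.ext e, orderOf_one])
  have hc : Commute x x' := by
    have h : (x' : G) ∈ BSW.cent (x : G) := by rw [hcent _ x.2 hx1]; exact x'.2
    exact Subtype.ext (BSW.mem_cent.1 h).symm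
  have hco : orderOf (x * x') = l * z := by
    rw [hc.orderOf_mul_eq_mul_orderOf_of_coprime (by rw [hx, hx']; exact (Nat.coprime_primes hl hz).2 (Ne.symm hne)),
      hx, hx']
  let S : ℕ → Set G := fun n => {g | g ∈ Q ∧ orderOf g = n}
  have hS : ∀ (n : ℕ) (g : Q), orderOf g = n → n ≠ 1 → Nat.card D ≤ (S n).ncard := by
    intro n g hg hn
    have hg1 : (g : G) ≠ 1 := fun e => hn (by rw [← hg, show g = 1 from Subtype.ext e, orderOf_one])
    rw [← Nat.card_coe_set_eq]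
    let f : D → S n := fun d => ⟨(d : G) * g * (d : G)⁻¹,
      (Subgroup.mem_normalizer_iff.1 (hnorm d.2) g).1 g.2, by
        rw [← hg, ← Subgroup.orderOf_coe g]
        exact orderOf_injective (MulAut.conj (d : G)).toMonoidHom (MulAut.conj (d : G)).injective _⟩
    refine Nat.card_le_card_of_injective f fun d d' h => ?_
    have h' : (d : G) * g * (d : G)⁻¹ = (d' : G) * g * (d' : G)⁻¹ := congrArg Subtype.val h
    have hm : (d' : G)⁻¹ * d ∈ BSW.cent (g : G) := BSW.mem_cent.2 (by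
      calc (d' : G)⁻¹ * d * g = (d' : G)⁻¹ * ((d : G) * g * (d : G)⁻¹) * d := by group
        _ = g * ((d' : G)⁻¹ * d) := by rw [h']; group)
    rw [hcent _ g.2 hg1] at hm
    have h2 : (d' : G)⁻¹ * d ∈ Q ⊓ D := ⟨hm, D.mul_mem (D.inv_mem d'.2) d.2⟩
    rw [hQD, Subgroup.mem_bot, inv_mul_eq_one] at h2
    exact (Subtype.ext h2).symm
  have h1 := hS l x hx hl.one_lt.ne'
  have h2 := hS z x' hx' hz.one_lt.ne'
  have h3 := hS (l * z) (x * x') hco (fun e => hl.one_lt.ne' (Nat.eq_one_of_mul_eq_one_right e))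
  have hlt : l < l * z := lt_mul_of_one_lt_right hl.pos hz.one_lt
  have hlt' : z < l * z := lt_mul_of_one_lt_left hz.pos hl.one_lt
  have d1 : Disjoint (S l) (S z) := Set.disjoint_left.2 fun g a b => hne (b.2.symm.trans a.2)
  have d2 : Disjoint (S l ∪ S z) (S (l * z)) := Set.disjoint_left.2 fun g a b => by
    have hb : orderOf g = l * z := b.2
    rcases a with a | a <;> have ha := a.2 <;> omega
  have hsub : S l ∪ S z ∪ S (l * z) ⊆ (Q : Set G) \ {1} := fun g hg => by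
    rcases hg with (hg | hg) | hg <;> refine ⟨hg.1, fun e => ?_⟩ <;> have e1 : g = 1 := e <;>
      have e2 := hg.2 <;> rw [e1, orderOf_one] at e2
    · exact hl.one_lt.ne e2
    · exact hz.one_lt.ne e2
    · have := hl.one_lt; omega
  have h4 := Set.ncard_le_ncard hsub (Set.toFinite _)
  rw [Set.ncard_union_eq d2 (Set.toFinite _) (Set.toFinite _), Set.ncard_union_eq d1 (Set.toFinite _) (Set.toFinite _),
    Set.ncard_sdiff_singleton_of_mem Q.one_mem] at h4
  have h5 : (Q : Set G).ncard = Nat.card Q := (Nat.card_coe_set_eq _).symm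
  omega

/-- The bound from the order of `GL₃(r)`. -/
theorem card_one {r k n : ℕ} (hr : r.Prime) (hr2 : r ≠ 2) (hk : 1 ≤ k)
    (hn : 2 * n = r ^ k * (r ^ k + 1) * (r ^ k - 1))
    (hdvd : n ∣ r ^ 3 * ((r - 1) * ((r ^ 2 - 1) * (r ^ 3 - 1)))) : k = 1 := by
  have hr3 : 3 ≤ r := by have := hr.two_le; omega
  have h := Nat.mul_dvd_mul_left 2 hdvd
  rw [hn] at h
  have hpos2 : 1 ≤ r ^ 2 := Nat.one_le_pow _ _ hr.pos
  have hpos3 : 1 ≤ r ^ 3 := Nat.one_le_pow _ _ hr.pos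
  have hk3 : k ≤ 3 := by
    have h1 : r ^ k ∣ r ^ 3 * (2 * ((r - 1) * ((r ^ 2 - 1) * (r ^ 3 - 1)))) := by
      rw [mul_left_comm]; exact (dvd_mul_of_dvd_left (dvd_mul_right _ _) _).trans h
    have hnd : ¬ r ∣ 2 * ((r - 1) * ((r ^ 2 - 1) * (r ^ 3 - 1))) := by
      have key : ∀ m, 1 ≤ m → ¬ r ∣ r ^ m - 1 := fun m hm e => by
        have e2 : r ∣ r ^ m := dvd_pow_self r (by omega)
        have := Nat.dvd_sub e2 e
        rw [Nat.sub_sub_self (Nat.one_le_pow _ _ hr.pos), Nat.dvd_one] at this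
        omega
      intro e
      rcases hr.dvd_mul.1 e with e | e
      · exact hr2 ((Nat.prime_dvd_prime_iff_eq hr Nat.prime_two).1 e)
      rcases hr.dvd_mul.1 e with e | e
      · exact key 1 le_rfl (by rwa [pow_one])
      rcases hr.dvd_mul.1 e with e | e
      · exact key 2 (by norm_num) e
      · exact key 3 (by norm_num) e
    exact (Nat.pow_dvd_pow_iff_le_right hr.one_lt).1
      ((Nat.Coprime.pow_left k (hr.coprime_iff_not_dvd.2 hnd)).dvd_of_dvd_mul_right h1)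
  rcases (show k = 1 ∨ k = 2 ∨ k = 3 by omega) with rfl | rfl | rfl
  · rfl
  · exfalso
    have h1 : r ^ 2 + 1 ∣ 2 * (r ^ 3 * ((r - 1) * ((r ^ 2 - 1) * (r ^ 3 - 1)))) :=
      (dvd_mul_of_dvd_left (dvd_mul_left _ _) _).trans h
    have hcop : (r ^ 2 + 1).Coprime (r ^ 3) := Nat.Coprime.pow_right 3 (Nat.Coprime.symm
      (hr.coprime_iff_not_dvd.2 fun e => by
        have := Nat.dvd_sub e (dvd_pow_self r two_ne_zero)
        rw [Nat.add_sub_cancel_left, Nat.dvd_one] at this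
        omega))
    rw [mul_left_comm] at h1
    have h2 := Int.natCast_dvd_natCast.2 (hcop.dvd_of_dvd_mul_left h1)
    push_cast [Nat.cast_sub (show 1 ≤ r by omega), Nat.cast_sub hpos2, Nat.cast_sub hpos3] at h2
    have h3 : (r : ℤ) ^ 2 + 1 ∣ 8 := by
      have e : (8 : ℤ) = ((r : ℤ) ^ 2 + 1) * (2 * ((r : ℤ) ^ 2 - 1) * ((r : ℤ) ^ 2 - r - 1) + 4) -
          2 * (((r : ℤ) - 1) * (((r : ℤ) ^ 2 - 1) * ((r : ℤ) ^ 3 - 1))) := by ring
      rw [e]; exact dvd_sub (dvd_mul_right _ _) h2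
    have h4 := Int.le_of_dvd (by norm_num) h3
    nlinarith
  · exfalso
    have h1 : (r ^ 3 - 1) * (r ^ 3 * (r ^ 3 + 1)) ∣ (r ^ 3 - 1) * (r ^ 3 * (2 * ((r - 1) * (r ^ 2 - 1)))) :=
      (dvd_of_eq (by ring)).trans (h.trans (dvd_of_eq (by ring)))
    have hp : 0 < r ^ 3 - 1 := by
      have : 27 ≤ r ^ 3 := (Nat.pow_le_pow_left hr3 3).trans' (by norm_num)
      omega
    have h2 := Nat.dvd_of_mul_dvd_mul_left (pow_pos hr.pos 3) (Nat.dvd_of_mul_dvd_mul_left hp h1)
    have hne : 0 < 2 * ((r - 1) * (r ^ 2 - 1)) := by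
      have : 9 ≤ r ^ 2 := (Nat.pow_le_pow_left hr3 2).trans' (by norm_num)
      exact Nat.mul_pos two_pos (Nat.mul_pos (by omega) (by omega))
    obtain ⟨m, hm⟩ := h2
    have hm' := congrArg (fun x : ℕ => (x : ℤ)) hm
    push_cast [Nat.cast_sub (show 1 ≤ r by omega), Nat.cast_sub hpos2] at hm'
    rcases (show m = 0 ∨ m = 1 ∨ 2 ≤ m by omega) with rfl | rfl | hm2
    · rw [mul_zero] at hm; omega
    · have h3r : (3 : ℤ) ≤ r := by exact_mod_cast hr3
      push_cast at hm'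
      nlinarith [mul_nonneg (sub_nonneg.2 h3r) (sq_nonneg (r : ℤ))]
    · have : (3 : ℤ) ≤ r := by exact_mod_cast hr3
      have : (2 : ℤ) ≤ m := by exact_mod_cast hm2
      nlinarith

namespace WeylHyp

variable {r v : ℕ} [Fact r.Prime] {W T : Subgroup (GLr r)} {t w σ y : GLr r}
  (H : WeylHyp r v W T t w σ y)
include H

theorem card_W1_dvd : 8 ∣ Nat.card H.W1 := by
  haveI := Fact.mk Nat.prime_two
  have h3 := H.three_le
  have hP : IsPGroup 2 (H.SD ⊓ H.W1 : Subgroup (GLr r)) := H.isPGroup_SD.to_le inf_le_left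
  obtain ⟨m, hm⟩ := IsPGroup.iff_card.1 hP
  have hle : Subgroup.zpowers (σ * σ) ≤ H.SD ⊓ H.W1 := Subgroup.zpowers_le.2
    ⟨mul_mem H.σ_mem_SD H.σ_mem_SD, mul_mem (H.le H.σ_mem) (H.le H.σ_mem), by rw [dt_mul, H.dt_σ]; ring⟩
  have ho : Nat.card (Subgroup.zpowers (σ * σ)) = 2 ^ (v - 1) := by
    rw [Nat.card_zpowers, ← pow_two, orderOf_pow' σ two_ne_zero, H.order_σ,
      Nat.gcd_eq_right (dvd_pow_self 2 (by omega))]
    obtain ⟨j, rfl⟩ : ∃ j, v = j + 1 := ⟨v - 1, by omega⟩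
    rw [pow_succ, Nat.mul_div_cancel _ two_pos, Nat.add_sub_cancel]
  have hne : Subgroup.zpowers (σ * σ) ≠ H.SD ⊓ H.W1 := fun e => H.w_not_mem (by
    have hw : w ∈ Subgroup.zpowers (σ * σ) := by rw [e]; exact ⟨H.w_mem_SD, H.w_mem_W1⟩
    exact Subgroup.zpowers_le.2 (mul_mem H.σ_mem H.σ_mem) hw)
  have hlt : 2 ^ (v - 1) < 2 ^ m := by
    rw [← ho, ← hm]
    refine lt_of_le_of_ne (Subgroup.card_le_of_le hle) fun e => ?_
    exact hne (Subgroup.eq_of_le_of_card_ge hle e.ge)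
  have hvm : v - 1 < m := (Nat.pow_lt_pow_iff_right (by norm_num)).1 hlt
  exact (show (8 : ℕ) = 2 ^ 3 by norm_num) ▸ ((Nat.pow_dvd_pow 2 (by omega : 3 ≤ m)).trans
    (hm ▸ Subgroup.card_dvd_of_le inf_le_right))

/-- An element of order `r` inverted by `t` generating its centralizer is not a transvection. -/
theorem false_of_transvection {x : GLr r} (hx : x ∈ H.W1) (hinv : t * x * t⁻¹ = x⁻¹)
    (hcent : ∀ g ∈ H.W1, Commute g x → g ∈ Subgroup.zpowers x)
    (hN2 : ((x : Matrix (Fin 3) (Fin 3) (ZMod r)) - 1) * ((x : Matrix (Fin 3) (Fin 3) (ZMod r)) - 1) = 0)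
    (hx1 : x ≠ 1) : False := by
  set X : Matrix (Fin 3) (Fin 3) (ZMod r) := (x : Matrix (Fin 3) (Fin 3) (ZMod r)) with hX
  set N := X - 1 with hN
  have hXN : X = 1 + N := by rw [hN]; abel
  have hinvX : ((x⁻¹ : GLr r) : Matrix (Fin 3) (Fin 3) (ZMod r)) = 1 - N := by
    have h1 : X * (1 - N) = 1 := by
      rw [hXN, add_mul, one_mul, mul_sub, mul_one, hN2]; abel
    calc ((x⁻¹ : GLr r) : Matrix (Fin 3) (Fin 3) (ZMod r)) =
        ((x⁻¹ : GLr r) : Matrix (Fin 3) (Fin 3) (ZMod r)) * (X * (1 - N)) := by rw [h1, mul_one]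
      _ = 1 - N := by rw [← mul_assoc, hX, Units.inv_mul, one_mul]
  have ht2 : tMat * N = -(N * tMat) := by
    have h := mul_inv_eq_iff_eq_mul.1 hinv
    have h' := congrArg (fun g : GLr r => (g : Matrix (Fin 3) (Fin 3) (ZMod r))) h
    simp only [Units.val_mul, H.t_val, hinvX] at h'
    rw [← hX, hXN, mul_add, sub_mul, mul_one, one_mul, sub_eq_add_neg] at h'
    exact add_left_cancel h'
  have hpow : ∀ g : GLr r, g ∈ Subgroup.zpowers x →
      ∃ i : ℕ, (g : Matrix (Fin 3) (Fin 3) (ZMod r)) = 1 + (i : ZMod r) • N := by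
    intro g hg
    obtain ⟨i, rfl⟩ := mem_powers_iff_mem_zpowers.2 hg
    exact ⟨i, by simp only; rw [Units.val_pow_eq_pow_val, ← hX, hXN, one_add_pow hN2]⟩
  have hconj : ∀ g : GLr r, g ∈ W → (∃ j : ℕ, ((g * x * g⁻¹ : GLr r) : Matrix (Fin 3) (Fin 3) (ZMod r)) =
      1 + (j : ZMod r) • N) → ∃ j : ZMod r, (g : Matrix (Fin 3) (Fin 3) (ZMod r)) * N =
        (j • N) * (g : Matrix (Fin 3) (Fin 3) (ZMod r)) := by
    rintro g - ⟨j, hj⟩
    refine ⟨j, ?_⟩
    have h : (g : Matrix (Fin 3) (Fin 3) (ZMod r)) * X =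
        (1 + (j : ZMod r) • N) * (g : Matrix (Fin 3) (Fin 3) (ZMod r)) := by
      rw [← hj, hX, ← Units.val_mul, ← Units.val_mul, inv_mul_cancel_right]
    rw [hXN, mul_add, add_mul, mul_one, one_mul] at h
    exact add_left_cancel h
  have hblock : ∀ g : GLr r, Commute g t → IsBlock (g : Matrix (Fin 3) (Fin 3) (ZMod r)) := fun g hg =>
    (isBlock_iff H.two_ne _).2 (by rw [← H.t_val, ← Units.val_mul, ← Units.val_mul, hg.eq])
  have hval : ∀ g : GLr r, ((g * x * g⁻¹ : GLr r) : Matrix (Fin 3) (Fin 3) (ZMod r)) =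
      1 + (g : Matrix (Fin 3) (Fin 3) (ZMod r)) * N * ((g⁻¹ : GLr r) : Matrix (Fin 3) (Fin 3) (ZMod r)) := by
    intro g
    rw [Units.val_mul, Units.val_mul, ← hX, hXN, mul_add, add_mul, mul_one, Units.mul_inv]
  have key : ∀ P : Matrix (Fin 3) (Fin 3) (ZMod r) → Prop, P N →
      (∀ {g g' M : Matrix (Fin 3) (Fin 3) (ZMod r)}, P M → IsBlock g → IsBlock g' → P (g * M * g')) →
      (∀ {M M' : Matrix (Fin 3) (Fin 3) (ZMod r)}, P M → P M' → M * M' = 0) →
      ∀ g ∈ W, Commute g t → ∃ j : ZMod r, (g : Matrix (Fin 3) (Fin 3) (ZMod r)) * N =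
        (j • N) * (g : Matrix (Fin 3) (Fin 3) (ZMod r)) := by
    intro P hP hPc hP0 g hg hgt
    refine hconj g hg (hpow _ (hcent _ ⟨mul_mem (mul_mem hg hx.1) (inv_mem hg), ?_⟩ ?_))
    · rw [dt_conj]; exact hx.2
    · have hP' := hPc hP (hblock g hgt) (hblock _ hgt.inv_left)
      refine Units.ext ?_
      rw [Units.val_mul, Units.val_mul _ (g * x * g⁻¹ : GLr r), hval, ← hX, hXN]
      simp only [mul_add, add_mul, one_mul, mul_one, hP0 hP' hP, hP0 hP hP']
      abel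
  obtain ⟨-, hβ, hγ, -⟩ := H.σ_entries
  obtain ⟨hSb, hS00⟩ := H.T_block σ H.σ_mem
  have hN0 : N ≠ 0 := fun e => hx1 (Units.ext (by rw [Units.val_one, ← hX, hXN, e, add_zero]))
  rcases row_or_col H.two_ne hN2 ht2 with hrow | hcol
  · obtain ⟨i, hi⟩ := key IsRow hrow (fun h => h.conj) (fun h h' => h.mul_eq_zero h') w H.w_mem H.comm_tw
    obtain ⟨j, hj⟩ := key IsRow hrow (fun h => h.conj) (fun h h' => h.mul_eq_zero h') σ (H.le H.σ_mem)
      (H.comm_t H.σ_mem)
    rw [H.w_val] at hi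
    exact hN0 (row_zero H.two_ne hSb hS00 hβ hγ hrow hi hj)
  · obtain ⟨i, hi⟩ := key IsCol hcol (fun h => h.conj) (fun h h' => h.mul_eq_zero h') w H.w_mem H.comm_tw
    obtain ⟨j, hj⟩ := key IsCol hcol (fun h => h.conj) (fun h h' => h.mul_eq_zero h') σ (H.le H.σ_mem)
      (H.comm_t H.σ_mem)
    rw [H.w_val] at hi
    exact hN0 (col_zero H.two_ne hSb hS00 hβ hγ hcol hi hj)

theorem false : False := by
  classical
  haveI := Fact.mk Nat.prime_two
  obtain ⟨Q, D, hcard, hcent, hDab, hDQ, hQD, hN, -⟩ := H.bsw.conclusion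
  have hcentB : ∀ x ∈ Q, x ≠ 1 → BSW.cent x = Q := hcent
  have hDN : D ≤ Subgroup.normalizer (Q : Set H.W1) := hN ▸ le_sup_right
  set d := Nat.card D with hd
  have hd0 : 0 < d := Nat.card_pos
  have hG1 : Nat.card H.W1 = Nat.card Q * (2 * d * (d + 1)) := by
    refine Nat.eq_of_mul_eq_mul_left two_pos ?_
    rw [hcard, ← hDQ, show 2 * d + 1 + 1 = 2 * (d + 1) by ring, show 2 * d + 1 - 1 = 2 * d by omega]
    ring
  obtain ⟨l, k, hl, hk, hQk⟩ := prime_power_of_free Q D hcentB hQD hDN hDQ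
  haveI := Fact.mk hl
  have hQodd : Odd (Nat.card Q) := ⟨d, by omega⟩
  have hcop : ¬ l ∣ 2 * d * (d + 1) := by
    intro e
    have h1 : l ∣ 2 * d + 1 := by rw [hDQ, hQk]; exact dvd_pow_self l (by omega)
    rcases hl.dvd_mul.1 e with h2 | h2
    · have := Nat.dvd_sub h1 h2
      rw [Nat.add_sub_cancel_left, Nat.dvd_one] at this
      exact hl.one_lt.ne' this
    · have := Nat.dvd_sub (dvd_mul_of_dvd_right h2 2) h1
      rw [show 2 * (d + 1) - (2 * d + 1) = 1 by omega, Nat.dvd_one] at this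
      exact hl.one_lt.ne' this
  have hQfac : l ^ (Nat.card H.W1).factorization l = Nat.card Q := by
    rw [hG1, hQk, Nat.factorization_mul (pow_ne_zero _ hl.ne_zero) (by positivity), Finsupp.add_apply,
      Nat.Prime.factorization_pow hl, Finsupp.single_eq_same, Nat.factorization_eq_zero_of_not_dvd hcop, add_zero]
  -- the Frattini argument
  set Qg : Subgroup (GLr r) := Q.map H.W1.subtype with hQg
  have hQgW : Qg ≤ H.W1 := Subgroup.map_subtype_le _
  have hσW1 : ∀ g ∈ H.W1, σ * g * σ⁻¹ ∈ H.W1 := fun g hg =>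
    ⟨mul_mem (mul_mem (H.le H.σ_mem) hg.1) (inv_mem (H.le H.σ_mem)), by rw [dt_conj]; exact hg.2⟩
  obtain ⟨g, hgW, hgd, hgN⟩ : ∃ g ∈ W, dt g = -1 ∧ g ∈ Subgroup.normalizer (Qg : Set (GLr r)) := by
    set φ := (MulAut.conj σ).toMonoidHom
    have hle : Qg.map φ ≤ H.W1 := by
      rintro _ ⟨x, hx, rfl⟩; exact hσW1 x (hQgW hx)
    set Q2 : Subgroup H.W1 := (Qg.map φ).subgroupOf H.W1
    have hc2 : Nat.card Q2 = Nat.card Q := by
      rw [Nat.card_congr (Subgroup.subgroupOfEquivOfLe hle).toEquiv,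
        Subgroup.card_map_of_injective (MulAut.conj σ).injective, Subgroup.card_map_of_injective H.W1.subtype_injective]
    obtain ⟨h, hh⟩ := MulAction.exists_smul_eq H.W1 (Sylow.ofCard Q (by rw [hQfac]))
      (Sylow.ofCard Q2 (by rw [hQfac, hc2]) : Sylow l H.W1)
    have hh' : MulAut.conj h • Q = Q2 := congrArg (fun P : Sylow l H.W1 => (P : Subgroup H.W1)) hh
    refine ⟨(h : GLr r)⁻¹ * σ, mul_mem (inv_mem h.2.1) (H.le H.σ_mem), ?_, ?_⟩
    · rw [dt_mul, H.dt_σ]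
      have := dt_inv_mul (h : GLr r)
      rw [h.2.2, mul_one] at this
      rw [this, one_mul]
    · refine Subgroup.mem_normalizer_fintype ?_
      rintro _ ⟨x, hx, rfl⟩
      have h1 : (⟨σ * (x : GLr r) * σ⁻¹, hσW1 x x.2⟩ : H.W1) ∈ Q2 := ⟨x, ⟨x, hx, rfl⟩, rfl⟩
      rw [← hh', Subgroup.mem_smul_pointwise_iff_exists] at h1
      obtain ⟨z, hz, hze⟩ := h1
      refine ⟨z, hz, ?_⟩
      have hze' : (h : GLr r) * z * (h : GLr r)⁻¹ = σ * x * σ⁻¹ := congrArg Subtype.val hze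
      calc (z : GLr r) = (h : GLr r)⁻¹ * ((h : GLr r) * z * (h : GLr r)⁻¹) * h := by group
        _ = _ := by rw [hze']; show _ = (h : GLr r)⁻¹ * σ * (x : GLr r) * ((h : GLr r)⁻¹ * σ)⁻¹; group
  -- the normalizer inside `H.W1`
  have hNmem : ∀ x : H.W1, (x : GLr r) ∈ Subgroup.normalizer (Qg : Set (GLr r)) →
      x ∈ Subgroup.normalizer (Q : Set H.W1) := by
    intro x hx
    refine Subgroup.mem_normalizer_fintype fun z hz => ?_
    obtain ⟨z', hz', e⟩ := (Subgroup.mem_normalizer_iff.1 hx z).1 ⟨z, hz, rfl⟩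
    have e' : z' = x * z * x⁻¹ := Subtype.ext e
    exact e' ▸ hz'
  have hDodd : ¬ Odd d := by
    intro hodd
    set X := Subgroup.normalizer (Qg : Set (GLr r)) ⊓ W
    have hX : X ≤ H.W1 := H.le_W1 inf_le_right fun z hz hzd => by
      have hzN := hNmem ⟨z, hz.2, hzd⟩ hz.1
      rw [hN] at hzN
      have hcQD : Nat.card (Q ⊔ D : Subgroup H.W1) ∣ Nat.card Q * d := by
        have : Set.range (fun p : Q × D => (p.1 : H.W1) * p.2) = ((Q ⊔ D : Subgroup H.W1) : Set H.W1) := by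
          rw [Subgroup.coe_mul_of_right_le_normalizer_left Q D hDN]
          ext u; constructor
          · rintro ⟨p, rfl⟩; exact Set.mul_mem_mul p.1.2 p.2.2
          · rintro ⟨a, ha, b, hb, rfl⟩; exact ⟨(⟨a, ha⟩, ⟨b, hb⟩), rfl⟩
        refine dvd_of_eq ?_
        rw [hd, ← Nat.card_prod]
        refine (Nat.card_congr ((Equiv.ofInjective _ ?_).trans (Equiv.setCongr this))).symm
        rintro ⟨a, b⟩ ⟨a', b'⟩ e
        have e' : ((a' : H.W1)⁻¹ * (a : H.W1)) = (b' : H.W1) * (b : H.W1)⁻¹ := by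
          have e1 : (a : H.W1) * b = a' * b' := e
          calc ((a' : H.W1)⁻¹ * (a : H.W1)) = (a' : H.W1)⁻¹ * ((a : H.W1) * b) * (b : H.W1)⁻¹ := by group
            _ = (b' : H.W1) * (b : H.W1)⁻¹ := by rw [e1]; group
        have h1 : ((a' : H.W1)⁻¹ * (a : H.W1)) ∈ Q ⊓ D := ⟨Q.mul_mem (Q.inv_mem a'.2) a.2, e' ▸ D.mul_mem b'.2 (D.inv_mem b.2)⟩
        have h2 : ((b' : H.W1) * (b : H.W1)⁻¹) = 1 := by rw [← e', ← Subgroup.mem_bot, ← hQD]; exact h1
        rw [hQD, Subgroup.mem_bot, inv_mul_eq_one] at h1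
        rw [mul_inv_eq_one] at h2
        exact Prod.ext (Subtype.ext h1.symm) (Subtype.ext h2.symm)
      have h3 := ((Subgroup.orderOf_dvd_natCard _ hzN).trans hcQD)
      rw [← Subgroup.orderOf_coe] at h3
      exact (hQodd.mul hodd).of_dvd_nat h3
    exact H.neg_one_ne (hgd.symm.trans (hX ⟨hgN, hgW⟩).2)
  -- `D` has an element of order four
  have h4d : 4 ∣ d := by
    have h8 := H.card_W1_dvd
    rw [hG1, show Nat.card Q * (2 * d * (d + 1)) = 2 * (Nat.card Q * (d * (d + 1))) by ring,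
      show (8 : ℕ) = 2 * 4 by norm_num] at h8
    have h4 := Nat.dvd_of_mul_dvd_mul_left two_pos h8
    have hc : ∀ m, Odd m → Nat.Coprime 4 m := fun m hm =>
      (show Nat.Coprime (2 ^ 2) m from hm.coprime_two_left.pow_left 2)
    exact (hc _ (Nat.not_odd_iff_even.1 hDodd).add_one).dvd_of_dvd_mul_right
      ((hc _ hQodd).dvd_of_dvd_mul_left h4)
  have hinvolD : ∀ u : H.W1, u ∈ Subgroup.normalizer (Q : Set H.W1) → orderOf u = 2 →
      ∀ x ∈ Q, u * x * u⁻¹ = x⁻¹ := by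
    intro u hu huo
    refine (BSW.inverts_of_free Q (by rw [← pow_two, ← huo, pow_orderOf_eq_one])
      (fun x hx => (Subgroup.mem_normalizer_iff.1 hu x).1 hx) fun x hx hc => ?_).1
    by_contra hx1
    have hm : u ∈ BSW.cent x := BSW.mem_cent.2 hc
    rw [hcentB x hx hx1] at hm
    have h2 := Subgroup.orderOf_dvd_natCard Q hm
    rw [huo] at h2
    exact Nat.not_odd_iff_even.2 (even_iff_two_dvd.2 h2) hQodd
  obtain ⟨x0, hx0, hx01⟩ : ∃ x ∈ Q, x ≠ 1 := by
    by_contra hcon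
    push Not at hcon
    have : Q = ⊥ := eq_bot_iff.2 fun x hx => Subgroup.mem_bot.2 (hcon x hx)
    rw [this, Subgroup.card_bot] at hDQ
    omega
  obtain ⟨d4, hd4, hd4o⟩ : ∃ u ∈ D, orderOf u = 4 := by
    obtain ⟨P, hP⟩ := Sylow.exists_subgroup_card_pow_prime 2 (G := D) (n := 2) (by norm_num; simpa [Nat.card_eq_fintype_card, d] using h4d)
    by_contra hcon
    push Not at hcon
    have hord : ∀ u ∈ P, u = 1 ∨ orderOf (u : H.W1) = 2 := by
      intro u hu
      have h1 := Subgroup.orderOf_dvd_natCard P hu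
      rw [hP, ← Subgroup.orderOf_coe] at h1
      obtain ⟨j, hj, e⟩ := (Nat.dvd_prime_pow Nat.prime_two).1 h1
      interval_cases j
      · exact Or.inl (Subtype.ext (orderOf_eq_one_iff.1 (by simpa using e)))
      · exact Or.inr (by simpa using e)
      · exact absurd (by simpa using e) (hcon u u.2)
    have h3 : ∀ u ∈ P, ∀ u' ∈ P, u ≠ 1 → u' ≠ 1 → u = u' := by
      intro u hu u' hu' h1 h1'
      have o1 := (hord u hu).resolve_left h1
      have o2 := (hord u' hu').resolve_left h1'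
      by_contra hne
      have hm : ((u : H.W1) * u') ∈ BSW.cent x0 := BSW.mem_cent.2 (mul_inv_eq_iff_eq_mul.1 (by
        calc (u : H.W1) * u' * x0 * ((u : H.W1) * u')⁻¹ = u * (u' * x0 * (u' : H.W1)⁻¹) * (u : H.W1)⁻¹ := by group
          _ = x0 := by rw [hinvolD _ (hDN u'.2) o2 x0 hx0, ← conj_inv, hinvolD _ (hDN u.2) o1 x0 hx0, inv_inv]))
      rw [hcentB x0 hx0 hx01] at hm
      have h2 : (u : H.W1) * u' ∈ Q ⊓ D := ⟨hm, mul_mem u.2 u'.2⟩
      rw [hQD, Subgroup.mem_bot, mul_eq_one_iff_eq_inv] at h2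
      have h5 : (u' : H.W1)⁻¹ = u' := inv_eq_of_mul_eq_one_right (by rw [← pow_two, ← o2, pow_orderOf_eq_one])
      exact hne (Subtype.ext (h2.trans h5))
    obtain ⟨u, hu⟩ : ∃ u : P, u ≠ 1 := by
      haveI : Nontrivial P := Finite.one_lt_card_iff_nontrivial.1 (by rw [hP]; norm_num)
      exact exists_ne 1
    have hsub : (P : Set D) ⊆ {1, (u : D)} := fun z hz => by
      by_cases hz1 : z = 1
      · exact Or.inl hz1
      · exact Or.inr (h3 z hz u u.2 hz1 fun e => hu (Subtype.ext e))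
    have := Set.ncard_le_ncard hsub (Set.toFinite _)
    rw [← Nat.card_coe_set_eq, show Nat.card (P : Set D) = 4 from hP] at this
    have := this.trans ((Set.ncard_insert_le _ _).trans (by rw [Set.ncard_singleton]))
    omega
  have hd4inv : ∀ x ∈ Q, d4 * d4 * x * (d4 * d4)⁻¹ = x⁻¹ := hinvolD _ (mul_mem (hDN hd4) (hDN hd4)) (by
    rw [← pow_two, orderOf_pow' d4 two_ne_zero, hd4o]; norm_num)
  -- `Q` has exponent `r`
  have hexp : ∀ x ∈ Q, x ≠ 1 → ((x : GLr r) : Matrix (Fin 3) (Fin 3) (ZMod r)) ≠ 1 ∧ orderOf x = r ∧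
      (((x : GLr r) : Matrix (Fin 3) (Fin 3) (ZMod r)) - 1) ^ 3 = 0 := by
    intro x hx hx1
    have hc : Commute (d4 * x * d4⁻¹) x := by
      have hm : d4 * x * d4⁻¹ ∈ Q := (Subgroup.mem_normalizer_iff.1 (hDN hd4) x).1 hx
      rw [← hcentB x hx hx1] at hm
      exact BSW.mem_cent.1 hm
    have h3 := unipotent_of_rotated H.two_ne (x := (x : GLr r)) (d := (d4 : GLr r)) x.2.2 hQodd
      (by simpa using congrArg Subtype.val (orderOf_dvd_iff_pow_eq_one.1 (Subgroup.orderOf_dvd_natCard Q hx)))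
      (congrArg Subtype.val (hd4inv x hx)) (congrArg Subtype.val hc.eq)
    refine ⟨fun e => hx1 (Subtype.ext (Units.ext e)), orderOf_eq_prime ?_ hx1, h3⟩
    refine Subtype.ext (Units.ext ?_)
    rw [SubgroupClass.coe_pow, Units.val_pow_eq_pow_val]
    show _ = (1 : Matrix (Fin 3) (Fin 3) (ZMod r))
    set M := ((x : GLr r) : Matrix (Fin 3) (Fin 3) (ZMod r))
    haveI : CharP (Matrix (Fin 3) (Fin 3) (ZMod r)) r := inferInstance
    have h4 : (M - 1) ^ r = 0 := pow_eq_zero_of_le (by have := H.prime.two_le; have := H.r_ne_two; omega) h3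
    rw [sub_pow_char_of_commute r (Commute.one_right M), one_pow, sub_eq_zero] at h4
    exact h4
  have hlr : l = r := by
    obtain ⟨-, ho, -⟩ := hexp x0 hx0 hx01
    have h2 := Subgroup.orderOf_dvd_natCard Q hx0
    rw [ho, hQk] at h2
    exact ((Nat.prime_dvd_prime_iff_eq H.prime hl).1 (H.prime.dvd_of_dvd_pow h2)).symm
  subst hlr
  have hk1 : k = 1 := by
    refine card_one (n := Nat.card H.W1) H.prime H.r_ne_two hk (by rw [hcard, hQk]) ?_
    refine (Subgroup.card_subgroup_dvd_card H.W1).trans (dvd_of_eq ?_)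
    rw [show Nat.card (GLr l) = _ from Matrix.card_GL_field 3, Fin.prod_univ_three, ZMod.card]
    simp only [Fin.val_zero, Fin.val_one, Fin.val_two, pow_zero, pow_one]
    have hl1 : 1 ≤ l := hl.pos
    have e1 : l ^ 3 - l = l * (l ^ 2 - 1) := by rw [Nat.mul_sub, mul_one]; ring_nf
    have e2 : l ^ 3 - l ^ 2 = l ^ 2 * (l - 1) := by rw [Nat.mul_sub, mul_one]; ring_nf
    rw [e1, e2]; ring
  rw [hk1, pow_one] at hQk
  -- generators and centralizers
  have hgen : ∀ z ∈ Q, z ∈ Subgroup.zpowers x0 := by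
    intro z hz
    have : Subgroup.zpowers x0 = Q := Subgroup.eq_of_le_of_card_ge (Subgroup.zpowers_le.2 hx0)
      (by rw [hQk, Nat.card_zpowers, (hexp x0 hx0 hx01).2.1])
    rwa [this]
  set xg : GLr l := (x0 : GLr l)
  have hxg1 : xg ≠ 1 := fun e => hx01 (Subtype.ext e)
  have hcentW : ∀ z ∈ W, Commute z xg → z ∈ H.W1 ∧ Odd (orderOf z) := by
    have hodd : ∀ z (hz : z ∈ H.W1), Commute z xg → Odd (orderOf z) := by
      intro z hz hc
      have hm : (⟨z, hz⟩ : H.W1) ∈ BSW.cent x0 := BSW.mem_cent.2 (Subtype.ext hc.eq)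
      rw [hcentB x0 hx0 hx01] at hm
      have h1 := Subgroup.orderOf_dvd_natCard Q hm
      rw [Subgroup.orderOf_mk] at h1
      exact hQodd.of_dvd_nat h1
    intro z hz hc
    have hX := H.le_W1 (X := W ⊓ Subgroup.centralizer ({xg} : Set (GLr l))) inf_le_left
      (fun u hu hud => hodd u ⟨hu.1, hud⟩ (Subgroup.mem_centralizer_singleton_iff.1 hu.2))
      ⟨hz, Subgroup.mem_centralizer_singleton_iff.2 hc.eq⟩
    exact ⟨hX, hodd z hX hc⟩
  -- an element of `2`-power order and determinant `-1` normalizing `Q`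
  obtain ⟨n, i, -, hi, hgd'⟩ := H.exists_two_pow hgd
  set g0 := g ^ n
  have hg0W : g0 ∈ W := pow_mem hgW n
  have hg0N : g0 ∈ Subgroup.normalizer (Qg : Set (GLr l)) := pow_mem hgN n
  obtain ⟨c, hc⟩ : ∃ c : ℕ, g0 * xg * g0⁻¹ = xg ^ c := by
    obtain ⟨z, hz, e⟩ := (Subgroup.mem_normalizer_iff.1 hg0N xg).1 ⟨x0, hx0, rfl⟩
    obtain ⟨c, hc⟩ := mem_powers_iff_mem_zpowers.2 (hgen z hz)
    exact ⟨c, by rw [← e, ← hc]; rfl⟩
  have hiter : ∀ m : ℕ, g0 ^ m * xg * (g0 ^ m)⁻¹ = xg ^ c ^ m := by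
    intro m
    induction m with
    | zero => simp
    | succ m ih =>
      rw [pow_succ', show g0 * g0 ^ m * xg * (g0 * g0 ^ m)⁻¹ = g0 * (g0 ^ m * xg * (g0 ^ m)⁻¹) * g0⁻¹ by group,
        ih, ← conj_pow, hc, ← pow_mul, pow_succ', mul_comm]
  have hxgo : orderOf xg = l := by rw [Subgroup.orderOf_coe]; exact (hexp x0 hx0 hx01).2.1
  have hcast : ∀ a b : ℕ, (a : ZMod l) = b → xg ^ a = xg ^ b := fun a b h => by
    rw [pow_eq_pow_iff_modEq, hxgo]; exact (ZMod.natCast_eq_natCast_iff a b l).1 h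
  have hcast' : ∀ a b : ℕ, xg ^ a = xg ^ b → (a : ZMod l) = b := fun a b h => by
    rw [pow_eq_pow_iff_modEq, hxgo] at h; exact (ZMod.natCast_eq_natCast_iff a b l).2 h
  -- its order is at least eight
  have h8 : 3 ≤ i := by
    by_contra hlt
    have hg4 : g0 ^ 4 = 1 := orderOf_dvd_iff_pow_eq_one.1 (hi ▸ (show 2 ^ i ∣ 2 ^ 2 from pow_dvd_pow 2 (by omega)))
    have hg2 : g0 ^ 2 ≠ 1 := fun e => by
      have h1 := (H.involution_conj hg0W (orderOf_eq_prime e fun e1 => by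
        rw [e1, dt_one] at hgd'; exact H.neg_one_ne hgd'.symm)).1
      rw [hgd'] at h1
      exact H.neg_one_ne h1
    set u : H.W1 := ⟨g0 ^ 2, pow_mem hg0W 2, by rw [dt_pow, hgd']; ring⟩
    have huo : orderOf u = 2 := orderOf_eq_prime
      (Subtype.ext (show (g0 ^ 2) ^ 2 = 1 by rw [← pow_mul, hg4]))
      fun e => hg2 (congrArg Subtype.val e)
    have hu := congrArg Subtype.val (hinvolD u (hNmem u (pow_mem hg0N 2)) huo x0 hx0)
    obtain ⟨e, he⟩ : ∃ e : ℕ, (d4 : GLr l) * xg * (d4 : GLr l)⁻¹ = xg ^ e := by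
      obtain ⟨e, he⟩ := mem_powers_iff_mem_zpowers.2
        (hgen _ ((Subgroup.mem_normalizer_iff.1 (hDN hd4) x0).1 hx0))
      exact ⟨e, (congrArg Subtype.val he).symm⟩
    obtain ⟨m, hm⟩ : ∃ m : ℕ, xg⁻¹ = xg ^ m := ⟨orderOf xg - 1, inv_eq_of_mul_eq_one_right (by
      rw [← pow_succ', Nat.sub_add_cancel (orderOf_pos xg), pow_orderOf_eq_one])⟩
    have hce : ((c : ZMod l)) ^ 2 = (e : ZMod l) ^ 2 := by
      have h1 : xg ^ c ^ 2 = xg ^ m := by rw [← hiter 2, ← hm]; exact hu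
      have h2 : xg ^ (e * e) = xg ^ m := by
        rw [← hm, pow_mul, ← he, conj_pow, ← he]
        refine Eq.trans ?_ (congrArg Subtype.val (hd4inv x0 hx0))
        show _ = (d4 : GLr l) * d4 * xg * ((d4 : GLr l) * d4)⁻¹
        group
      have := (hcast' _ _ h1).trans (hcast' _ _ h2).symm
      push_cast at this
      rw [this, pow_two]
    have hcom : ∀ z : GLr l, z * xg * z⁻¹ = xg → z ∈ W → dt z = -1 → False := fun z hz hzW hzd => by
      have h1 := (hcentW z hzW (mul_inv_eq_iff_eq_mul.1 hz)).1.2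
      rw [hzd] at h1
      exact H.neg_one_ne h1
    rcases sq_eq_sq_iff_eq_or_eq_neg.1 hce with h | h
    · refine hcom ((d4 : GLr l)⁻¹ * g0) ?_ (mul_mem (inv_mem d4.2.1) hg0W) ?_
      · rw [show (d4 : GLr l)⁻¹ * g0 * xg * ((d4 : GLr l)⁻¹ * g0)⁻¹ = (d4 : GLr l)⁻¹ * (g0 * xg * g0⁻¹) * d4
          by group, hc, hcast _ _ h, ← he]
        group
      · have := dt_inv_mul (d4 : GLr l)
        rw [d4.2.2, mul_one] at this
        rw [dt_mul, this, one_mul, hgd']
    · refine hcom (g0 * d4) ?_ (mul_mem hg0W d4.2.1) (by rw [dt_mul, d4.2.2, mul_one, hgd'])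
      rw [show g0 * (d4 : GLr l) * xg * (g0 * d4)⁻¹ = g0 * ((d4 : GLr l) * xg * (d4 : GLr l)⁻¹) * g0⁻¹
        by group, he, ← conj_pow, hc, ← pow_mul]
      conv_rhs => rw [← pow_one xg]
      refine hcast _ _ ?_
      have hee : (e : ZMod l) * e = -1 := by
        have h2 : xg ^ (e * e + 1) = xg ^ 0 := by
          rw [pow_succ, pow_zero, pow_mul, ← he, conj_pow, ← he, mul_eq_one_iff_eq_inv]
          refine Eq.trans ?_ (congrArg Subtype.val (hd4inv x0 hx0))
          show _ = (d4 : GLr l) * d4 * xg * ((d4 : GLr l) * d4)⁻¹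
          group
        have := hcast' _ _ h2
        push_cast at this
        exact eq_neg_of_add_eq_zero_left this
      push_cast
      rw [h, neg_mul, hee, neg_neg]
  -- so it is conjugate to an odd power of `σ`
  have hfix : ((g0 : Matrix (Fin 3) (Fin 3) (ZMod l)) - 1).det = 0 := by
    obtain ⟨h, hh, j, hj⟩ := H.exists_conj_SD hg0W hi
    have hdet : dt (h * g0 * h⁻¹) = -1 := by rw [dt_conj, hgd']
    have hjodd : Odd j := by
      rcases Nat.even_or_odd j with hj2 | hj2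
      · exfalso
        rcases hj with e | e <;> rw [e] at hdet
        · rw [dt_pow, H.dt_σ, hj2.neg_one_pow] at hdet; exact H.neg_one_ne hdet.symm
        · rw [dt_mul, dt_pow, H.dt_σ, hj2.neg_one_pow, H.dt_w, one_mul] at hdet
          exact H.neg_one_ne hdet.symm
      · exact hj2
    rcases hj with e | e
    · obtain ⟨hb, h00⟩ := H.T_block (σ ^ j) (pow_mem H.σ_mem j)
      have h1 : (((σ ^ j : GLr l) : Matrix (Fin 3) (Fin 3) (ZMod l)) - 1).det = 0 :=
        Matrix.det_eq_zero_of_row_eq_zero 0 fun q => by rw [Matrix.sub_apply]; fin_cases q <;> simp [-Units.val_pow_eq_pow_val, Matrix.one_apply, h00, hb.1, hb.2.1]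
      rw [← e, Units.val_mul, Units.val_mul,
        show (h : Matrix (Fin 3) (Fin 3) (ZMod l)) * g0 * ((h⁻¹ : GLr l) : Matrix (Fin 3) (Fin 3) (ZMod l)) - 1
          = (h : Matrix (Fin 3) (Fin 3) (ZMod l)) * ((g0 : Matrix (Fin 3) (Fin 3) (ZMod l)) - 1) *
            ((h⁻¹ : GLr l) : Matrix (Fin 3) (Fin 3) (ZMod l)) by rw [mul_sub, sub_mul, mul_one, Units.mul_inv],
        Matrix.det_units_conj] at h1
      exact h1
    · exfalso
      have h4 := (H.pow_four_of_SD hjodd).1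
      rw [← e, conj_pow, conj_eq_one_iff] at h4
      have h5 := Nat.le_of_dvd (by norm_num) (orderOf_dvd_of_pow_eq_one h4)
      rw [hi] at h5
      have : 2 ^ 3 ≤ 2 ^ i := Nat.pow_le_pow_right (by norm_num) h8
      omega
  obtain ⟨-, -, hu3⟩ := hexp x0 hx0 hx01
  by_cases hN2 : ((xg : Matrix (Fin 3) (Fin 3) (ZMod l)) - 1) ^ 2 = 0
  · -- a transvection: move `d4²` to `t`
    set i0 : H.W1 := d4 * d4
    have hi0 : orderOf i0 = 2 := by
      show orderOf (d4 * d4) = 2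
      rw [← pow_two, orderOf_pow' d4 two_ne_zero, hd4o]; norm_num
    obtain ⟨-, h, hh, hhd, hht⟩ := H.involution_conj i0.2.1 (by rw [Subgroup.orderOf_coe]; exact hi0)
    have hinv' : (i0 : GLr l) * xg * (i0 : GLr l)⁻¹ = xg⁻¹ := congrArg Subtype.val (hd4inv x0 hx0)
    set x' := h⁻¹ * xg * h
    refine H.false_of_transvection (x := x')
      ⟨mul_mem (mul_mem (inv_mem hh) x0.2.1) hh, by
        show dt (h⁻¹ * xg * h) = 1
        have e := dt_conj h⁻¹ xg
        rw [inv_inv] at e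
        rw [e]; exact x0.2.2⟩ ?_ ?_ ?_ ?_
    · rw [← hht] at hinv'
      show t * (h⁻¹ * xg * h) * t⁻¹ = (h⁻¹ * xg * h)⁻¹
      calc t * (h⁻¹ * xg * h) * t⁻¹ = h⁻¹ * (h * t * h⁻¹ * xg * (h * t * h⁻¹)⁻¹) * h := by group
        _ = _ := by rw [hinv']; group
    · intro z hz hzc
      have hzW : h * z * h⁻¹ ∈ H.W1 := mul_mem (mul_mem ⟨hh, hhd⟩ hz) (inv_mem ⟨hh, hhd⟩)
      have hzc' : Commute (h * z * h⁻¹) xg := by
        have h2 := hzc.map (MulAut.conj h).toMonoidHom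
        have e : (MulAut.conj h).toMonoidHom x' = xg := by
          show h * (h⁻¹ * xg * h) * h⁻¹ = xg
          group
        rwa [e] at h2
      have hm : (⟨_, hzW⟩ : H.W1) ∈ BSW.cent x0 := BSW.mem_cent.2 (Subtype.ext hzc'.eq)
      rw [hcentB x0 hx0 hx01] at hm
      obtain ⟨j, hj⟩ := hgen _ hm
      refine ⟨j, ?_⟩
      have hj' : xg ^ j = h * z * h⁻¹ := congrArg Subtype.val hj
      show (h⁻¹ * xg * h) ^ j = z
      calc (h⁻¹ * xg * h) ^ j = h⁻¹ * xg ^ j * h := by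
            rw [show h⁻¹ * xg * h = h⁻¹ * xg * (h⁻¹)⁻¹ by rw [inv_inv], conj_zpow, inv_inv]
        _ = z := by rw [hj']; group
    · have e : (x' : Matrix (Fin 3) (Fin 3) (ZMod l)) - 1 =
          ((h⁻¹ : GLr l) : Matrix (Fin 3) (Fin 3) (ZMod l)) * ((xg : Matrix (Fin 3) (Fin 3) (ZMod l)) - 1) * h := by
        show ((h⁻¹ * xg * h : GLr l) : Matrix (Fin 3) (Fin 3) (ZMod l)) - 1 = _
        rw [Units.val_mul, Units.val_mul, mul_sub, sub_mul, mul_one, Units.inv_mul]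
      rw [e]
      rw [pow_two] at hN2
      calc _ = ((h⁻¹ : GLr l) : Matrix (Fin 3) (Fin 3) (ZMod l)) * (((xg : Matrix (Fin 3) (Fin 3) (ZMod l)) - 1) *
            ((xg : Matrix (Fin 3) (Fin 3) (ZMod l)) - 1)) * h := by simp only [mul_assoc, Units.mul_inv_cancel_left]
        _ = 0 := by rw [hN2, mul_zero, zero_mul]
    · intro e
      apply hxg1
      calc xg = h * (h⁻¹ * xg * h) * h⁻¹ := by group
        _ = 1 := by show h * x' * h⁻¹ = 1; rw [e]; group
  · have hc6 : (c : ZMod l) ^ 6 = 1 := scale_pow_six H.two_ne hu3 hN2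
      (g := g0) (by
        rw [← Units.val_pow_eq_pow_val, ← Units.val_mul, ← Units.val_mul, ← hc, inv_mul_cancel_right]) hgd' hfix
    have h6 : g0 ^ 6 * xg * (g0 ^ 6)⁻¹ = xg := by
      rw [hiter]; conv_rhs => rw [← pow_one xg]
      exact hcast _ _ (by push_cast; exact hc6)
    have hodd6 := (hcentW _ (pow_mem hg0W 6) (mul_inv_eq_iff_eq_mul.1 h6)).2
    rw [orderOf_pow' g0 (by norm_num : (6 : ℕ) ≠ 0), hi] at hodd6
    obtain ⟨j, rfl⟩ : ∃ j, i = j + 2 := ⟨i - 2, by omega⟩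
    have hg : Nat.gcd (2 ^ (j + 2)) 6 = 2 := by
      rw [show (6 : ℕ) = 3 * 2 by norm_num, Nat.Coprime.gcd_mul_left_cancel_right 2
        ((show Nat.Coprime 3 2 by norm_num).pow_right (j + 2))]
      exact Nat.gcd_eq_right (dvd_pow_self 2 (by omega))
    rw [hg, pow_succ, Nat.mul_div_cancel _ two_pos, Nat.odd_pow_iff (by omega)] at hodd6
    exact absurd hodd6 (by decide)

end WeylHyp

end Cfsg.Agent.U3Order
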