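import Cfsg.Agent.Lib.U3Order.TorusRep
import Cfsg.Agent.Lib.U3Order.WeylThree

/-!
# The order step of `PSU₃(q)`: the centraliser of `t` has a full Sylow `r`-subgroup (owner: helper40)

* `Frame.exists_weyl` : the automiser of the elementary group satisfies `WeylHyp`
* `TorusHyp.not_factorization_lt` : the theorem
-/

set_option autoImplicit false
set_option linter.unusedSectionVars false
set_option linter.style.haveILetI false

namespace Cfsg.Agent.U3Order

open Matrix

variable {G : Type*} [Group G] [Finite G]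

/-- The part of determinant `±1` of a matrix group. -/
def pmPart {r : ℕ} (S : Subgroup (GLr r)) : Subgroup (GLr r) where
  carrier := {g | g ∈ S ∧ (dt g = 1 ∨ dt g = -1)}
  one_mem' := ⟨one_mem S, Or.inl dt_one⟩
  mul_mem' := fun {a b} ha hb => ⟨mul_mem ha.1 hb.1, by
    rcases ha.2 with e | e <;> rcases hb.2 with e' | e' <;> simp [dt_mul, e, e']⟩
  inv_mem' := fun {a} ha => ⟨inv_mem ha.1, by
    have h := dt_inv_mul a
    rcases ha.2 with e | e <;> rw [e] at h
    · exact Or.inl (by simpa using h)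
    · exact Or.inr (by linear_combination -h)⟩

namespace Frame

variable {t w σ a b c y : G} {T A : Subgroup G} {r v : ℕ}
variable (Fr : Frame t w σ a b c y r A) (H : TorusHyp t w σ a T r v)
include Fr H

theorem norm_of_conj {g : G} (ha : g * a * g⁻¹ ∈ A) (hb : g * b * g⁻¹ ∈ A) (hc : g * c * g⁻¹ ∈ A) :
    g ∈ Subgroup.normalizer (A : Set G) := by
  refine mem_normalizer_finite fun x hx => ?_
  obtain ⟨i, j, k, rfl⟩ := (Fr.mem_iff x).1 hx
  rw [← conj_mul, ← conj_mul, ← conj_zpow, ← conj_zpow, ← conj_zpow]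
  exact mul_mem (mul_mem (zpow_mem ha i) (zpow_mem hb j)) (zpow_mem hc k)

theorem exists_weyl [Fact r.Prime] :
    ∃ (W T' : Subgroup (GLr r)) (t' w' σ' y' : GLr r), WeylHyp r v W T' t' w' σ' y' := by
  classical
  haveI := Fact.mk Nat.prime_two
  haveI : NeZero r := ⟨H.prime.ne_zero⟩
  haveI : Fact (1 < r) := ⟨H.prime.one_lt⟩
  obtain ⟨ρ, hρ, hker⟩ := Fr.exists_rep H
  let N := Subgroup.normalizer (A : Set G)
  have haA := Fr.a_mem H
  have hbA := Fr.b_mem H
  have hcA := Fr.c_mem H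
  have hta : t * a * t⁻¹ = a := by rw [H.comm_at.symm.eq, mul_inv_cancel_right]
  have htn : t ∈ Subgroup.normalizer (A : Set G) := Fr.norm_of_conj H (by rw [hta]; exact haA)
    (by rw [Fr.tb]; exact inv_mem hbA) (by rw [Fr.tc]; exact inv_mem hcA)
  have hwb : w * b * w⁻¹ = b := by rw [Fr.bw.symm.eq, mul_inv_cancel_right]
  have hwn : w ∈ Subgroup.normalizer (A : Set G) := Fr.norm_of_conj H (by rw [H.w_conj_a]; exact inv_mem haA)
    (by rw [hwb]; exact hbA) (by rw [Fr.wc]; exact inv_mem hcA)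
  have hyn : y ∈ Subgroup.normalizer (A : Set G) := Fr.norm_of_conj H (by rw [Fr.ya]; exact hbA)
    (by rw [Fr.yb]; exact hcA) (by
      rcases Fr.yc with e | e <;> rw [e]
      · exact haA
      · exact inv_mem haA)
  -- coordinates of the generators
  have ea : crd a b c (Pi.single 0 (1 : ZMod r) : Fin 3 → ZMod r) = a := by simp [crd, ZMod.val_one]
  have eb : crd a b c (Pi.single 1 (1 : ZMod r) : Fin 3 → ZMod r) = b := by simp [crd, ZMod.val_one]
  have ec : crd a b c (Pi.single 2 (1 : ZMod r) : Fin 3 → ZMod r) = c := by simp [crd, ZMod.val_one]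
  have hm1 : ∀ (x : G), x ^ r = 1 → x ^ (-1 : ZMod r).val = x⁻¹ := fun x hx => by
    have h := pow_val_intCast hx (-1)
    simpa using h
  have ea' : crd a b c (Pi.single 0 (-1) : Fin 3 → ZMod r) = a⁻¹ := by simp [crd, hm1 a H.a_pow]
  have eb' : crd a b c (Pi.single 1 (-1) : Fin 3 → ZMod r) = b⁻¹ := by simp [crd, hm1 b (Fr.pow_b H)]
  have ec' : crd a b c (Pi.single 2 (-1) : Fin 3 → ZMod r) = c⁻¹ := by simp [crd, hm1 c (Fr.pow_c H)]
  set t' := ρ ⟨t, htn⟩
  set w' := ρ ⟨w, hwn⟩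
  set σ' := ρ ⟨σ, Fr.σ_norm⟩
  set y' := ρ ⟨y, hyn⟩
  have ht : (t' : Matrix (Fin 3) (Fin 3) (ZMod r)) = tMat := by
    ext i j
    fin_cases j
    · refine (hρ _ 0 (Pi.single 0 1) ?_ i).trans ?_
      · simp only [ea]; exact hta
      · fin_cases i <;> simp [tMat]
    · refine (hρ _ 1 (Pi.single 1 (-1)) ?_ i).trans ?_
      · simp only [eb, eb']; exact Fr.tb
      · fin_cases i <;> simp [tMat]
    · refine (hρ _ 2 (Pi.single 2 (-1)) ?_ i).trans ?_
      · simp only [ec, ec']; exact Fr.tc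
      · fin_cases i <;> simp [tMat]
  have hw : (w' : Matrix (Fin 3) (Fin 3) (ZMod r)) = wMat := by
    ext i j
    fin_cases j
    · refine (hρ _ 0 (Pi.single 0 (-1)) ?_ i).trans ?_
      · simp only [ea, ea']; exact H.w_conj_a
      · fin_cases i <;> simp [wMat]
    · refine (hρ _ 1 (Pi.single 1 1) ?_ i).trans ?_
      · simp only [eb]; exact hwb
      · fin_cases i <;> simp [wMat]
    · refine (hρ _ 2 (Pi.single 2 (-1)) ?_ i).trans ?_
      · simp only [ec, ec']; exact Fr.wc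
      · fin_cases i <;> simp [wMat]
  have h2 : (2 : ZMod r) ≠ 0 := by
    intro e
    have h : ((2 : ℕ) : ZMod r) = 0 := by exact_mod_cast e
    rw [ZMod.natCast_eq_zero_iff] at h
    exact H.r_ne_two ((Nat.prime_dvd_prime_iff_eq H.prime Nat.prime_two).1 h)
  have hyt : y' * t' * y'⁻¹ = w' := by
    rw [← map_mul, ← map_inv, ← map_mul]
    exact congrArg ρ (Subtype.ext Fr.yt)
  have hy : dt y' = 1 ∨ dt y' = -1 := by
    obtain ⟨ε, hε, hyc⟩ : ∃ ε : ZMod r, (ε = 1 ∨ ε = -1) ∧
        y * c * y⁻¹ = crd a b c (Pi.single 0 ε : Fin 3 → ZMod r) := by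
      rcases Fr.yc with e | e
      · exact ⟨1, Or.inl rfl, by rw [ea]; exact e⟩
      · exact ⟨-1, Or.inr rfl, by rw [ea']; exact e⟩
    have hY : (y' : Matrix (Fin 3) (Fin 3) (ZMod r)) = !![0, 0, ε; 1, 0, 0; 0, 1, 0] := by
      ext i j
      fin_cases j
      · refine (hρ _ 0 (Pi.single 1 1) ?_ i).trans ?_
        · simp only [ea, eb]; exact Fr.ya
        · fin_cases i <;> simp
      · refine (hρ _ 1 (Pi.single 2 1) ?_ i).trans ?_
        · simp only [eb, ec]; exact Fr.yb
        · fin_cases i <;> simp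
      · refine (hρ _ 2 (Pi.single 0 ε) ?_ i).trans ?_
        · simp only [ec]; exact hyc
        · fin_cases i <;> simp
    have e : dt y' = ε := by rw [dt, hY, Matrix.det_fin_three]; simp
    rwa [e]
  -- the torus
  have hTblock : ∀ (n : ↥(Subgroup.normalizer (A : Set G))), (n : G) ∈ T →
      IsBlock (ρ n : Matrix (Fin 3) (Fin 3) (ZMod r)) ∧ (ρ n : Matrix (Fin 3) (Fin 3) (ZMod r)) 0 0 = 1 := by
    intro n hn
    have hc : (ρ n) * t' = t' * ρ n := by
      rw [← map_mul, ← map_mul]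
      exact congrArg ρ (Subtype.ext (H.T_cent _ hn).eq)
    refine ⟨(isBlock_iff h2 _).2 (by rw [← ht, ← Units.val_mul, hc, Units.val_mul]), ?_⟩
    refine (hρ n 0 (Pi.single 0 1) ?_ 0).trans (by simp)
    rw [ea, (H.comm_T hn H.a_mem).eq, mul_inv_cancel_right]
  have hσd : dt σ' = -1 := by
    have e : σ' * (w' * σ' * w') = t' := by
      rw [← map_mul, ← map_mul, ← map_mul]
      refine congrArg ρ (Subtype.ext ?_)
      show σ * (w * σ * w) = t
      nth_rw 2 [← H.inv_w]
      rw [H.w_conj_σ, mul_inv_cancel_left]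
    obtain ⟨hb, h00⟩ := hTblock ⟨σ, Fr.σ_norm⟩ H.σ_mem
    have h3 := H.three_le
    have hpow : ∀ m : ℕ, σ' ^ m = ρ (⟨σ, Fr.σ_norm⟩ ^ m) := fun m => (map_pow ρ _ m).symm
    have ht2 : σ' ^ 2 ^ (v - 1) = t' := by
      rw [hpow]; exact congrArg ρ (Subtype.ext (by simpa using H.t_eq))
    have ht1 : t' ≠ 1 := fun e1 => h2 (by
      have h := congrFun (congrFun ht 1) 1
      simp [e1, tMat] at h
      linear_combination h)
    have ht22 : t' * t' = 1 := by
      rw [← map_mul, ← map_one ρ]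
      exact congrArg ρ (Subtype.ext H.mul_self_t)
    refine (sd_entries h2 hb h00 ?_ (fun e1 => ?_) (k := v - 2) ?_).2.2.2
    · rw [← hw, ← ht, ← Units.val_mul, ← Units.val_mul, ← Units.val_mul, e]
    · have h4 : σ' ^ 4 = 1 := by
        have e2 : σ' * σ' = t' := Units.ext (by rw [Units.val_mul, e1, ht])
        rw [pow_succ, pow_succ, pow_two, mul_assoc (σ' * σ') σ' σ', e2, ht22]
      refine ht1 ?_
      rw [← ht2, show 2 ^ (v - 1) = 4 * 2 ^ (v - 3) by
        rw [show v - 1 = v - 3 + 2 by omega, pow_add]; ring, pow_mul, h4, one_pow]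
    · rw [← Units.val_pow_eq_pow_val, show 4 * 2 ^ (v - 2) = 2 ^ (v - 1) * 2 by
        rw [show v - 1 = v - 2 + 1 by omega, pow_add]; ring, pow_mul, ht2, pow_two, ht22, Units.val_one]
  have hwd : dt w' = 1 := by
    rw [dt, hw, wMat, Matrix.det_diagonal, Fin.prod_univ_three]; simp
  have htd : dt t' = 1 := by
    rw [dt, ht, tMat, Matrix.det_diagonal, Fin.prod_univ_three]; simp
  set T0 : Subgroup N := T.subgroupOf N
  set W := pmPart (r := r) ρ.range
  set T' := pmPart (r := r) (T0.map ρ)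
  have hT'le : T' ≤ W := fun g hg => ⟨Subgroup.map_le_range ρ T0 hg.1, hg.2⟩
  have hT0cyc : IsCyclic T0 := by
    haveI := H.cyclic
    exact isCyclic_of_injective
      (MonoidHom.mk' (fun g : T0 => (⟨((g : N) : G), g.2⟩ : T)) fun _ _ => rfl)
      fun p s e => Subtype.ext (Subtype.ext (congrArg (fun u : T => (u : G)) e))
  have hT0card : Nat.card T0 ∣ Nat.card T := by
    have h : Nat.card (T0.map N.subtype) = Nat.card T0 := Subgroup.card_map_of_injective N.subtype_injective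
    rw [← h]
    exact Subgroup.card_dvd_of_le (Subgroup.map_le_iff_le_comap.2 le_rfl)
  -- lifting an element commuting with `t'`
  have hlift : ∀ g ∈ W, Commute g t' → g ∈ T' ∨ g * w' ∈ T' := by
    rintro g ⟨⟨n, rfl⟩, hgd⟩ hgt
    set i : G := (n : G) * t * (n : G)⁻¹
    set k : G := i * t
    have hkN : k ∈ N := mul_mem (mul_mem (mul_mem n.2 htn) (inv_mem n.2)) htn
    have hk1 : ρ ⟨k, hkN⟩ = 1 := by
      have e : (⟨k, hkN⟩ : N) = n * ⟨t, htn⟩ * n⁻¹ * ⟨t, htn⟩ := rfl
      rw [e, map_mul, map_mul, map_mul, map_inv, hgt.eq, mul_inv_cancel_right, ← map_mul, ← map_one ρ]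
      exact congrArg ρ (Subtype.ext H.mul_self_t)
    have hodd : Odd (orderOf k) := by
      by_contra hev
      rw [Nat.not_odd_iff_even] at hev
      obtain ⟨o, ho⟩ := hev
      have ho0 : 0 < o := by have := orderOf_pos k; omega
      set e := k ^ o
      have he : orderOf e = 2 := by
        rw [orderOf_pow' k ho0.ne', ho, Nat.gcd_eq_right ⟨2, by ring⟩,
          Nat.div_eq_of_eq_mul_left ho0 (show o + o = 2 * o by ring)]
      have hcm : ∀ x ∈ A, Commute e x := fun x hx => (hker ⟨k, hkN⟩ hk1 x hx).pow_left o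
      obtain ⟨p, hp⟩ := H.mem_zpowers_of_cent he (hcm a haA).symm (hcm b hbA).symm Fr.ab H.order_a (Fr.pow_b H)
      have hb1 : b = 1 := H.eq_one_of_sq (Fr.pow_b H) (by
        have hp' : a ^ p = b := hp
        have h1 : t * b * t⁻¹ = b := by
          rw [← hp', (H.comm_at.symm.zpow_right p).eq, mul_inv_cancel_right]
        rw [Fr.tb] at h1
        nth_rw 1 [← h1]; exact inv_mul_cancel b)
      exact H.prime.one_lt.ne' (by rw [← Fr.order_b, hb1, orderOf_one])
    obtain ⟨m, hm⟩ := hodd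
    set h : G := k ^ (m + 1)
    have hh : h * h = k := by
      rw [← pow_add, show m + 1 + (m + 1) = orderOf k + 1 by omega, pow_succ, pow_orderOf_eq_one, one_mul]
    have htk : t * k * t⁻¹ = k⁻¹ := by
      show t * (i * t) * t⁻¹ = (i * t)⁻¹
      have hi2 : i⁻¹ = i := by show ((n : G) * t * (n : G)⁻¹)⁻¹ = _; rw [_root_.mul_inv_rev, _root_.mul_inv_rev, inv_inv,
        H.inv_t, ← mul_assoc]
      rw [_root_.mul_inv_rev, hi2, H.inv_t, mul_assoc, mul_assoc, H.mul_self_t, mul_one]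
    have hth : t * h * t⁻¹ = h⁻¹ := by rw [← conj_pow, htk, inv_pow]
    have hhi : h * t * h⁻¹ = i := by
      calc h * t * h⁻¹ = h * (t * h⁻¹ * t⁻¹) * t := by group
        _ = h * h * t := by rw [← conj_inv, hth, inv_inv]
        _ = i := by rw [hh, show k * t = i * (t * t) from mul_assoc i t t, H.mul_self_t, mul_one]
    have hhN : h ∈ N := pow_mem hkN _
    set n' : N := ⟨h, hhN⟩⁻¹ * n
    have hn'g : ρ n' = ρ n := by
      rw [map_mul, map_inv, show (⟨h, hhN⟩ : N) = ⟨k, hkN⟩ ^ (m + 1) from rfl, map_pow, hk1, one_pow, inv_one,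
        one_mul]
    have hn't : Commute (n' : G) t := by
      refine mul_inv_eq_iff_eq_mul.1 ?_
      show h⁻¹ * n * t * (h⁻¹ * n)⁻¹ = t
      calc h⁻¹ * n * t * (h⁻¹ * n)⁻¹ = h⁻¹ * i * h := by show _ = h⁻¹ * ((n : G) * t * (n : G)⁻¹) * h; group
        _ = t := by rw [← hhi]; group
    have hn'a : (n' : G) * a * (n' : G)⁻¹ ∈ Subgroup.zpowers a := by
      have hmem : (n' : G) * a * (n' : G)⁻¹ ∈ A := (Subgroup.mem_normalizer_iff.1 n'.2 a).1 haA
      refine H.mem_zpowers_of_cent H.order_t H.comm_at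
        ((hn't.mul_left H.comm_at).mul_left hn't.inv_left) (Fr.comm_A H haA hmem) H.order_a ?_
      rw [conj_pow, H.a_pow]; simp
    rcases H.norm_a _ hn't hn'a with h1 | h1
    · exact Or.inl ⟨⟨n', h1, hn'g⟩, hgd⟩
    · refine Or.inr ⟨⟨n' * ⟨w, hwn⟩, h1, by rw [map_mul, hn'g]⟩, ?_⟩
      rw [dt_mul, hwd, mul_one]; exact hgd
  refine ⟨W, T', t', w', σ', y', ⟨H.prime, H.r_ne_two, H.three_le, fun g hg => hg.2, ht, hw,
    ⟨⟨⟨t, htn⟩, H.t_mem, rfl⟩, Or.inl htd⟩, ⟨⟨⟨w, hwn⟩, rfl⟩, Or.inl hwd⟩, ⟨⟨⟨y, hyn⟩, rfl⟩, hy⟩,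
    ⟨⟨⟨σ, Fr.σ_norm⟩, H.σ_mem, rfl⟩, Or.inr hσd⟩, hT'le, ?_, ?_, ?_, ?_, ?_, hlift, hyt⟩⟩
  · haveI := hT0cyc
    haveI : IsCyclic (T0.map ρ) := isCyclic_of_surjective _ (ρ.subgroupMap_surjective T0)
    exact isCyclic_of_injective (Subgroup.inclusion (show T' ≤ T0.map ρ from fun g hg => hg.1))
      (Subgroup.inclusion_injective _)
  · have h3 := H.three_le
    obtain ⟨j, rfl⟩ : ∃ j, v = j + 1 := ⟨v - 1, by omega⟩
    refine orderOf_eq_prime_pow (fun e => ?_) ?_
    · rw [← map_pow] at e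
      have e2 : ρ ⟨t, htn⟩ = 1 := by
        rw [← e]
        exact congrArg ρ (Subtype.ext (show t = σ ^ 2 ^ j by rw [← H.t_eq, Nat.add_sub_cancel]))
      refine h2 ?_
      have h := congrFun (congrFun ht 1) 1
      simp [t', e2, tMat] at h
      linear_combination h
    · rw [← map_pow, ← map_one ρ]
      exact congrArg ρ (Subtype.ext (show σ ^ 2 ^ (j + 1) = 1 by rw [← H.order_σ, pow_orderOf_eq_one]))
  · intro h
    refine H.two_part (h.trans ?_)
    exact ((Subgroup.card_dvd_of_le (show T' ≤ T0.map ρ from fun g hg => hg.1)).trans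
      (Subgroup.card_map_dvd T0 ρ)).trans hT0card
  · rw [← map_inv, ← map_inv, ← map_mul, ← map_mul, ← map_mul]
    exact congrArg ρ (Subtype.ext H.w_conj_σ)
  · rintro g ⟨⟨n, hn, rfl⟩, -⟩
    exact hTblock n hn

end Frame

/-- The centraliser of `t` contains a Sylow `r`-subgroup. -/
theorem TorusHyp.not_factorization_lt {t w σ a : G} {T : Subgroup G} {r v : ℕ} (H : TorusHyp t w σ a T r v) :
    ¬ (Nat.card (Subgroup.centralizer ({t} : Set G))).factorization r < (Nat.card G).factorization r := by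
  intro hlt
  haveI := Fact.mk H.prime
  obtain ⟨b, c, y, A, Fr⟩ := H.exists_frame hlt
  obtain ⟨W, T', t', w', σ', y', hW⟩ := Fr.exists_weyl H
  exact hW.false

theorem TorusHyp.factorization_eq {t w σ a : G} {T : Subgroup G} {r v : ℕ} (H : TorusHyp t w σ a T r v) :
    (Nat.card G).factorization r = (Nat.card (Subgroup.centralizer ({t} : Set G))).factorization r :=
  le_antisymm (not_lt.1 H.not_factorization_lt)
    ((Nat.factorization_le_iff_dvd Nat.card_pos.ne' Nat.card_pos.ne').2 (Subgroup.card_subgroup_dvd_card _) r)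

end Cfsg.Agent.U3Order
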