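import Cfsg.Agent.Lib.U3Order.Torus
import Cfsg.Agent.Lib.U3Order.TorusThree
import Cfsg.Agent.Lib.U3Order.Arith
import Cfsg.Agent.Lib.U3Order.Five

/-!
# The order of a simple group with an involution centraliser `GU₂(q)/Z`, `q ≡ 1 (mod 4)`

* `PreData.factor_torus` : the part of `|G|` at a prime dividing `q - 1`;
* `PreData.order_eq` : the order is that of `PSU₃(q)`.
-/

set_option autoImplicit false
set_option linter.unusedSectionVars false
set_option linter.style.haveILetI false

namespace Cfsg.Agent.U3Recog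

open Subgroup Cfsg.Agent.Unitary

universe u

variable {G : Type u} [Group G] [Finite G] {F : Type*} [Field F] [Fintype F] {q : ℕ}

namespace PreData

variable (D : PreData G F q)
include D

theorem factor_torus [IsSimpleGroup G] (h4 : q % 4 = 1) {r : ℕ} (hr : r.Prime) (h2 : r ≠ 2)
    (hd : r ∣ q - 1) : (Nat.card G).factorization r = (q - 1).factorization r := by
  obtain ⟨σ, a, H⟩ := D.exists_torusHyp h4 hr h2 hd
  rw [H.factorization_eq, D.factor_C hr h2 hd]

/-- No prime dividing `q - 1` divides the index of the centraliser. -/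
theorem not_dvd_index [IsSimpleGroup G] (h4 : q % 4 = 1) {r : ℕ} (hr : r.Prime) (h2 : r ≠ 2)
    (hd : r ∣ q - 1) : ¬ r ∣ (centralizer ({D.t} : Set G)).index := fun h => by
  set C := centralizer ({D.t} : Set G)
  have h1 := congrArg (fun m => m.factorization r) C.card_mul_index
  have h3 : 0 < C.index.factorization r :=
    hr.factorization_pos_of_dvd Subgroup.index_ne_zero_of_finite h
  simp only [Nat.factorization_mul Nat.card_pos.ne' Subgroup.index_ne_zero_of_finite,
    Finsupp.coe_add, Pi.add_apply] at h1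
  rw [D.factor_torus h4 hr h2 hd, show (Nat.card C).factorization r = (q - 1).factorization r from
    D.factor_C hr h2 hd] at h1
  exact h3.ne' (add_left_cancel (a := (q - 1).factorization r) (h1.trans (add_zero _).symm))

/-- The part of `|G|` in the characteristic. -/
theorem factor_char {p n : ℕ} (hp : p.Prime) (hqp : q = p ^ n) (hn : 1 ≤ n) :
    (Nat.card G).factorization p = n + (centralizer ({D.t} : Set G)).index.factorization p := by
  have h1 := congrArg (fun m => m.factorization p) (centralizer ({D.t} : Set G)).card_mul_index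
  simp only [Nat.factorization_mul Nat.card_pos.ne' Subgroup.index_ne_zero_of_finite,
    Finsupp.coe_add, Pi.add_apply, D.card_P0_pow hp hqp hn] at h1
  exact h1.symm

theorem false_of_sylow [IsSimpleGroup G] (h4 : q % 4 = 1) {p n k : ℕ} (hp : p.Prime)
    (hqp : q = p ^ n) (hn : 1 ≤ n) (hk : k ≤ 2) (hv : n < (Nat.card G).factorization p)
    (hvk : (Nat.card G).factorization p ≤ k * n)
    (hgrow : ∀ i, 0 < i → i < 2 * n → 2 ^ (q ^ 2 - 1).factorization 2 ∣ p ^ i - 1 →
      (Nat.card G).factorization p ≠ n + i) : False := by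
  obtain ⟨Q, hQ, -, -, hbig⟩ := D.exists_large' hp hqp hn hv
    (hvk.trans (Nat.mul_le_mul_right n (by omega))) hgrow
    fun r hr h2 hd _ _ => D.factor_torus h4 hr h2 hd
  have hq := D.q_ge
  have hle := hbig.trans (D.card_le_of_factorization hp hqp hvk hQ)
  exact (Nat.pow_lt_pow_right (by omega : 1 < q) (by omega : k < 3)).not_ge hle

/-- The order of `G` is that of `PSU₃(q)`. -/
theorem order_eq [IsSimpleGroup G] (h4 : q % 4 = 1) :
    Nat.card G * Nat.card D.π.ker = q ^ 3 * (q ^ 3 + 1) * (q ^ 2 - 1) := by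
  obtain ⟨p, n, hp, -, hqp, hn⟩ := exists_prime_pow D.hF
  obtain ⟨X, hX0, hX1, hXQ, hX4, hdiv, hI, hE⟩ := D.exists_equations h4
  have hq := D.q_ge
  have hqz : (3 : ℤ) ≤ q := by exact_mod_cast hq
  rcases U3Order.classify hp hn hqp h4 hX0 hX1 hX4 hXQ hdiv hI
      (fun r hr h2 hd => D.not_dvd_index h4 hr h2 hd) hE with
    rfl | rfl | ⟨rfl, rfl⟩ | ⟨rfl, rfl⟩
  · -- the generic value
    set C := centralizer ({D.t} : Set G)
    have hne : (q : ℤ) ^ 2 * ((q : ℤ) - 1) ^ 2 * ((q : ℤ) + 1) ≠ 0 := by
      refine mul_ne_zero (mul_ne_zero ?_ ?_) ?_ <;> first | exact pow_ne_zero _ (by omega) | omega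
    have key : (C.index : ℤ) * ((q : ℤ) + 1) = (q : ℤ) ^ 2 * ((q : ℤ) ^ 3 + 1) :=
      mul_left_cancel₀ hne (by linear_combination hE)
    have keyN : C.index * (q + 1) = q ^ 2 * (q ^ 3 + 1) := by exact_mod_cast key
    calc Nat.card G * Nat.card D.π.ker = C.index * (Nat.card C * Nat.card D.π.ker) := by
          rw [← C.card_mul_index]; ring
      _ = C.index * (q + 1) * (q * (q ^ 2 - 1)) := by rw [D.card_C]; ring
      _ = _ := by rw [keyN]; ring
  · -- the second value
    exfalso
    set C := centralizer ({D.t} : Set G)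
    have hne : ((q : ℤ) - 1) ^ 2 * ((q : ℤ) + 1) ^ 2 ≠ 0 := by
      refine mul_ne_zero ?_ ?_ <;> exact pow_ne_zero _ (by omega)
    have key : (C.index : ℤ) = (q : ℤ) * (((q : ℤ) ^ 2 - q - 1) * ((q : ℤ) - 2)) :=
      mul_left_cancel₀ hne (by linear_combination hE)
    have hqq : q + 1 ≤ q * q := by nlinarith
    have keyN : C.index = q * ((q * q - q - 1) * (q - 2)) := by
      refine Int.natCast_inj.1 (key.trans ?_)
      push_cast [Nat.cast_sub (show 2 ≤ q by omega), Nat.cast_sub (show q ≤ q * q by omega),
        Nat.cast_sub (show 1 ≤ q * q - q by omega)]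
      ring
    have hpq : p ∣ q := hqp ▸ dvd_pow_self p (by omega)
    have hp2 : p ≠ 2 := fun h => by
      have h3 := D.hodd
      rw [hqp, h, Nat.odd_pow_iff (by omega)] at h3
      exact absurd h3 (by decide)
    have hA : ¬ p ∣ q * q - q - 1 := fun h => by
      have h' := Nat.dvd_sub (Nat.dvd_sub (dvd_mul_of_dvd_left hpq q) hpq) h
      rw [show q * q - q - (q * q - q - 1) = 1 by omega] at h'
      exact hp.not_dvd_one h'
    have hB : ¬ p ∣ q - 2 := fun h => by
      have h' := Nat.dvd_sub hpq h
      rw [show q - (q - 2) = 2 by omega] at h'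
      exact hp2 ((Nat.prime_dvd_prime_iff_eq hp Nat.prime_two).1 h')
    have hA0 : q * q - q - 1 ≠ 0 := fun h => hA (h ▸ dvd_zero p)
    have hB0 : q - 2 ≠ 0 := by omega
    have hv : (Nat.card G).factorization p = n + n := by
      rw [D.factor_char hp hqp hn, show C.index.factorization p = n from ?_]
      rw [keyN, Nat.factorization_mul (by omega) (mul_ne_zero hA0 hB0),
        Nat.factorization_mul hA0 hB0, Finsupp.add_apply, Finsupp.add_apply,
        Nat.factorization_eq_zero_of_not_dvd hA, Nat.factorization_eq_zero_of_not_dvd hB,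
        add_zero, add_zero]
      have e : ∀ m, m = p ^ n → m.factorization p = n := fun m hm => by
        rw [hm, hp.factorization_pow, Finsupp.single_eq_same]
      exact e q hqp
    refine D.false_of_sylow h4 hp hqp hn (k := 2) le_rfl (by omega) (by omega)
      fun i hi0 _ hdvd hcon => ?_
    obtain rfl : i = n := by omega
    have hdvd' : 2 ^ (q ^ 2 - 1).factorization 2 ∣ q - 1 := hqp ▸ hdvd
    rw [Nat.Prime.pow_dvd_iff_le_factorization Nat.prime_two (by omega),
      show q ^ 2 - 1 = (q + 1) * (q - 1) by simpa using Nat.sq_sub_sq q 1,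
      Nat.factorization_mul (by omega) (by omega), Finsupp.add_apply] at hdvd'
    have := Nat.prime_two.factorization_pos_of_dvd (n := q + 1) (by omega) (by omega)
    omega
  · -- `q = 9`
    exfalso
    clear hdiv
    have hp3 : p = 3 := (Nat.prime_dvd_prime_iff_eq hp Nat.prime_three).1
      (hp.dvd_of_dvd_pow (n := 2) (by norm_num; rw [hqp]; exact dvd_pow_self p (by omega)))
    subst hp3
    obtain rfl : n = 2 := Nat.pow_right_injective (show 2 ≤ 3 by norm_num)
      (hqp.symm.trans (show (9 : ℕ) = 3 ^ 2 by norm_num))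
    have hI' : (centralizer ({D.t} : Set G)).index = 5025 := by
      have := hE
      norm_num at this
      omega
    have hv : (Nat.card G).factorization 3 = 3 := by
      rw [D.factor_char hp hqp hn, hI', show (5025 : ℕ) = 3 ^ 1 * 1675 by norm_num,
        Nat.factorization_mul (by norm_num) (by norm_num), Finsupp.add_apply,
        hp.factorization_pow, Finsupp.single_eq_same,
        Nat.factorization_eq_zero_of_not_dvd (by norm_num : ¬ 3 ∣ 1675)]
      rfl
    refine D.false_of_sylow h4 hp hqp hn (k := 2) le_rfl (by omega) (by omega)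
      fun i hi0 _ hdvd hcon => ?_
    obtain rfl : i = 1 := by omega
    have h16 : 2 ^ 4 ∣ 2 ^ ((9 : ℕ) ^ 2 - 1).factorization 2 := pow_dvd_pow 2
      ((Nat.Prime.pow_dvd_iff_le_factorization Nat.prime_two (by norm_num)).1 (by norm_num))
    exact absurd (h16.trans hdvd) (by norm_num)
  · -- `q = 5`
    exfalso
    refine D.false_of_five rfl ?_
    clear hdiv
    have := hE
    norm_num at this
    omega

end PreData

end Cfsg.Agent.U3Recog
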