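import Cfsg.Agent.Lib.U3Order.TorusTriple

/-!
# The order step of `PSU₃(q)`: an element permuting the three axes (owner: helper40)

* `TorusHyp.exists_conj_a` : the subgroups of order `r` of `C(t)` are conjugate there
* `Frame` : an elementary abelian group with three axes and an element permuting them
* `TorusHyp.exists_frame` : it exists if `C(t)` does not contain a Sylow `r`-subgroup
-/

set_option autoImplicit false
set_option linter.unusedSectionVars false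
set_option linter.style.haveILetI false

namespace Cfsg.Agent.U3Order

open Subgroup

variable {G : Type*} [Group G] [Finite G]

/-- An elementary abelian group of order `r³` with three axes, and an element permuting them. -/
structure Frame (t w σ a b c y : G) (r : ℕ) (A : Subgroup G) : Prop where
  mem_iff : ∀ x, x ∈ A ↔ ∃ i j k : ℤ, x = a ^ i * b ^ j * c ^ k
  order_b : orderOf b = r
  order_c : orderOf c = r
  ab : Commute a b
  ac : Commute a c
  bc : Commute b c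
  bw : Commute b w
  tb : t * b * t⁻¹ = b⁻¹
  wc : w * c * w⁻¹ = c⁻¹
  tc : t * c * t⁻¹ = c⁻¹
  σ_norm : σ ∈ normalizer (A : Set G)
  ya : y * a * y⁻¹ = b
  yb : y * b * y⁻¹ = c
  yc : y * c * y⁻¹ = a ∨ y * c * y⁻¹ = a⁻¹
  yt : y * t * y⁻¹ = w

namespace TorusHyp

variable {t w σ a : G} {T : Subgroup G} {r v : ℕ} (H : TorusHyp t w σ a T r v)
include H

theorem exists_conj_a {z : G} (hz : Commute z t) (hzo : orderOf z = r) :
    ∃ g : G, Commute g t ∧ g * z * g⁻¹ ∈ zpowers a := by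
  haveI := Fact.mk H.prime
  set C := centralizer ({t} : Set G)
  have hC : ∀ g, g ∈ C ↔ Commute g t := fun g => mem_centralizer_singleton_iff
  set a' : C := ⟨a, (hC a).2 H.comm_at⟩
  set z' : C := ⟨z, (hC z).2 hz⟩
  have ha' : orderOf a' = r := (Subgroup.orderOf_coe a').symm.trans H.order_a
  have hz' : orderOf z' = r := (Subgroup.orderOf_coe z').symm.trans hzo
  obtain ⟨P, hP⟩ := (IsPGroup.of_card (n := 1) (by rw [Nat.card_zpowers, ha', pow_one]) :
    IsPGroup r (zpowers a')).exists_le_sylow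
  obtain ⟨Q, hQ⟩ := (IsPGroup.of_card (n := 1) (by rw [Nat.card_zpowers, hz', pow_one]) :
    IsPGroup r (zpowers z')).exists_le_sylow
  obtain ⟨g, hg⟩ := MulAction.exists_smul_eq C Q P
  refine ⟨g, (hC _).1 g.2, ?_⟩
  have hcyc : IsCyclic ((P : Subgroup C).map C.subtype) := H.r_cyclic _ (P.isPGroup'.map _) (by
    rintro _ ⟨x, -, rfl⟩; exact (hC _).1 x.2)
  have h1 : g * z' * g⁻¹ ∈ (P : Subgroup C) := by
    rw [← hg]
    exact Subgroup.smul_mem_pointwise_smul z' (MulAut.conj g) _ (hQ (mem_zpowers z'))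
  refine mem_zpowers_of_cyclic hcyc ⟨a', hP (mem_zpowers a'), rfl⟩ H.order_a ⟨_, h1, rfl⟩ ?_
  rw [conj_pow, ← hzo, pow_orderOf_eq_one]
  simp

/-- The power of a generator of `⟨a⟩`. -/
theorem mem_zpowers_gen {z : G} (hz : z ∈ zpowers a) (hz1 : z ≠ 1) : a ∈ zpowers z := by
  haveI := Fact.mk H.prime
  obtain ⟨k, rfl⟩ := hz
  have ho : orderOf (a ^ k) = r := orderOf_eq_prime
    (by rw [← zpow_natCast, ← zpow_mul, mul_comm, zpow_mul, zpow_natCast, H.a_pow, one_zpow]) hz1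
  exact mem_zpowers_of_cyclic (Subgroup.isCyclic_zpowers a) (zpow_mem (mem_zpowers a) k) ho (mem_zpowers a) H.a_pow

theorem exists_frame
    (hlt : (Nat.card (centralizer ({t} : Set G))).factorization r < (Nat.card G).factorization r) :
    ∃ (b c y : G) (A : Subgroup G), Frame t w σ a b c y r A := by
  haveI := Fact.mk H.prime
  haveI := Fact.mk Nat.prime_two
  obtain ⟨K, S, hK, hKmem, hS, hWK, hSA, haS, hnc⟩ := H.exists_sylow hlt
  have hSa : ∀ x ∈ S, Commute x a := fun x hx => ((hKmem x).1 (hS.1 hx)).1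
  obtain ⟨M, L⟩ := H.exists_layer hS.2.1 hSa haS hSA hnc
  obtain ⟨b, c, hb, hc, hbo, hco, hbw, htb, hctw, htc, hbc, hdec⟩ := L.exists_abc H
  have hb1 : b ≠ 1 := fun e => H.prime.one_lt.ne' (by rw [← hbo, e, orderOf_one])
  -- an element with `w ↦ t` and `⟨b⟩ ↦ ⟨a⟩`
  obtain ⟨g, hg⟩ := isConj_iff.1 (H.involutions w H.order_w)
  have hgb : Commute (g * b * g⁻¹) t := by
    rw [← hg]; exact hbw.map (MulAut.conj g).toMonoidHom
  obtain ⟨d, hd, hdb⟩ := H.exists_conj_a hgb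
    ((orderOf_injective (MulAut.conj g).toMonoidHom (MulAut.conj g).injective b).trans hbo)
  set x := d * g
  have hxw : x * w * x⁻¹ = t := by
    show d * g * w * (d * g)⁻¹ = t
    rw [show d * g * w * (d * g)⁻¹ = d * (g * w * g⁻¹) * d⁻¹ by group, hg, hd.eq, mul_inv_cancel_right]
  have hxb : x * b * x⁻¹ ∈ zpowers a := by
    rwa [show x * b * x⁻¹ = d * (g * b * g⁻¹) * d⁻¹ by show d * g * b * (d * g)⁻¹ = _; group]
  have hxb1 : x * b * x⁻¹ ≠ 1 := fun e => hb1 (conj_eq_one_iff.1 e)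
  set e := x * t * x⁻¹
  have het : Commute e t := by rw [← hxw]; exact H.comm_tw.symm.map (MulAut.conj x).toMonoidHom
  have heb : e * (x * b * x⁻¹) * e⁻¹ = (x * b * x⁻¹)⁻¹ := by
    show x * t * x⁻¹ * (x * b * x⁻¹) * (x * t * x⁻¹)⁻¹ = _
    rw [show x * t * x⁻¹ * (x * b * x⁻¹) * (x * t * x⁻¹)⁻¹ = x * (t * b * t⁻¹) * x⁻¹ by group, htb]; group
  have hea : e * a * e⁻¹ ∈ zpowers a := by
    obtain ⟨k, hk⟩ := H.mem_zpowers_gen hxb hxb1
    have hk' : (x * b * x⁻¹) ^ k = a := hk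
    rw [show e * a * e⁻¹ = e * (x * b * x⁻¹) ^ k * e⁻¹ by rw [hk'], ← conj_zpow, heb]
    exact zpow_mem (inv_mem hxb) k
  have heT : e * w ∈ T := by
    refine (H.norm_a e het hea).resolve_left fun h => hxb1 ?_
    obtain ⟨k, hk⟩ := hxb
    have hk' : a ^ k = x * b * x⁻¹ := hk
    rw [← hk', ((H.comm_T h H.a_mem).zpow_right k).eq, mul_inv_cancel_right] at heb
    rw [← hk']
    exact H.eq_one_of_sq (by rw [← zpow_natCast, ← zpow_mul, mul_comm, zpow_mul, zpow_natCast, H.a_pow, one_zpow])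
      (by nth_rw 1 [heb]; exact inv_mul_cancel _)
  have hee : e * e = 1 := by
    show x * t * x⁻¹ * (x * t * x⁻¹) = 1
    rw [show x * t * x⁻¹ * (x * t * x⁻¹) = x * (t * t) * x⁻¹ by group, H.mul_self_t]; simp
  obtain ⟨μ, hμ, hμw⟩ := H.Tw_conj _ heT (by rw [mul_assoc e, H.mul_self_w, mul_one, hee])
  rw [show e * w * w = e by rw [mul_assoc, H.mul_self_w, mul_one]] at hμw
  -- now `w` and `t` are exchanged
  set x1 := μ⁻¹ * x
  have hx1w : x1 * w * x1⁻¹ = t := by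
    show μ⁻¹ * x * w * (μ⁻¹ * x)⁻¹ = t
    rw [show μ⁻¹ * x * w * (μ⁻¹ * x)⁻¹ = μ⁻¹ * (x * w * x⁻¹) * μ by group, hxw,
      mul_assoc, ← (H.T_cent μ hμ).eq, inv_mul_cancel_left]
  have hx1t : x1 * t * x1⁻¹ = w := by
    show μ⁻¹ * x * t * (μ⁻¹ * x)⁻¹ = w
    rw [show μ⁻¹ * x * t * (μ⁻¹ * x)⁻¹ = μ⁻¹ * e * μ by show _ = μ⁻¹ * (x * t * x⁻¹) * μ; group, ← hμw]
    group
  have hx1b : x1 * b * x1⁻¹ ∈ zpowers a := by
    show μ⁻¹ * x * b * (μ⁻¹ * x)⁻¹ ∈ _
    obtain ⟨k, hk⟩ := hxb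
    have hk' : a ^ k = x * b * x⁻¹ := hk
    rw [show μ⁻¹ * x * b * (μ⁻¹ * x)⁻¹ = μ⁻¹ * (x * b * x⁻¹) * μ by group, ← hk',
      mul_assoc, ((H.comm_T H.a_mem hμ).zpow_left k).eq, inv_mul_cancel_left]
    exact zpow_mem (mem_zpowers a) k
  -- the image of the layer lies in `K` and is normalized by `t` and `w`
  set φ := (MulAut.conj x1).toMonoidHom
  set E : Subgroup G := zpowers w ⊔ zpowers t
  have hEle : E ≤ zpowers w ⊔ zpowers σ :=
    sup_le le_sup_left (zpowers_le.2 (H.t_eq ▸ pow_mem (le_sup_right (a := zpowers w) (mem_zpowers σ)) _))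
  have hEp : IsPGroup 2 E := H.isPGroup_sd.to_le hEle
  have hMK : M.map φ ≤ K := by
    rintro _ ⟨u, hu, rfl⟩
    refine (hKmem _).2 ⟨?_, odd_orderOf_of_pow H.prime H.r_ne_two (by rw [← map_pow, L.pow u hu, map_one])⟩
    obtain ⟨k, hk⟩ := H.mem_zpowers_gen hx1b (fun e => hb1 (conj_eq_one_iff.1 e))
    rw [← hk]
    refine Commute.zpow_right ?_ k
    have hub : Commute u b := by
      obtain ⟨i, j, l, rfl⟩ := hdec u hu
      exact ((((L.cent_a H hb).symm.zpow_left i)).mul_left ((Commute.refl b).zpow_left j)).mul_left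
        (hbc.symm.zpow_left l)
    exact hub.map φ
  have hEn : E ≤ normalizer ((M.map φ : Subgroup G) : Set G) := by
    have key : ∀ p p' : G, x1 * p * x1⁻¹ = p' → p ∈ normalizer (M : Set G) →
        p' ∈ normalizer ((M.map φ : Subgroup G) : Set G) := by
      intro p p' hp hn
      refine mem_normalizer_finite ?_
      rintro _ ⟨u, hu, rfl⟩
      refine ⟨p * u * p⁻¹, L.conj_mem H hn hu, ?_⟩
      rw [← hp]; show x1 * (p * u * p⁻¹) * x1⁻¹ = x1 * p * x1⁻¹ * (x1 * u * x1⁻¹) * (x1 * p * x1⁻¹)⁻¹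
      group
    exact sup_le (zpowers_le.2 (key t w hx1t (L.t_norm H))) (zpowers_le.2 (key w t hx1w L.w_norm))
  have hK2 : ¬ 2 ∣ Nat.card K := fun h => Nat.not_even_iff_odd.2 hK (even_iff_two_dvd.2 h)
  obtain ⟨S', hS', hES', hMS'⟩ := Signalizer.exists_invariant_sylow_ge hEp hK2 (hEle.trans hWK) hMK
    ((L.pgroup.to_le L.le).map φ) hEn
  obtain ⟨k, hkK, hkE, hkS⟩ :=
    Signalizer.exists_conj_invariant_sylow hEp hK2 (hEle.trans hWK) hS' hS hES' (hEle.trans hSA)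
  have hkw : Commute k w := (mem_centralizer_iff.1 hkE w (le_sup_left (a := zpowers w) (mem_zpowers w))).symm
  have hkt : Commute k t := (mem_centralizer_iff.1 hkE t (le_sup_right (a := zpowers w) (mem_zpowers t))).symm
  have hka : Commute k a := ((hKmem k).1 hkK).1
  set x2 := k * x1
  have hcj : ∀ u : G, x2 * u * x2⁻¹ = k * (x1 * u * x1⁻¹) * k⁻¹ := fun u => by
    show k * x1 * u * (k * x1)⁻¹ = _; group
  have hx2w : x2 * w * x2⁻¹ = t := by rw [hcj, hx1w, hkt.eq, mul_inv_cancel_right]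
  have hx2t : x2 * t * x2⁻¹ = w := by rw [hcj, hx1t, hkw.eq, mul_inv_cancel_right]
  have hx2S : ∀ u ∈ M, x2 * u * x2⁻¹ ∈ S := fun u hu => by
    rw [hcj, ← hkS]; exact ⟨_, hMS' ⟨u, hu, rfl⟩, rfl⟩
  have hx2tw : x2 * (t * w) * x2⁻¹ = t * w := by
    rw [show x2 * (t * w) * x2⁻¹ = x2 * t * x2⁻¹ * (x2 * w * x2⁻¹) by group, hx2t, hx2w, H.comm_tw.eq]
  -- fixed points in `S`
  have hfix : ∀ (f p : G), orderOf f = 2 → p ∈ M → orderOf p = r → Commute p f →
      ∀ u, u ∈ S → Commute u f → u ^ r = 1 → u ∈ zpowers p := by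
    intro f p hf hp hpo hpf u hu huf hur
    have hP : IsCyclic (S ⊓ centralizer ({f} : Set G) : Subgroup G) :=
      H.cyclic_of_cent hf (hS.2.1.to_le inf_le_left) fun g hg => mem_centralizer_singleton_iff.1 hg.2
    exact mem_zpowers_of_cyclic hP ⟨L.le hp, mem_centralizer_singleton_iff.2 hpf.eq⟩ hpo
      ⟨hu, mem_centralizer_singleton_iff.2 huf.eq⟩ hur
  have hpow : ∀ u ∈ M, (x2 * u * x2⁻¹) ^ r = 1 := fun u hu => by rw [conj_pow, L.pow u hu]; simp
  have hA : x2 * a * x2⁻¹ ∈ zpowers b := by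
    refine hfix w b H.order_w hb hbo hbw _ (hx2S a L.a_mem) ?_ (hpow a L.a_mem)
    rw [← hx2t]; exact H.comm_at.map (MulAut.conj x2).toMonoidHom
  have hB : x2 * b * x2⁻¹ ∈ zpowers a := by
    obtain ⟨i, hi⟩ := hx1b
    have hi' : a ^ i = x1 * b * x1⁻¹ := hi
    rw [hcj, ← hi', (hka.zpow_right i).eq, mul_inv_cancel_right]
    exact zpow_mem (mem_zpowers a) i
  have hCc : x2 * c * x2⁻¹ ∈ zpowers c := by
    refine hfix (t * w) c H.order_tw hc hco hctw _ (hx2S c hc) ?_ (hpow c hc)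
    rw [← hx2tw]; exact hctw.map (MulAut.conj x2).toMonoidHom
  have hx2n : x2 ∈ normalizer (M : Set G) := mem_normalizer_finite fun u hu => by
    obtain ⟨i, j, l, rfl⟩ := hdec u hu
    rw [← conj_mul, ← conj_mul, ← conj_zpow, ← conj_zpow, ← conj_zpow]
    exact mul_mem (mul_mem (zpow_mem (zpowers_le.2 hb hA) i) (zpow_mem (zpowers_le.2 L.a_mem hB) j))
      (zpow_mem (zpowers_le.2 hc hCc) l)
  -- the three cycle
  obtain ⟨m, hm1, hm2⟩ := H.rot
  set y := x2 * σ ^ m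
  have hyn : y ∈ normalizer (M : Set G) := mul_mem hx2n (pow_mem L.σ_norm m)
  have hcy : ∀ u : G, y * u * y⁻¹ = x2 * (σ ^ m * u * (σ ^ m)⁻¹) * x2⁻¹ := fun u => by
    show x2 * σ ^ m * u * (x2 * σ ^ m)⁻¹ = _; group
  have hyt : y * t * y⁻¹ = w := by rw [hcy, (H.comm_σt.pow_left m).eq, mul_inv_cancel_right, hx2t]
  have hyw : y * w * y⁻¹ = t * w := by rw [hcy, hm1, hx2tw]
  have hytw : y * (t * w) * y⁻¹ = t := by rw [hcy, hm2, hx2w]
  set b' := y * a * y⁻¹
  set c' := y * b' * y⁻¹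
  have hord : ∀ u : G, orderOf (y * u * y⁻¹) = orderOf u := fun u =>
    orderOf_injective (MulAut.conj y).toMonoidHom (MulAut.conj y).injective u
  have hb'M : b' ∈ M := L.conj_mem H hyn L.a_mem
  have hc'M : c' ∈ M := L.conj_mem H hyn hb'M
  have hb'o : orderOf b' = r := (hord a).trans H.order_a
  have hc'o : orderOf c' = r := (hord b').trans hb'o
  have hb'w : Commute b' w := by rw [← hyt]; exact H.comm_at.map (MulAut.conj y).toMonoidHom
  have hc'tw : Commute c' (t * w) := by rw [← hyw]; exact hb'w.map (MulAut.conj y).toMonoidHom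
  have hbb' : b ∈ zpowers b' := hfix w b' H.order_w hb'M hb'o hb'w b (L.le hb) hbw (L.pow b hb)
  have hcc' : c ∈ zpowers c' := hfix (t * w) c' H.order_tw hc'M hc'o hc'tw c (L.le hc) hctw (L.pow c hc)
  have hb'b : b' ∈ zpowers b := hfix w b H.order_w hb hbo hbw b' (L.le hb'M) hb'w (L.pow _ hb'M)
  have hc'c : c' ∈ zpowers c :=
    hfix (t * w) c H.order_tw hc hco hctw c' (L.le hc'M) hc'tw (L.pow _ hc'M)
  have htb' : t * b' * t⁻¹ = b'⁻¹ := by
    obtain ⟨i, hi⟩ := hb'b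
    show t * _ * t⁻¹ = _
    rw [← hi]; show t * b ^ i * t⁻¹ = (b ^ i)⁻¹
    rw [← conj_zpow, htb, inv_zpow]
  have htc' : t * c' * t⁻¹ = c'⁻¹ := by
    obtain ⟨i, hi⟩ := hc'c
    show t * _ * t⁻¹ = _
    rw [← hi]; show t * c ^ i * t⁻¹ = (c ^ i)⁻¹
    rw [← conj_zpow, htc, inv_zpow]
  have hwc : w * c' * w⁻¹ = c'⁻¹ := by
    have e1 : t * w * c' * (t * w)⁻¹ = c' := by rw [hc'tw.symm.eq, mul_inv_cancel_right]
    rw [← htc']
    nth_rw 2 [← e1]
    rw [show t * (t * w * c' * (t * w)⁻¹) * t⁻¹ = t * t * w * c' * (t * t * w)⁻¹ by group, H.mul_self_t,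
      one_mul]
  have hy3 : y * c' * y⁻¹ = a ∨ y * c' * y⁻¹ = a⁻¹ := by
    set g := y * y * y
    have hgt : Commute g t := by
      have e1 : g * t * g⁻¹ = t := by
        show y * y * y * t * (y * y * y)⁻¹ = t
        rw [show y * y * y * t * (y * y * y)⁻¹ = y * (y * (y * t * y⁻¹) * y⁻¹) * y⁻¹ by group, hyt, hyw, hytw]
      show g * t = t * g
      exact mul_inv_eq_iff_eq_mul.1 e1
    have hga : g * a * g⁻¹ = y * c' * y⁻¹ := by
      show y * y * y * a * (y * y * y)⁻¹ = y * (y * (y * a * y⁻¹) * y⁻¹) * y⁻¹; group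
    rw [← hga]
    have hgmem : g * a * g⁻¹ ∈ zpowers a := by
      refine L.mem_of_comm_t H (by rw [hga]; exact L.conj_mem H hyn hc'M) ?_
      rw [hga, ← hytw]
      exact hc'tw.map (MulAut.conj y).toMonoidHom
    rcases H.norm_a g hgt hgmem with h | h
    · exact Or.inl (by rw [(H.comm_T h H.a_mem).eq, mul_inv_cancel_right])
    · refine Or.inr ?_
      rw [show g * a * g⁻¹ = g * w * (w⁻¹ * a * w) * (g * w)⁻¹ by group, show w⁻¹ * a * w = a⁻¹ by
        rw [H.inv_w]; nth_rw 2 [← H.inv_w]; exact H.w_conj_a,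
        ((H.comm_T h H.a_mem).inv_right).eq, mul_inv_cancel_right]
  refine ⟨b', c', y, M, ⟨fun u => ⟨fun hu => ?_, ?_⟩, hb'o, hc'o, (L.cent_a H hb'M).symm, (L.cent_a H hc'M).symm,
    ?_, hb'w, htb', hwc, htc', L.σ_norm, rfl, rfl, hy3, hyt⟩⟩
  · obtain ⟨i, j, l, rfl⟩ := hdec u hu
    obtain ⟨p, hp⟩ := hbb'
    obtain ⟨s, hs⟩ := hcc'
    refine ⟨i, p * j, s * l, ?_⟩
    rw [zpow_mul, zpow_mul, show b' ^ p = b from hp, show c' ^ s = c from hs]
  · rintro ⟨i, j, l, rfl⟩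
    exact mul_mem (mul_mem (zpow_mem L.a_mem i) (zpow_mem hb'M j)) (zpow_mem hc'M l)
  · obtain ⟨p, hp⟩ := hb'b
    obtain ⟨s, hs⟩ := hc'c
    rw [show b' = b ^ p from hp.symm, show c' = c ^ s from hs.symm]
    exact hbc.zpow_zpow p s

end TorusHyp

end Cfsg.Agent.U3Order
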