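import Cfsg.Agent.Lib.U3Order.Equations
import Cfsg.Agent.Lib.U3Order.TorusFrame
import Cfsg.Agent.Lib.U3Recog.Large

/-!
# The torus primes of a centraliser of type `GU₂(q)/Z`, `q ≡ 1 (mod 4)`

* `PreData.exists_torusHyp` : the hypotheses of `U3Order.TorusHyp` at a prime dividing `q - 1`;
* `PreData.factor_C` : the part of `|C(t)|` at such a prime.
-/

set_option autoImplicit false
set_option linter.unusedSectionVars false
set_option linter.style.haveILetI false

open Cfsg.Agent.DihedralDefect (mid)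

namespace Cfsg.Agent.U3Recog

open Subgroup Cfsg.Agent.Unitary Cfsg.Agent.SylowCyclicSuzuki

variable {G : Type*} [Group G] [Finite G] {F : Type*} [Field F] [Fintype F] {q r : ℕ}

namespace PreData

variable (D : PreData G F q)
include D

theorem not_dvd_succ (hr : r.Prime) (h2 : r ≠ 2) (hd : r ∣ q - 1) : ¬ r ∣ q + 1 := fun h => by
  have h' := Nat.dvd_sub h hd
  have := D.q_ge
  rw [show q + 1 - (q - 1) = 2 by omega] at h'
  exact h2 ((Nat.prime_dvd_prime_iff_eq hr Nat.prime_two).1 h')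

/-- The part of the centraliser at a prime dividing `q - 1`. -/
theorem factor_C (hr : r.Prime) (h2 : r ≠ 2) (hd : r ∣ q - 1) :
    (Nat.card (centralizer ({D.t} : Set G))).factorization r = (q - 1).factorization r := by
  have hq := D.q_ge
  have h1 := D.not_dvd_succ hr h2 hd
  have hq0 : ¬ r ∣ q := fun h => by
    have h' := Nat.dvd_sub h hd
    rw [show q - (q - 1) = 1 by omega] at h'
    exact hr.not_dvd_one h'
  have hk : ¬ r ∣ Nat.card D.π.ker := fun h => h1 (h.trans D.d_dvd)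
  have hC := congrArg (fun x => x.factorization r) D.card_C
  have e2 : q ^ 2 - 1 = (q + 1) * (q - 1) := by simpa using Nat.sq_sub_sq q 1
  rw [e2] at hC
  have hb : q - 1 ≠ 0 := by omega
  simp only [Nat.factorization_mul Nat.card_pos.ne' Nat.card_pos.ne',
    Nat.factorization_mul (by omega : q ≠ 0)
      (mul_ne_zero (Nat.succ_ne_zero q) (mul_ne_zero (Nat.succ_ne_zero q) hb)),
    Nat.factorization_mul (Nat.succ_ne_zero q) (mul_ne_zero (Nat.succ_ne_zero q) hb),
    Nat.factorization_mul (Nat.succ_ne_zero q) hb, Finsupp.coe_add, Pi.add_apply,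
    Nat.factorization_eq_zero_of_not_dvd hk, Nat.factorization_eq_zero_of_not_dvd h1,
    Nat.factorization_eq_zero_of_not_dvd hq0, add_zero, zero_add] at hC
  exact hC

theorem diag_mem_H {g : U2 F q} (h01 : e01 g = 0) (h10 : e10 g = 0) : D.π g ∈ D.H := by
  obtain ⟨c, hc, α, rfl⟩ := upper D.hF g h10
  simp at h01
  refine ⟨α, ?_⟩
  subst h01
  simp [uu_zero]

/-- The hypotheses of the torus argument. -/
theorem exists_torusHyp [IsSimpleGroup G] (h4 : q % 4 = 1) (hr : r.Prime) (h2 : r ≠ 2)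
    (hd : r ∣ q - 1) :
    ∃ σ a : G, U3Order.TorusHyp D.t D.w σ a D.H r ((q ^ 2 - 1).factorization 2) := by
  haveI : Fact (Nat.Prime 2) := ⟨Nat.prime_two⟩
  haveI := Fact.mk hr
  letI := Fintype.ofFinite G
  have hq := D.q_ge
  have h1 := D.not_dvd_succ hr h2 hd
  set v := (q ^ 2 - 1).factorization 2 with hv
  have e2 : q ^ 2 - 1 = (q + 1) * (q - 1) := by simpa using Nat.sq_sub_sq q 1
  -- the 2-part of the torus
  haveI := D.R_cyclic
  obtain ⟨g₀, hg₀⟩ := IsCyclic.exists_generator (α := D.R)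
  have hσ : orderOf (g₀ : G) = 2 ^ v := by
    rw [Subgroup.orderOf_coe, orderOf_eq_card_of_forall_mem_zpowers hg₀, D.card_R]
  have hσH : (g₀ : G) ∈ D.H := D.R_le_H g₀.2
  obtain ⟨α₀, hα₀⟩ := D.mem_H.1 hσH
  have hv3 : 3 ≤ v := by
    refine (Nat.Prime.pow_dvd_iff_le_factorization Nat.prime_two D.sq_sub_pos).1 ?_
    rw [e2]
    obtain ⟨m, hm⟩ : 4 ∣ q - 1 := by omega
    refine ⟨(2 * m + 1) * m, ?_⟩
    rw [show q + 1 = 2 * (2 * m + 1) by omega, hm]
    ring
  have hdd : ∀ α : Fˣ, D.w * D.π (dd D.hF α) * D.w⁻¹ = (D.π (dd D.hF α) ^ q)⁻¹ := fun α => by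
    rw [D.w_inv, D.w_dd, map_inv, map_inv, map_pow, map_pow]
  have hσt : (g₀ : G) ^ (q - 1) = D.t := by
    have h12 : ((g₀ : G) ^ (q - 1)) ^ 2 = 1 := by
      rw [← pow_mul]
      refine orderOf_dvd_iff_pow_eq_one.1 ?_
      rw [hσ]
      refine Nat.Coprime.dvd_of_dvd_mul_left (Nat.Coprime.pow_left v
        (Nat.coprime_two_left.2 (show Odd ((q + 1) / 2) from Nat.odd_iff.2 (by omega)))) ?_
      rw [show (q + 1) / 2 * ((q - 1) * 2) = 2 * ((q + 1) / 2) * (q - 1) by ring,
        show 2 * ((q + 1) / 2) = q + 1 by omega, ← e2]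
      exact Nat.ordProj_dvd _ _
    have hne : (g₀ : G) ^ (q - 1) ≠ 1 := fun e => by
      have h3 := orderOf_dvd_of_pow_eq_one e
      rw [hσ] at h3
      have h4' : 2 ^ (v + 1) ∣ q ^ 2 - 1 := by
        rw [e2, pow_succ']
        exact Nat.mul_dvd_mul (by omega) h3
      exact Nat.pow_succ_factorization_not_dvd D.sq_sub_pos Nat.prime_two h4'
    have hz := U3Order.mem_zpowers_of_cyclic D.H_cyclic D.t_mem_H D.orderOf_t
      (D.H.pow_mem hσH _) h12
    obtain ⟨k, hk⟩ := hz
    have hk' : (D.t : G) ^ k = (g₀ : G) ^ (q - 1) := hk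
    have ht2 : (D.t : G) ^ (2 : ℤ) = 1 := by
      rw [show (2 : ℤ) = ((2 : ℕ) : ℤ) by rfl, zpow_natCast]
      exact orderOf_dvd_iff_pow_eq_one.1 D.orderOf_t.dvd
    rcases Int.even_or_odd k with ⟨j, rfl⟩ | ⟨j, rfl⟩
    · refine absurd ?_ hne
      rw [← hk', ← two_mul, zpow_mul, ht2, one_zpow]
    · rw [← hk', zpow_add, zpow_mul, ht2, one_zpow, one_mul, zpow_one]
  -- the element of order `r`
  obtain ⟨a₀, ha₀⟩ := exists_prime_orderOf_dvd_card' (G := D.H) r (by
    have := D.card_H_gcd hr h1 (e := 1) (by rwa [pow_one])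
    rwa [pow_one] at this)
  have ha : orderOf (a₀ : G) = r := by rw [Subgroup.orderOf_coe, ha₀]
  obtain ⟨β, hβ⟩ := D.mem_H.1 a₀.2
  have hane : (a₀ : G) ≠ 1 := fun e => by
    rw [e, orderOf_one] at ha; exact hr.one_lt.ne ha
  have hβ1 : β ^ (q + 1) ≠ 1 := D.torus_pow_ne hr h1 (e := 1) (by rwa [hβ])
    (by rw [hβ, pow_one, ← ha, pow_orderOf_eq_one])
  have haq : (a₀ : G) ^ q = a₀ := by
    obtain ⟨k, hk⟩ := hd
    refine (congrArg ((a₀ : G) ^ ·) (show q = r * k + 1 by omega)).trans ?_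
    simp only [pow_succ, pow_mul]
    rw [← ha, pow_orderOf_eq_one, one_pow, one_mul]
  obtain ⟨R, hRC, htR, hSD⟩ := D.exists_semidihedral h4
  refine ⟨g₀, a₀,
    { prime := hr
      r_ne_two := h2
      three_le := hv3
      order_t := D.orderOf_t
      order_w := D.orderOf_w
      comm_tw := D.comm_t _
      cyclic := D.H_cyclic
      t_mem := D.t_mem_H
      σ_mem := hσH
      order_σ := hσ
      two_part := fun h => ?_
      w_conj_σ := ?_
      a_mem := a₀.2
      order_a := ha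
      w_conj_a := ?_
      T_cent := fun g hg => mem_centralizer_singleton_iff.1 (D.H_le_C hg)
      cent_a := fun g hgt hga => ?_
      norm_a := fun g hgt hga => ?_
      Tw_conj := fun τ hτ hτw => ?_
      r_cyclic := fun P hP hPt => ?_
      involutions := fun x hx => ?_ }⟩
  · exact Nat.pow_succ_factorization_not_dvd D.sq_sub_pos Nat.prime_two
      (h.trans ⟨_, D.card_H.symm⟩)
  · rw [← hσt]
    conv_lhs => rw [← hα₀, hdd, hα₀]
    rw [(congrArg ((g₀ : G) ^ ·) (show q = (q - 1) + 1 by omega) :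
      (g₀ : G) ^ q = (g₀ : G) ^ (q - 1 + 1)), pow_succ, mul_inv_rev]
    congr 1
    rw [hσt]
    exact inv_eq_of_mul_eq_one_right (by
      rw [← pow_two]; exact orderOf_dvd_iff_pow_eq_one.1 D.orderOf_t.dvd)
  · conv_lhs => rw [← hβ, hdd, hβ, haq]
  · obtain ⟨g', rfl⟩ := D.exists_of_comm hgt
    exact D.cc_torus hβ1 (hβ ▸ hga)
  · obtain ⟨g', rfl⟩ := D.exists_of_comm hgt
    obtain ⟨k, hk⟩ := hga
    have hk' : (a₀ : G) ^ k = D.π g' * a₀ * (D.π g')⁻¹ := hk
    have hker : (dd D.hF (β ^ k) * g')⁻¹ * (g' * dd D.hF β) ∈ D.π.ker := by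
      rw [MonoidHom.mem_ker, map_mul, map_inv, map_mul, map_mul, map_zpow, map_zpow, hβ, hk']
      group
    obtain ⟨γ, hγ, he⟩ := D.ker_eq_dd hker
    have he' : g' * dd D.hF β = dd D.hF (β ^ k * γ) * g' := by
      rw [map_mul, mul_assoc, ← D.dd_scalar hγ, ← mul_assoc, ← he]
      group
    set δ := β ^ k * γ
    have hne : ((β : F) ^ q)⁻¹ ≠ (β : F) := fun e => hβ1 (Units.ext (by
      rw [Units.val_pow_eq_pow_val, pow_succ', Units.val_one]
      nth_rw 1 [← e]
      exact inv_mul_cancel₀ (pow_ne_zero _ β.ne_zero)))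
    obtain ⟨b0, b1, b2, b3⟩ := dd_entries D.hF (q := q) β
    obtain ⟨d0, d1, d2, d3⟩ := dd_entries D.hF (q := q) δ
    have r0 := congrArg e00 he'
    have r1 := congrArg e01 he'
    have r2 := congrArg e10 he'
    have r3 := congrArg e11 he'
    simp only [e00_mul, e01_mul, e10_mul, e11_mul, b0, b1, b2, b3, d0, d1, d2, d3, mul_zero,
      zero_mul, add_zero, zero_add] at r0 r1 r2 r3
    have hab : e00 g' = 0 ∨ e01 g' = 0 := by
      by_contra hc
      obtain ⟨hA, hB⟩ := not_or.1 hc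
      have x0 : (δ : F) = β := mul_right_cancel₀ hA (by rw [← r0, mul_comm])
      have x1 : (δ : F) = ((β : F) ^ q)⁻¹ := mul_right_cancel₀ hB (by rw [← r1, mul_comm])
      exact hne (x1.symm.trans x0)
    have hcd : e10 g' = 0 ∨ e11 g' = 0 := by
      by_contra hc
      obtain ⟨hA, hB⟩ := not_or.1 hc
      have x0 : ((δ : F) ^ q)⁻¹ = β := mul_right_cancel₀ hA (by rw [← r2, mul_comm])
      have x1 : ((δ : F) ^ q)⁻¹ = ((β : F) ^ q)⁻¹ :=
        mul_right_cancel₀ hB (by rw [← r3, mul_comm])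
      exact hne (x1.symm.trans x0)
    have hdet : e00 g' * e11 g' - e01 g' * e10 g' ≠ 0 := det2_ne_zero D.hF g'
    rcases hab with hA | hB
    · right
      have hD : e11 g' = 0 := hcd.resolve_left fun hC => hdet (by rw [hA, hC]; ring)
      have := D.diag_mem_H (g := g' * wn D.hF) (by simp [hA]) (by simp [hD])
      rwa [map_mul] at this
    · left
      have hC : e10 g' = 0 := hcd.resolve_right fun hD => hdet (by rw [hB, hD]; ring)
      exact D.diag_mem_H hB hC
  · obtain ⟨α, rfl⟩ := D.mem_H.1 hτ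
    have hk : dd D.hF (α * (α ^ q)⁻¹) ∈ D.π.ker := by
      rw [MonoidHom.mem_ker, map_mul, map_mul, ← D.w_dd α, ← hτw]
      group
    obtain ⟨γ, hγ, he⟩ := D.ker_eq_dd hk
    have hαγ := dd_injective D.hF he
    have hcop : (Nat.card D.π.ker).Coprime (q - 1) := by
      rw [Nat.coprime_comm]
      refine (Nat.coprime_of_dvd fun l hl hl1 hl2 => ?_)
      rcases eq_or_ne l 2 with rfl | hl2'
      · exact Nat.not_even_iff_odd.2 D.ker_odd (even_iff_two_dvd.2 hl2)
      · exact D.not_dvd_succ hl hl2' hl1 (hl2.trans D.d_dvd)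
    obtain ⟨y, hy⟩ := (powCoprime hcop).surjective ⟨dd D.hF γ, he ▸ hk⟩
    obtain ⟨ε, hε, hyε⟩ := D.ker_eq_dd y.2
    have hε' : ε ^ (q - 1) = γ := by
      refine dd_injective D.hF ?_
      rw [map_pow, ← hyε]
      exact congrArg Subtype.val hy
    have hfix : ((α * ε : Fˣ) : F) ^ q = (α * ε : Fˣ) := by
      rw [← Units.val_pow_eq_pow_val]
      refine congrArg Units.val ?_
      have hq' : ∀ x : Fˣ, x ^ q = x ^ (q - 1) * x := fun x => by
        rw [← pow_succ]; congr 1; omega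
      rw [hq', mul_pow, hε', ← hαγ, hq' α]
      group
    obtain ⟨x, hx⟩ := exists_norm_eq D.hF hfix
    have hx0 : x ≠ 0 := fun h => (α * ε).ne_zero (by rw [← hx, h, zero_pow (Nat.succ_ne_zero q)])
    set b := Units.mk0 x hx0
    refine ⟨D.π (dd D.hF b), D.dd_mem _, ?_⟩
    have hb : b ^ (q + 1) = α * ε := Units.ext (by rw [Units.val_pow_eq_pow_val]; exact hx)
    have hεk : D.π (dd D.hF ε) = 1 := hyε ▸ y.2
    calc D.π (dd D.hF b) * D.w * (D.π (dd D.hF b))⁻¹
        = D.π (dd D.hF b) * (D.w * D.π (dd D.hF b⁻¹) * D.w) * D.w := by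
          rw [map_inv, map_inv]; simp only [mul_assoc, D.w_mul_w, mul_one]
      _ = D.π (dd D.hF α) * D.w := by
          rw [D.w_dd, inv_pow, inv_inv, ← map_mul, ← map_mul, ← pow_succ', hb, map_mul, map_mul,
            hεk, mul_one]
  · -- the Sylow subgroups of the centraliser are cyclic
    set C := centralizer ({D.t} : Set G)
    set e := (q - 1).factorization r with he
    let A := cycPart D.H D.H_cyclic (r ^ e)
    have hA : A ≤ C := (cycPart_le _ _ _).trans D.H_le_C
    let S : Sylow r C := Sylow.ofCard (A.subgroupOf C) (by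
      rw [Nat.card_congr (subgroupOfEquivOfLe hA).toEquiv, D.factor_C hr h2 hd,
        card_cycPart_of_dvd (D.card_H_gcd hr h1 (Nat.ordProj_dvd _ _))])
    have hPC : P ≤ C := fun g hg => mem_centralizer_singleton_iff.2 (hPt g hg)
    obtain ⟨S', hS'⟩ := (hP.of_equiv (subgroupOfEquivOfLe hPC).symm).exists_le_sylow
    haveI : IsCyclic (S : Subgroup C) :=
      (subgroupOfEquivOfLe hA).isCyclic.2 (cycPart_cyclic _ _ _)
    haveI : IsCyclic (S' : Subgroup C) := (Sylow.equiv S S').isCyclic.1 inferInstance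
    haveI : IsCyclic (P.subgroupOf C) :=
      (subgroupOfEquivOfLe hS').isCyclic.1 inferInstance
    exact (subgroupOfEquivOfLe hPC).isCyclic.1 inferInstance
  · obtain ⟨a, b, σ, s, h⟩ := SD.exists_of_isQuasiDihedral R hSD
    have ht : D.t = mid a σ := h.eq_mid_of_central htR
      (fun y hy => mem_centralizer_singleton_iff.1 (hRC hy)) (Involution.ne_one D.orderOf_t)
    rw [ht]
    exact (h.isConj_mid (InvolChar.commutator_eq_top_of_simple D.not_comm)
      (by rw [← pow_two]; exact orderOf_dvd_iff_pow_eq_one.1 hx.dvd)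
      fun e => by simp [e] at hx).symm

end PreData

end Cfsg.Agent.U3Recog
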