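import Cfsg.Agent.Lib.U3Order.TorusCore
import Cfsg.Agent.Lib.S3Fpf.ClassTwo

/-!
# The order step of `PSU₃(q)`: the elementary abelian group of order `r³` (owner: helper40)

* `Layer` : a subgroup of exponent `r`, central modulo `⟨a⟩`, invariant under `σ` and `w`
* `TorusHyp.exists_layer` : there is one bigger than `⟨a⟩`
* `Layer.exists_abc` : it is `⟨a⟩ × ⟨b⟩ × ⟨c⟩`, with `b`, `c` centralized by `w`, `t w`
-/

set_option autoImplicit false
set_option linter.unusedSectionVars false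
set_option linter.style.haveILetI false

namespace Cfsg.Agent.U3Order

open Subgroup

variable {G : Type*} [Group G] [Finite G]

/-- A subgroup of exponent `r` with commutators in `⟨a⟩`, invariant under `σ` and `w`. -/
structure Layer (w σ a : G) (r : ℕ) (S M : Subgroup G) : Prop where
  pgroup : IsPGroup r S
  cent : ∀ x ∈ S, Commute x a
  le : M ≤ S
  a_mem : a ∈ M
  pow : ∀ x ∈ M, x ^ r = 1
  comm : ∀ x ∈ M, ∀ y ∈ M, x * y * x⁻¹ * y⁻¹ ∈ zpowers a
  σ_norm : σ ∈ normalizer (M : Set G)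
  w_norm : w ∈ normalizer (M : Set G)
  big : ∃ x ∈ M, x ∉ zpowers a

namespace TorusHyp

variable {t w σ a : G} {T : Subgroup G} {r v : ℕ} (H : TorusHyp t w σ a T r v)
include H

theorem exists_layer {S : Subgroup G} (hS : IsPGroup r S) (hSa : ∀ x ∈ S, Commute x a) (haS : a ∈ S)
    (hSA : zpowers w ⊔ zpowers σ ≤ normalizer (S : Set G)) (hnc : ¬ IsCyclic S) :
    ∃ M : Subgroup G, Layer w σ a r S M := by
  haveI := Fact.mk H.prime
  set a' : S := ⟨a, haS⟩
  have ha'c : a' ∈ center S := mem_center_iff.2 fun g => Subtype.ext (hSa g g.2).eq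
  haveI hZn : (zpowers a').Normal := PGroup.zpowers_normal_of_mem_center ha'c
  have hnc' : ¬ IsCyclic (⊤ : Subgroup S) := fun h => hnc (Subgroup.topEquiv.isCyclic.1 h)
  obtain ⟨N, -, hNn, ⟨-, hNp⟩, hNc⟩ := PGroup.exists_normal_elementary_sq H.r_ne_two hS hnc'
  haveI := hNn
  have hlt : zpowers a' < zpowers a' ⊔ N := lt_of_le_of_ne le_sup_left fun e => by
    have h1 : Nat.card N ≤ Nat.card (zpowers a') := card_le_of_le (le_sup_right.trans e.ge)
    rw [hNc, Nat.card_zpowers, ← Subgroup.orderOf_coe] at h1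
    have h2 : r ^ 2 ≤ r ^ 1 := by simpa [a', H.order_a] using h1
    exact absurd ((Nat.pow_le_pow_iff_right H.prime.one_lt).1 h2) (by omega)
  obtain ⟨L, -, hZL, hLN, hLc, hLcomm⟩ := PGroup.exists_normal_between hS hlt
  have hLne : ¬ L ≤ zpowers a' := fun e => by
    have h1 := card_le_of_le e
    rw [hLc] at h1
    have h2 : 0 < Nat.card (zpowers a') := Nat.card_pos
    have := H.prime.two_le
    nlinarith
  obtain ⟨x, hxL, hxa⟩ := SetLike.not_le_iff_exists.1 hLne
  have hxr : x ^ r = 1 := by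
    obtain ⟨z, hz, n, hn, rfl⟩ := (Subgroup.mem_sup_of_normal_left).1 (hLN hxL)
    have hc : Commute z n := (mem_center_iff.1 (zpowers_le.2 ha'c hz) n).symm
    obtain ⟨k, rfl⟩ := hz
    have e : (a' ^ k) ^ r = 1 := by
      rw [← zpow_natCast, ← zpow_mul, mul_comm, zpow_mul, zpow_natCast,
        show a' ^ r = 1 from Subtype.ext (by simpa [a'] using H.a_pow), one_zpow]
    rw [hc.mul_pow, hNp n hn, e, mul_one]
  have hxy : ∀ y ∈ S, (x : G) * y * (x : G)⁻¹ * y⁻¹ ∈ zpowers a := by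
    intro y hy
    obtain ⟨k, hk⟩ := hLcomm (commutator_mem_commutator hxL (mem_top (⟨y, hy⟩ : S)))
    exact ⟨k, by simpa [a', commutatorElement_def] using congrArg Subtype.val hk⟩
  -- the layer
  have hcen : ∀ z ∈ zpowers a, ∀ y ∈ S, Commute z y := by
    rintro z ⟨k, rfl⟩ y hy; exact ((hSa y hy).symm.zpow_left k)
  let M : Subgroup G :=
    { carrier := {u | u ∈ S ∧ u ^ r = 1 ∧ ∀ y ∈ S, u * y * u⁻¹ * y⁻¹ ∈ zpowers a}
      one_mem' := ⟨one_mem S, one_pow r, fun y _ => by simp⟩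
      mul_mem' := by
        rintro u u' ⟨hu, hur, huc⟩ ⟨hu', hur', huc'⟩
        refine ⟨mul_mem hu hu', ?_, fun y hy => ?_⟩
        · set z := u⁻¹ * (u' * u * u'⁻¹ * u⁻¹) * u
          have hz : z = u' * u * u'⁻¹ * u⁻¹ := by
            show u⁻¹ * _ * u = _
            rw [mul_assoc, (hcen _ (huc' u hu) u hu).eq, inv_mul_cancel_left]
          have h := S3Fpf.mul_pow_classTwo (x := u) (y := u') (z := z)
            (hz ▸ hcen _ (huc' u hu) u hu) (hz ▸ hcen _ (huc' u hu) u' hu')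
            (by rw [← (hz ▸ hcen _ (huc' u hu) (u * u') (mul_mem hu hu') : Commute z (u * u')).eq, hz]; group) r
          obtain ⟨k, hk⟩ := H.prime.dvd_choose_self (k := 2) (by norm_num)
            (lt_of_le_of_ne H.prime.two_le (Ne.symm H.r_ne_two))
          obtain ⟨i, hi⟩ := hz ▸ huc' u hu
          have hzr : z ^ r = 1 := by
            have hi' : a ^ i = z := hi
            rw [← hi', ← zpow_natCast, ← zpow_mul, mul_comm, zpow_mul, zpow_natCast, H.a_pow, one_zpow]
          rw [h, hur, hur', hk, pow_mul, hzr, one_pow, one_mul, one_mul]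
        · have e : u * u' * y * (u * u')⁻¹ * y⁻¹ =
              (u * (u' * y * u'⁻¹ * y⁻¹) * u⁻¹) * (u * y * u⁻¹ * y⁻¹) := by group
          rw [e, (hcen _ (huc' y hy) u hu).symm.eq, mul_inv_cancel_right]
          exact mul_mem (huc' y hy) (huc y hy)
      inv_mem' := by
        rintro u ⟨hu, hur, huc⟩
        refine ⟨inv_mem hu, by rw [inv_pow, hur, inv_one], fun y hy => ?_⟩
        have e : u⁻¹ * y * u⁻¹⁻¹ * y⁻¹ = u⁻¹ * (u * y * u⁻¹ * y⁻¹)⁻¹ * u := by group
        rw [e, mul_assoc, (hcen _ (inv_mem (huc y hy)) u hu).eq, inv_mul_cancel_left]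
        exact inv_mem (huc y hy) }
  have hM : ∀ g, g ∈ normalizer (S : Set G) → g * a * g⁻¹ ∈ zpowers a → g ∈ normalizer (M : Set G) := by
    intro g hg hga
    refine mem_normalizer_finite fun u hu => ?_
    obtain ⟨hu1, hu2, hu3⟩ := hu
    refine ⟨(mem_normalizer_iff.1 hg u).1 hu1, by rw [conj_pow, hu2]; simp, fun y hy => ?_⟩
    have hy' : g⁻¹ * y * g ∈ S := (mem_normalizer_iff'.1 hg _).2 (by simpa [mul_assoc] using hy)
    obtain ⟨k, hk⟩ := hu3 _ hy'
    obtain ⟨i, hi⟩ := hga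
    have hk' : a ^ k = u * (g⁻¹ * y * g) * u⁻¹ * (g⁻¹ * y * g)⁻¹ := hk
    have hi' : a ^ i = g * a * g⁻¹ := hi
    refine ⟨i * k, show a ^ (i * k) = _ from ?_⟩
    rw [zpow_mul, hi', conj_zpow, hk']; group
  refine ⟨M, hS, hSa, fun u hu => hu.1, ⟨haS, H.a_pow, fun y hy => by
      rw [((hSa y hy).symm).eq, mul_inv_cancel_right, mul_inv_cancel]; exact one_mem _⟩,
    fun u hu => hu.2.1, fun u hu y hy => hu.2.2 y hy.1,
    hM σ (hSA (le_sup_right (a := zpowers w) (mem_zpowers σ))) (by rw [H.conj_a_σ]; exact mem_zpowers a),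
    hM w (hSA (le_sup_left (a := zpowers w) (mem_zpowers w))) (by rw [H.w_conj_a]; exact inv_mem (mem_zpowers a)),
    x, ⟨x.2, by simpa using congrArg Subtype.val hxr, hxy⟩, fun ⟨k, hk⟩ => hxa ⟨k, Subtype.ext (by simpa [a'] using hk)⟩⟩

end TorusHyp

end Cfsg.Agent.U3Order
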