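import Cfsg.Agent.EqLemmas
import Cfsg.Agent.Lib.PGroup.Basic
import Cfsg.Agent.Lib.PGroup.UniqueOrderP
import Cfsg.Agent.Lib.Signalizer.PAction

/-!
# The order step of `PSU₃(q)`: a torus prime dividing `(q - 1) / e` (owner: helper40)

* `TorusHyp` : an involution `t`, a cyclic torus `T` of its centralizer, an element `a` of odd prime order `r`
* `TorusHyp.mem_zpowers_of_cent` : no involution centralizes an elementary group of order `r²`
* `TorusHyp.exists_oddCore` : the odd core of the centralizer of `a`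
* `TorusHyp.exists_sylow` : a non-cyclic Sylow `r`-subgroup of `C(a)` normalized by `⟨σ, w⟩`
-/

set_option autoImplicit false
set_option linter.unusedSectionVars false
set_option linter.style.haveILetI false

namespace Cfsg.Agent.U3Order

open Subgroup

variable {G : Type*} [Group G]

/-- The data at a torus prime. -/
structure TorusHyp (t w σ a : G) (T : Subgroup G) (r v : ℕ) : Prop where
  prime : r.Prime
  r_ne_two : r ≠ 2
  three_le : 3 ≤ v
  order_t : orderOf t = 2
  order_w : orderOf w = 2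
  comm_tw : Commute w t
  cyclic : IsCyclic T
  t_mem : t ∈ T
  σ_mem : σ ∈ T
  order_σ : orderOf σ = 2 ^ v
  two_part : ¬ 2 ^ (v + 1) ∣ Nat.card T
  w_conj_σ : w * σ * w⁻¹ = σ⁻¹ * t
  a_mem : a ∈ T
  order_a : orderOf a = r
  w_conj_a : w * a * w⁻¹ = a⁻¹
  T_cent : ∀ g ∈ T, Commute g t
  cent_a : ∀ g, Commute g t → Commute g a → g ∈ T
  norm_a : ∀ g, Commute g t → g * a * g⁻¹ ∈ zpowers a → g ∈ T ∨ g * w ∈ T
  Tw_conj : ∀ τ ∈ T, (τ * w) * (τ * w) = 1 → ∃ μ ∈ T, μ * w * μ⁻¹ = τ * w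
  r_cyclic : ∀ P : Subgroup G, IsPGroup r P → (∀ g ∈ P, Commute g t) → IsCyclic P
  involutions : ∀ x : G, orderOf x = 2 → IsConj x t

/-- In a cyclic subgroup the elements killed by `n` are the powers of any element of order `n`. -/
theorem mem_zpowers_of_cyclic [Finite G] {P : Subgroup G} (hP : IsCyclic P) {x y : G} {n : ℕ}
    (hx : x ∈ P) (hxo : orderOf x = n) (hy : y ∈ P) (hyn : y ^ n = 1) : y ∈ zpowers x := by
  classical
  haveI := hP
  haveI : Fintype P := Fintype.ofFinite _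
  have hn : 0 < n := hxo ▸ orderOf_pos x
  set x' : P := ⟨x, hx⟩
  have hx'o : orderOf x' = n := by rw [← hxo]; exact (Subgroup.orderOf_coe x').symm
  have hsub : (zpowers x' : Set P).toFinset ⊆ ({z : P | z ^ n = 1} : Finset P) := fun z hz => by
    obtain ⟨k, rfl⟩ := Set.mem_toFinset.1 hz
    simp only [Finset.mem_filter, Finset.mem_univ, true_and]
    rw [← zpow_natCast, ← zpow_mul, mul_comm, zpow_mul, zpow_natCast, ← hx'o, pow_orderOf_eq_one, one_zpow]
  have heq := Finset.eq_of_subset_of_card_le hsub (by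
    refine le_trans (IsCyclic.card_pow_eq_one_le hn) (le_of_eq ?_)
    rw [Set.toFinset_card, ← Nat.card_eq_fintype_card]
    exact hx'o.symm.trans (Nat.card_zpowers x').symm)
  have hy' : (⟨y, hy⟩ : P) ∈ (zpowers x' : Set P).toFinset := by
    rw [heq]; simp only [Finset.mem_filter, Finset.mem_univ, true_and]; exact Subtype.ext (by simpa using hyn)
  obtain ⟨k, hk⟩ := Set.mem_toFinset.1 hy'
  exact ⟨k, by simpa using congrArg Subtype.val hk⟩

/-- An element that conjugates a finite subgroup into itself normalizes it. -/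
theorem mem_normalizer_finite [Finite G] {A : Subgroup G} {g : G} (h : ∀ x ∈ A, g * x * g⁻¹ ∈ A) :
    g ∈ normalizer (A : Set G) :=
  Subgroup.mem_normalizer_fintype (fun x hx => h x hx)

theorem odd_orderOf_of_pow {x : G} {r : ℕ} (hr : r.Prime) (hr2 : r ≠ 2) (hx : x ^ r = 1) :
    Odd (orderOf x) :=
  (hr.odd_of_ne_two hr2).of_dvd_nat (orderOf_dvd_of_pow_eq_one hx)

namespace TorusHyp

variable {t w σ a : G} {T : Subgroup G} {r v : ℕ} (H : TorusHyp t w σ a T r v)
include H

theorem mul_self_t : t * t = 1 := by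
  have h := pow_orderOf_eq_one t
  rwa [H.order_t, pow_two] at h

theorem inv_t : t⁻¹ = t := inv_eq_of_mul_eq_one_right H.mul_self_t

theorem mul_self_w : w * w = 1 := by
  have h := pow_orderOf_eq_one w
  rwa [H.order_w, pow_two] at h

theorem inv_w : w⁻¹ = w := inv_eq_of_mul_eq_one_right H.mul_self_w

theorem comm_T {x y : G} (hx : x ∈ T) (hy : y ∈ T) : Commute x y := by
  haveI := H.cyclic
  obtain ⟨g, hg⟩ := IsCyclic.exists_generator (α := T)
  obtain ⟨i, hi⟩ := hg ⟨x, hx⟩
  obtain ⟨j, hj⟩ := hg ⟨y, hy⟩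
  have hi' : (g : G) ^ i = x := by simpa using congrArg Subtype.val hi
  have hj' : (g : G) ^ j = y := by simpa using congrArg Subtype.val hj
  rw [← hi', ← hj']
  exact Commute.zpow_zpow_self (g : G) i j

theorem comm_σa : Commute σ a := H.comm_T H.σ_mem H.a_mem
theorem comm_σt : Commute σ t := H.T_cent σ H.σ_mem
theorem comm_at : Commute a t := H.T_cent a H.a_mem

theorem a_ne_one : a ≠ 1 := fun e => H.prime.one_lt.ne' (by rw [← H.order_a, e, orderOf_one])

theorem a_pow : a ^ r = 1 := H.order_a ▸ pow_orderOf_eq_one a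

theorem a_inv_ne : a⁻¹ ≠ a := fun e => by
  have h : a ^ 2 = 1 := by rw [pow_two]; nth_rw 1 [← e]; exact inv_mul_cancel a
  have h2 := orderOf_dvd_of_pow_eq_one h
  rw [H.order_a] at h2
  exact H.r_ne_two ((Nat.prime_dvd_prime_iff_eq H.prime Nat.prime_two).1 h2)

variable [Finite G]

/-- The `2`-part of the torus. -/
theorem t_eq : σ ^ 2 ^ (v - 1) = t := by
  haveI := H.cyclic
  set z := σ ^ 2 ^ (v - 1)
  have h3 := H.three_le
  have hz : orderOf z = 2 := by
    rw [orderOf_pow' σ (by positivity), H.order_σ, Nat.gcd_eq_right (Nat.pow_dvd_pow 2 (by omega)),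
      Nat.pow_div (by omega) (by norm_num), show v - (v - 1) = 1 by omega, pow_one]
  obtain ⟨k, hk⟩ := Subgroup.mem_zpowers_iff.1
    (mem_zpowers_of_cyclic H.cyclic H.t_mem H.order_t (pow_mem H.σ_mem _) (hz ▸ pow_orderOf_eq_one z))
  rcases Int.even_or_odd k with ⟨j, rfl⟩ | ⟨j, rfl⟩
  · exfalso
    rw [zpow_add, ← (Commute.refl t).mul_zpow, H.mul_self_t, one_zpow] at hk
    have e : z = 1 := hk.symm
    rw [e, orderOf_one] at hz
    exact absurd hz (by norm_num)
  · have e : t ^ (2 * j + 1) = z := hk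
    rw [← e, zpow_add, zpow_mul, zpow_two, H.mul_self_t, one_zpow, one_mul, zpow_one]

/-- Every involution of the torus is `t`. -/
theorem involution_T {x : G} (hx : x ∈ T) (hxo : orderOf x = 2) : x = t := by
  obtain ⟨k, hk⟩ := Subgroup.mem_zpowers_iff.1
    (mem_zpowers_of_cyclic H.cyclic H.t_mem H.order_t hx (hxo ▸ pow_orderOf_eq_one x))
  rcases Int.even_or_odd k with ⟨j, rfl⟩ | ⟨j, rfl⟩
  · exfalso
    rw [zpow_add, ← (Commute.refl t).mul_zpow, H.mul_self_t, one_zpow] at hk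
    rw [← hk, orderOf_one] at hxo
    exact absurd hxo (by norm_num)
  · rw [← hk, zpow_add, zpow_mul, zpow_two, H.mul_self_t, one_zpow, one_mul, zpow_one]

/-- An `r`-subgroup centralized by an involution is cyclic. -/
theorem cyclic_of_cent {e : G} (he : orderOf e = 2) {P : Subgroup G} (hP : IsPGroup r P)
    (hPe : ∀ g ∈ P, Commute g e) : IsCyclic P := by
  obtain ⟨c, hc⟩ := isConj_iff.1 (H.involutions e he)
  set φ := (MulAut.conj c).toMonoidHom
  have h := H.r_cyclic (P.map φ) (hP.map φ) (by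
    rintro _ ⟨x, hx, rfl⟩
    rw [← hc]
    exact (hPe x hx).map φ)
  exact (P.equivMapOfInjective φ (MulAut.conj c).injective).isCyclic.2 h

/-- An involution centralizes no elementary abelian group of order `r²`. -/
theorem mem_zpowers_of_cent {e x y : G} (he : orderOf e = 2) (hx : Commute x e) (hy : Commute y e)
    (hxy : Commute x y) (hxo : orderOf x = r) (hyr : y ^ r = 1) : y ∈ zpowers x := by
  haveI := Fact.mk H.prime
  set P := zpowers x ⊔ zpowers y
  have hpg : ∀ z : G, z ^ r = 1 → IsPGroup r (zpowers z) := by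
    intro z hz
    rcases (Nat.dvd_prime H.prime).1 (orderOf_dvd_of_pow_eq_one hz) with e1 | e1
    · exact IsPGroup.of_card (n := 0) (by rw [Nat.card_zpowers, e1, pow_zero])
    · exact IsPGroup.of_card (n := 1) (by rw [Nat.card_zpowers, e1, pow_one])
  have hP : IsPGroup r P := IsPGroup.to_sup_of_normal_right' (hpg x (hxo ▸ pow_orderOf_eq_one x)) (hpg y hyr)
    (zpowers_le.2 (mem_normalizer_finite fun z hz => by
      obtain ⟨k, rfl⟩ := hz
      rw [(hxy.zpow_right k).eq, mul_inv_cancel_right]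
      exact zpow_mem (mem_zpowers y) k))
  have hPe : ∀ g ∈ P, Commute g e := by
    have hle : P ≤ centralizer ({e} : Set G) := sup_le (zpowers_le.2 (mem_centralizer_singleton_iff.2 hx.eq))
      (zpowers_le.2 (mem_centralizer_singleton_iff.2 hy.eq))
    exact fun g hg => mem_centralizer_singleton_iff.1 (hle hg)
  exact mem_zpowers_of_cyclic (H.cyclic_of_cent he hP hPe) (le_sup_left (a := zpowers x) (mem_zpowers x)) hxo
    (le_sup_right (a := zpowers x) (mem_zpowers y)) hyr

/-- The odd core of the centralizer of `a`. -/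
theorem exists_oddCore : ∃ K : Subgroup G, Odd (Nat.card K) ∧ ∀ g, g ∈ K ↔ Commute g a ∧ Odd (orderOf g) := by
  haveI := Fact.mk Nat.prime_two
  have h3 := H.three_le
  set Y : Subgroup G := centralizer ({a} : Set G)
  have hY : ∀ g, g ∈ Y ↔ Commute g a := fun g => mem_centralizer_singleton_iff
  set σ' : Y := ⟨σ, (hY σ).2 H.comm_σa⟩
  have hσ' : orderOf σ' = 2 ^ v := by rw [← H.order_σ]; exact (Subgroup.orderOf_coe σ').symm
  have hσp : IsPGroup 2 (zpowers σ') := IsPGroup.of_card (n := v) (by rw [Nat.card_zpowers, hσ'])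
  obtain ⟨P, hP⟩ := hσp.exists_le_sylow
  haveI : Nontrivial (P : Subgroup Y) :=
    ⟨⟨σ', hP (mem_zpowers σ')⟩, 1, fun e => by
      have e1 : σ' = 1 := congrArg Subtype.val e
      rw [e1, orderOf_one] at hσ'
      have h1 : 1 < 2 ^ v := Nat.one_lt_two_pow (by omega)
      omega⟩
  have hne : (⊤ : Subgroup (P : Subgroup Y)) ≠ ⊥ := top_ne_bot
  obtain ⟨z, -, hzc, hzo⟩ := PGroup.exists_central_order_p P.isPGroup' hne
  have hzσ : Commute (z : Y) σ' :=
    (congrArg Subtype.val (mem_center_iff.1 hzc ⟨σ', hP (mem_zpowers σ')⟩)).symm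
  have hzt : ((z : Y) : G) = t := by
    have h1 : Commute ((z : Y) : G) σ := congrArg Subtype.val hzσ.eq
    refine H.involution_T (H.cent_a _ (H.t_eq ▸ h1.pow_right _) ((hY _).1 (z : Y).2)) ?_
    rw [Subgroup.orderOf_coe, Subgroup.orderOf_coe, hzo]
  have hPT : ∀ g ∈ (P : Subgroup Y), (g : G) ∈ T := by
    intro g hg
    refine H.cent_a _ ?_ ((hY _).1 g.2)
    rw [← hzt]
    exact congrArg (fun x : (P : Subgroup Y) => ((x : Y) : G)) (mem_center_iff.1 hzc ⟨g, hg⟩)
  have hPc : IsCyclic (P : Subgroup Y) := by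
    haveI := H.cyclic
    exact isCyclic_of_injective
      (MonoidHom.mk' (fun g : (P : Subgroup Y) => (⟨((g : Y) : G), hPT _ g.2⟩ : T)) fun _ _ => rfl)
      fun x y e => Subtype.ext (Subtype.ext (congrArg (fun u : T => (u : G)) e))
  have heven : 2 ∣ Nat.card Y := by
    refine (dvd_pow_self 2 (by omega : v ≠ 0)).trans ?_
    rw [← hσ']; exact orderOf_dvd_natCard σ'
  have hmin : (Nat.card Y).minFac = 2 := (Nat.minFac_eq_two_iff _).2 heven
  have hN : Subgroup.normalizer ((P : Subgroup Y) : Set Y) ≤ centralizer (P : Set Y) :=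
    IsCyclic.normalizer_le_centralizer hmin hPc
  set f := MonoidHom.transferSylow P hN
  have hodd : ¬ 2 ∣ Nat.card f.ker := MonoidHom.not_dvd_card_ker_transferSylow P hN
  have hcard : Nat.card (f.ker.map Y.subtype) = Nat.card f.ker := card_map_of_injective Y.subtype_injective
  have hoddK : Odd (Nat.card f.ker) := Nat.not_even_iff_odd.1 fun e => hodd (even_iff_two_dvd.1 e)
  refine ⟨f.ker.map Y.subtype, hcard ▸ hoddK, fun g => ⟨?_, fun ⟨hg, hgo⟩ => ?_⟩⟩
  · rintro ⟨x, hx, rfl⟩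
    exact ⟨(hY _).1 x.2, hoddK.of_dvd_nat (by
      show orderOf (x : G) ∣ _
      rw [Subgroup.orderOf_coe]; exact f.ker.orderOf_dvd_natCard hx)⟩
  · refine ⟨⟨g, (hY g).2 hg⟩, ?_, rfl⟩
    rw [SetLike.mem_coe, MonoidHom.mem_ker, ← orderOf_eq_one_iff]
    set x : Y := ⟨g, (hY g).2 hg⟩
    obtain ⟨k, hk⟩ := IsPGroup.iff_orderOf.1 P.isPGroup' (f x)
    have h1 : orderOf (f x) ∣ orderOf x := orderOf_map_dvd f x
    have hxg : orderOf x = orderOf g := (Subgroup.orderOf_coe x).symm
    rw [hxg] at h1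
    rcases Nat.eq_zero_or_pos k with rfl | hk0
    · rw [hk, pow_zero]
    · exfalso
      have h2 : Odd (orderOf (f x)) := hgo.of_dvd_nat h1
      rw [hk] at h2
      exact Nat.not_odd_iff_even.2 (Nat.even_pow.2 ⟨even_two, hk0.ne'⟩) h2

theorem w_norm_σ : w ∈ normalizer (zpowers σ : Set G) :=
  mem_normalizer_finite fun x hx => by
    obtain ⟨k, rfl⟩ := hx
    rw [← conj_zpow, H.w_conj_σ]
    refine zpow_mem (mul_mem (inv_mem (mem_zpowers σ)) ?_) k
    rw [← H.t_eq]; exact npow_mem_zpowers σ _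

/-- The `2`-group `⟨σ, w⟩`. -/
theorem isPGroup_sd : IsPGroup 2 (zpowers w ⊔ zpowers σ : Subgroup G) :=
  IsPGroup.to_sup_of_normal_right'
    (IsPGroup.of_card (n := 1) (by rw [Nat.card_zpowers, H.order_w, pow_one]))
    (IsPGroup.of_card (n := v) (by rw [Nat.card_zpowers, H.order_σ]))
    (zpowers_le.2 H.w_norm_σ)

theorem conj_a_σ : σ * a * σ⁻¹ = a := by rw [H.comm_σa.eq, mul_inv_cancel_right]

/-- A non-cyclic Sylow `r`-subgroup of the centralizer of `a`, normalized by `⟨σ, w⟩`. -/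
theorem exists_sylow (hlt : (Nat.card (centralizer ({t} : Set G))).factorization r < (Nat.card G).factorization r) :
    ∃ K S : Subgroup G, Odd (Nat.card K) ∧ (∀ g, g ∈ K ↔ Commute g a ∧ Odd (orderOf g)) ∧
      Signalizer.IsSylowIn r K S ∧ (zpowers w ⊔ zpowers σ ≤ normalizer (K : Set G)) ∧
      (zpowers w ⊔ zpowers σ ≤ normalizer (S : Set G)) ∧ a ∈ S ∧ ¬ IsCyclic S := by
  haveI := Fact.mk Nat.prime_two
  haveI := Fact.mk H.prime
  obtain ⟨K, hK, hKmem⟩ := H.exists_oddCore
  have hnorm : ∀ g, g * a * g⁻¹ ∈ zpowers a → g ∈ normalizer (K : Set G) := by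
    intro g hg
    refine mem_normalizer_finite fun x hx => (hKmem _).2 ⟨?_, ?_⟩
    · obtain ⟨hx1, -⟩ := (hKmem x).1 hx
      obtain ⟨k, hk⟩ := hg
      -- `g x g⁻¹` commutes with the generator `g a g⁻¹` of `⟨a⟩`
      have hne : g * a * g⁻¹ ≠ 1 := fun e => H.a_ne_one (conj_eq_one_iff.1 e)
      have ho : orderOf (g * a * g⁻¹) = r :=
        orderOf_eq_prime (by rw [conj_pow, H.a_pow]; simp) hne
      have ha : a ∈ zpowers (g * a * g⁻¹) := by
        have : zpowers (g * a * g⁻¹) = zpowers a := eq_of_le_of_card_ge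
          (zpowers_le.2 ⟨k, hk⟩) (by rw [Nat.card_zpowers, Nat.card_zpowers, ho, H.order_a])
        rw [this]; exact mem_zpowers a
      obtain ⟨j, hj⟩ := ha
      rw [← hj]
      exact (hx1.map (MulAut.conj g).toMonoidHom).zpow_right j
    · have e : orderOf (g * x * g⁻¹) = orderOf x :=
        orderOf_injective (MulAut.conj g).toMonoidHom (MulAut.conj g).injective x
      rw [e]; exact ((hKmem x).1 hx).2
  have hWK : zpowers w ⊔ zpowers σ ≤ normalizer (K : Set G) :=
    sup_le (zpowers_le.2 (hnorm w (by rw [H.w_conj_a]; exact inv_mem (mem_zpowers a))))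
      (zpowers_le.2 (hnorm σ (by rw [H.conj_a_σ]; exact mem_zpowers a)))
  obtain ⟨S, hS, hSA⟩ := Signalizer.exists_invariant_sylow (q := r) H.isPGroup_sd K
    (fun e => Nat.not_even_iff_odd.2 hK (even_iff_two_dvd.2 e)) hWK
  have haK : a ∈ K := (hKmem a).2 ⟨Commute.refl a, odd_orderOf_of_pow H.prime H.r_ne_two H.a_pow⟩
  -- an element of order `r` in `K` commuting with `S` lies in `S`
  have habsorb : ∀ z ∈ K, orderOf z = r → (∀ x ∈ S, Commute z x) → z ∈ S := by
    intro z hz hzo hc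
    have h1 : IsPGroup r (zpowers z) := IsPGroup.of_card (n := 1) (by rw [Nat.card_zpowers, hzo, pow_one])
    have h2 := IsPGroup.to_sup_of_normal_right' h1 hS.2.1
      (zpowers_le.2 (mem_normalizer_finite fun x hx => by rwa [(hc x hx).eq, mul_inv_cancel_right]))
    have h3 := hS.eq_of_le le_sup_right (sup_le (zpowers_le.2 hz) hS.1) h2
    rw [← h3]; exact le_sup_left (a := zpowers z) (mem_zpowers z)
  have haS : a ∈ S := habsorb a haK H.order_a fun x hx => ((hKmem x).1 (hS.1 hx)).1.symm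
  refine ⟨K, S, hK, hKmem, hS, hWK, hSA, haS, fun hcyc => ?_⟩
  -- a cyclic `S` would centralize `t`
  have htn : t ∈ normalizer (S : Set G) :=
    hSA (le_sup_right (a := zpowers w) (H.t_eq ▸ npow_mem_zpowers σ _))
  have hSt : ∀ x ∈ S, Commute x t := by
    intro x hx
    set u := x⁻¹ * (t * x * t⁻¹) with hu
    have huS : u ∈ S := mul_mem (inv_mem hx) ((mem_normalizer_iff.1 htn x).1 hx)
    have hut : t * u * t⁻¹ = u⁻¹ := by
      simp only [hu, H.inv_t, mul_inv_rev, inv_inv, mul_assoc, H.mul_self_t, mul_one]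
    by_cases hu1 : u = 1
    · rw [hu, inv_mul_eq_one, eq_mul_inv_iff_mul_eq] at hu1
      exact hu1
    exfalso
    obtain ⟨k, hk⟩ := IsPGroup.iff_orderOf.1 hS.2.1 ⟨u, huS⟩
    rw [Subgroup.orderOf_mk] at hk
    obtain ⟨j, rfl⟩ : ∃ j, k = j + 1 := ⟨k - 1, by
      rcases k with _ | k
      · exact absurd (orderOf_eq_one_iff.1 (by rwa [pow_zero] at hk)) hu1
      · rfl⟩
    set z := u ^ r ^ j
    have hzo : orderOf z = r := by
      rw [orderOf_pow' u (pow_ne_zero _ H.prime.ne_zero), hk, Nat.gcd_eq_right (pow_dvd_pow r (Nat.le_succ j)),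
        pow_succ, Nat.mul_div_cancel_left _ (pow_pos H.prime.pos j)]
    obtain ⟨i, hi⟩ := mem_zpowers_of_cyclic hcyc haS H.order_a (pow_mem huS _) (hzo ▸ pow_orderOf_eq_one z)
    have hi' : a ^ i = z := hi
    have h1 : t * z * t⁻¹ = z := by rw [← hi', ((H.comm_at.symm.zpow_right i)).eq, mul_inv_cancel_right]
    have h2 : t * z * t⁻¹ = z⁻¹ := by
      show t * u ^ r ^ j * t⁻¹ = _
      rw [← conj_pow, hut, inv_pow]
    have h3 : z ^ 2 = 1 := by rw [pow_two]; nth_rw 1 [← h1, h2]; exact inv_mul_cancel z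
    have h4 := orderOf_dvd_of_pow_eq_one h3
    rw [hzo] at h4
    exact H.r_ne_two ((Nat.prime_dvd_prime_iff_eq H.prime Nat.prime_two).1 h4)
  obtain ⟨P, hP⟩ := hS.2.1.exists_le_sylow
  haveI : Nontrivial (P : Subgroup G) :=
    ⟨⟨a, hP haS⟩, 1, fun e => H.a_ne_one (congrArg Subtype.val e)⟩
  obtain ⟨z, -, hzc, hzo⟩ := PGroup.exists_central_order_p P.isPGroup' (top_ne_bot (α := Subgroup (P : Subgroup G)))
  have hzP : ∀ x ∈ (P : Subgroup G), Commute (z : G) x := fun x hx =>
    (congrArg Subtype.val (mem_center_iff.1 hzc ⟨x, hx⟩)).symm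
  have hzo' : orderOf (z : G) = r := by rw [Subgroup.orderOf_coe, hzo]
  have hzK : (z : G) ∈ K := (hKmem _).2 ⟨hzP a (hP haS),
    odd_orderOf_of_pow H.prime H.r_ne_two (orderOf_dvd_iff_pow_eq_one.1 hzo'.dvd)⟩
  have hzS : (z : G) ∈ S := habsorb _ hzK hzo' fun x hx => hzP x (hP hx)
  obtain ⟨i, hi⟩ := mem_zpowers_of_cyclic hcyc hzS hzo' haS H.a_pow
  have hPK : (P : Subgroup G) ≤ K := fun x hx => (hKmem x).2 ⟨by
      rw [← hi]; exact ((hzP x hx).symm.zpow_right i), by
      obtain ⟨k, hk⟩ := IsPGroup.iff_orderOf.1 P.isPGroup' ⟨x, hx⟩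
      rw [Subgroup.orderOf_mk] at hk
      rw [hk]; exact (H.prime.odd_of_ne_two H.r_ne_two).pow⟩
  have hPS : (P : Subgroup G) = S := hS.eq_of_le hP hPK P.isPGroup'
  have hdvd : Nat.card S ∣ Nat.card (centralizer ({t} : Set G)) :=
    card_dvd_of_le fun x hx => mem_centralizer_singleton_iff.2 (hSt x hx).eq
  rw [← hPS, P.card_eq_multiplicity, H.prime.pow_dvd_iff_le_factorization Nat.card_pos.ne'] at hdvd
  omega

end TorusHyp

end Cfsg.Agent.U3Order
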