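import Cfsg.Agent.EqLemmas

/-!
# The order step of `PSU₃(q)`: matrices commuting with `diag(1,-1,-1)` (owner: helper40)

* `IsBlock` : the matrices commuting with `diag(1,-1,-1)`
* `sd_entries` : the entries of a semidihedral generator
* `torus_inverted`, `torus_regular`, `block_of_intertwine` : the torus elements
* `row_or_col`, `row_zero`, `col_zero` : transvections inverted by `diag(1,-1,-1)`
-/

set_option autoImplicit false
set_option linter.unusedSectionVars false

namespace Cfsg.Agent.U3Order

open Matrix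

variable {F : Type*} [Field F]

/-- The matrix of `t`. -/
def tMat {R : Type*} [CommRing R] : Matrix (Fin 3) (Fin 3) R := diagonal ![1, -1, -1]

/-- The matrix of `w`. -/
def wMat {R : Type*} [CommRing R] : Matrix (Fin 3) (Fin 3) R := diagonal ![-1, 1, -1]

/-- Block form `1 + 2`. -/
def IsBlock {R : Type*} [CommRing R] (M : Matrix (Fin 3) (Fin 3) R) : Prop := M 0 1 = 0 ∧ M 0 2 = 0 ∧ M 1 0 = 0 ∧ M 2 0 = 0

theorem isBlock_iff (h2 : (2 : F) ≠ 0) (M : Matrix (Fin 3) (Fin 3) F) : IsBlock M ↔ M * tMat = tMat * M := by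
  constructor
  · rintro ⟨a, b, c, d⟩
    ext i j
    fin_cases i <;> fin_cases j <;> simp [tMat, a, b, c, d]
  · intro h
    have key : ∀ i j, M i j * ![(1 : F), -1, -1] j = ![(1 : F), -1, -1] i * M i j := fun i j => by
      simpa [tMat, Matrix.mul_diagonal, Matrix.diagonal_mul] using congrFun (congrFun h i) j
    have h01 := key 0 1
    have h02 := key 0 2
    have h10 := key 1 0
    have h20 := key 2 0
    simp at h01 h02 h10 h20
    exact ⟨mul_left_cancel₀ h2 (by linear_combination -h01), mul_left_cancel₀ h2 (by linear_combination -h02),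
      mul_left_cancel₀ h2 (by linear_combination h10), mul_left_cancel₀ h2 (by linear_combination h20)⟩

theorem IsBlock.eq {M : Matrix (Fin 3) (Fin 3) F} (h : IsBlock M) :
    M = !![M 0 0, 0, 0; 0, M 1 1, M 1 2; 0, M 2 1, M 2 2] := by
  obtain ⟨a, b, c, d⟩ := h
  ext i j
  fin_cases i <;> fin_cases j <;> simp [a, b, c, d]

theorem one_add_pow {N : Matrix (Fin 3) (Fin 3) F} (h : N * N = 0) (n : ℕ) : (1 + N) ^ n = 1 + (n : F) • N := by
  induction n with
  | zero => simp
  | succ n ih =>
    rw [pow_succ, ih]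
    simp only [mul_add, add_mul, mul_one, one_mul, Matrix.smul_mul, h, smul_zero, add_zero, Nat.cast_add,
      Nat.cast_one, add_smul, one_smul]
    abel

theorem sd_entries (h2 : (2 : F) ≠ 0) {S : Matrix (Fin 3) (Fin 3) F} (hS : IsBlock S) (h00 : S 0 0 = 1)
    (heq : S * (wMat * S * wMat) = tMat) (hne : S * S ≠ tMat) {k : ℕ} (hpow : S ^ (4 * 2 ^ k) = 1) :
    S 1 1 = S 2 2 ∧ S 1 2 ≠ 0 ∧ S 2 1 ≠ 0 ∧ S.det = -1 := by
  set α := S 1 1 with hα
  set β := S 1 2 with hβ
  set γ := S 2 1 with hγ
  set δ := S 2 2 with hδ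
  have hSe : S = !![1, 0, 0; 0, α, β; 0, γ, δ] := by rw [hS.eq, h00]
  have e11 : α * α - β * γ = -1 := by
    have := congrFun (congrFun heq 1) 1
    rw [hSe] at this
    simp [tMat, wMat, Matrix.mul_apply, Fin.sum_univ_three] at this
    linear_combination this
  have e22 : δ * δ - γ * β = -1 := by
    have := congrFun (congrFun heq 2) 2
    rw [hSe] at this
    simp [tMat, wMat, Matrix.mul_apply, Fin.sum_univ_three] at this
    linear_combination this
  have e12 : β * (δ - α) = 0 := by
    have := congrFun (congrFun heq 1) 2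
    rw [hSe] at this
    simp [tMat, wMat, Matrix.mul_apply, Fin.sum_univ_three] at this
    linear_combination this
  have e21 : γ * (α - δ) = 0 := by
    have := congrFun (congrFun heq 2) 1
    rw [hSe] at this
    simp [tMat, wMat, Matrix.mul_apply, Fin.sum_univ_three] at this
    linear_combination this
  have hk : ((2 ^ k : ℕ) : F) ≠ 0 := by push_cast; exact pow_ne_zero _ h2
  have hnil : ∀ N : Matrix (Fin 3) (Fin 3) F, N * N = 0 → S * S * (S * S) = 1 + N → N = 0 := by
    intro N hN e
    have h4 : S ^ 4 = 1 + N := by rw [← e, pow_succ, pow_succ, pow_two]; simp only [mul_assoc]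
    rw [pow_mul, h4, one_add_pow hN] at hpow
    exact (smul_eq_zero.1 (add_eq_left.1 hpow)).resolve_left hk
  have hboth : ¬ (β = 0 ∧ γ = 0) := by
    rintro ⟨hb, hc⟩
    apply hne
    rw [hSe, hb, hc]
    rw [hb] at e11 e22
    ext i j
    fin_cases i <;> fin_cases j <;> simp [tMat, Matrix.mul_apply, Fin.sum_univ_three] <;>
      first
        | linear_combination e11
        | linear_combination e22
  have heq' : α = δ := by
    by_cases hb : β = 0
    · exact sub_eq_zero.1 ((mul_eq_zero.1 e21).resolve_left fun hc => hboth ⟨hb, hc⟩)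
    · exact (sub_eq_zero.1 ((mul_eq_zero.1 e12).resolve_left hb)).symm
  have h4 : (2 : F) * 2 ≠ 0 := mul_ne_zero h2 h2
  have hβ0 : β ≠ 0 := fun hb => by
    have hα2 : α * α = -1 := by rw [hb] at e11; linear_combination e11
    have hα0 : α ≠ 0 := fun e => by rw [e, zero_mul] at hα2; exact one_ne_zero (neg_eq_zero.1 hα2.symm)
    have e := hnil !![0, 0, 0; 0, 0, 0; 0, -(2 * 2 * α * γ), 0]
      (by ext i j; fin_cases i <;> fin_cases j <;> simp [Matrix.mul_apply, Fin.sum_univ_three])
      (by
        rw [hSe, hb, ← heq']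
        ext i j
        fin_cases i <;> fin_cases j <;> simp [Matrix.mul_apply, Fin.sum_univ_three] <;>
          first
            | linear_combination (α * α - 1) * hα2
            | linear_combination (4 * α * γ) * hα2)
    have h := congrFun (congrFun e 2) 1
    simp at h
    rcases h with (h | h) | h
    · exact absurd h h2
    · exact absurd h hα0
    · exact hboth ⟨hb, h⟩
  have hγ0 : γ ≠ 0 := fun hc => by
    have hα2 : α * α = -1 := by rw [hc] at e11; linear_combination e11
    have hα0 : α ≠ 0 := fun e => by rw [e, zero_mul] at hα2; exact one_ne_zero (neg_eq_zero.1 hα2.symm)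
    have e := hnil !![0, 0, 0; 0, 0, -(2 * 2 * α * β); 0, 0, 0]
      (by ext i j; fin_cases i <;> fin_cases j <;> simp [Matrix.mul_apply, Fin.sum_univ_three])
      (by
        rw [hSe, hc, ← heq']
        ext i j
        fin_cases i <;> fin_cases j <;> simp [Matrix.mul_apply, Fin.sum_univ_three] <;>
          first
            | linear_combination (α * α - 1) * hα2
            | linear_combination (4 * α * β) * hα2)
    have h := congrFun (congrFun e 1) 2
    simp at h
    rcases h with (h | h) | h
    · exact absurd h h2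
    · exact absurd h hα0
    · exact hboth ⟨h, hc⟩
  refine ⟨heq', hβ0, hγ0, ?_⟩
  rw [hSe, Matrix.det_fin_three]
  simp
  rw [← heq']
  linear_combination e11

/-- Torus elements of determinant one are inverted by `w`. -/
theorem torus_inverted {S K : Matrix (Fin 3) (Fin 3) F} (hS : IsBlock S) (hα : S 1 1 = S 2 2)
    (hβ : S 1 2 ≠ 0) (hK : IsBlock K) (h00 : K 0 0 = 1) (hcomm : K * S = S * K) (hdet : K.det = 1) :
    K * (wMat * K * wMat) = 1 := by
  have h12 := congrFun (congrFun hcomm 1) 2
  rw [hK.eq, hS.eq] at h12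
  simp [Matrix.mul_apply, Fin.sum_univ_three] at h12
  have hd : K 1 1 = K 2 2 := by
    refine mul_left_cancel₀ hβ ?_
    linear_combination h12 + (K 1 2) * hα
  rw [hK.eq, h00, Matrix.det_fin_three] at hdet
  simp at hdet
  rw [hK.eq, h00]
  ext i j
  fin_cases i <;> fin_cases j <;> simp [wMat, Matrix.mul_apply, Fin.sum_univ_three] <;>
    first
      | linear_combination hdet
      | linear_combination hdet + (K 1 1) * hd
      | linear_combination hdet - (K 2 2) * hd
      | linear_combination (-K 1 2) * hd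
      | linear_combination (K 2 1) * hd

/-- A torus element of determinant one different from `1` has no fixed vector in the plane. -/
theorem torus_regular (h2 : (2 : F) ≠ 0) {S K : Matrix (Fin 3) (Fin 3) F} (hS : IsBlock S)
    (hα : S 1 1 = S 2 2) (hβ : S 1 2 ≠ 0) (hγ : S 2 1 ≠ 0) (hK : IsBlock K) (h00 : K 0 0 = 1)
    (hcomm : K * S = S * K) (hdet : K.det = 1) (hne : K ≠ 1) :
    (K 1 1 - 1) * (K 2 2 - 1) - K 1 2 * K 2 1 ≠ 0 := by
  have h12 := congrFun (congrFun hcomm 1) 2
  have h11 := congrFun (congrFun hcomm 1) 1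
  rw [hK.eq, hS.eq] at h12 h11
  simp [Matrix.mul_apply, Fin.sum_univ_three] at h12 h11
  have hd : K 1 1 = K 2 2 := by
    refine mul_left_cancel₀ hβ ?_
    linear_combination h12 + (K 1 2) * hα
  rw [hK.eq, h00, Matrix.det_fin_three] at hdet
  simp at hdet
  intro e
  apply hne
  have ha : K 1 1 = 1 := by
    refine mul_left_cancel₀ h2 ?_
    linear_combination hdet - e + hd
  have hd1 : K 2 2 = 1 := by rw [← hd, ha]
  rw [ha, hd1] at hdet
  have hb : K 1 2 = 0 := by
    rcases mul_eq_zero.1 (show K 1 2 * K 2 1 = 0 by linear_combination -hdet) with h | h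
    · exact h
    · rw [h, mul_zero] at h11
      exact (mul_eq_zero.1 (show K 1 2 * S 2 1 = 0 by linear_combination h11)).resolve_right hγ
  have hc : K 2 1 = 0 := by
    rw [hb, zero_mul] at h11
    exact (mul_eq_zero.1 (show S 1 2 * K 2 1 = 0 by linear_combination -h11)).resolve_left hβ
  rw [hK.eq, h00, ha, hd1, hb, hc]
  ext i j
  fin_cases i <;> fin_cases j <;> simp

theorem det_two_solve {a b c d x y : F} (h : a * d - b * c ≠ 0) (h1 : a * x + b * y = 0)
    (h2 : c * x + d * y = 0) : x = 0 ∧ y = 0 :=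
  ⟨(mul_eq_zero.1 (show (a * d - b * c) * x = 0 by linear_combination d * h1 - b * h2)).resolve_left h,
    (mul_eq_zero.1 (show (a * d - b * c) * y = 0 by linear_combination a * h2 - c * h1)).resolve_left h⟩

/-- An intertwiner of two such torus elements is a block matrix. -/
theorem block_of_intertwine {K K' g : Matrix (Fin 3) (Fin 3) F} (hK : IsBlock K) (h00 : K 0 0 = 1)
    (hKr : (K 1 1 - 1) * (K 2 2 - 1) - K 1 2 * K 2 1 ≠ 0) (hK' : IsBlock K') (h00' : K' 0 0 = 1)
    (hKr' : (K' 1 1 - 1) * (K' 2 2 - 1) - K' 1 2 * K' 2 1 ≠ 0) (h : g * K' = K * g) : IsBlock g := by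
  have h01 := congrFun (congrFun h 0) 1
  have h02 := congrFun (congrFun h 0) 2
  have h10 := congrFun (congrFun h 1) 0
  have h20 := congrFun (congrFun h 2) 0
  rw [hK.eq, hK'.eq] at h01 h02 h10 h20
  simp [Matrix.mul_apply, Fin.sum_univ_three, h00, h00'] at h01 h02 h10 h20
  obtain ⟨a, b⟩ := det_two_solve (a := K' 1 1 - 1) (b := K' 2 1) (c := K' 1 2) (d := K' 2 2 - 1)
    (x := g 0 1) (y := g 0 2) (by intro e; apply hKr'; linear_combination e)
    (by linear_combination h01) (by linear_combination h02)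
  obtain ⟨c, d⟩ := det_two_solve (a := K 1 1 - 1) (b := K 1 2) (c := K 2 1) (d := K 2 2 - 1)
    (x := g 1 0) (y := g 2 0) hKr (by linear_combination -h10) (by linear_combination -h20)
  exact ⟨a, b, c, d⟩

/-- The row shape. -/
def IsRow (N : Matrix (Fin 3) (Fin 3) F) : Prop := ∃ p s, N = !![0, p, s; 0, 0, 0; 0, 0, 0]

/-- The column shape. -/
def IsCol (N : Matrix (Fin 3) (Fin 3) F) : Prop := ∃ p s, N = !![0, 0, 0; p, 0, 0; s, 0, 0]

theorem row_or_col (h2 : (2 : F) ≠ 0) {N : Matrix (Fin 3) (Fin 3) F} (hN : N * N = 0)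
    (h : tMat * N = -(N * tMat)) : IsRow N ∨ IsCol N := by
  have key : ∀ i j, (![(1 : F), -1, -1] i + ![(1 : F), -1, -1] j) * N i j = 0 := fun i j => by
    have := congrFun (congrFun h i) j
    simp [tMat, Matrix.mul_diagonal, Matrix.diagonal_mul] at this
    linear_combination this
  have h00 : N 0 0 = 0 := by have := key 0 0; simp at this; exact this.resolve_left fun e => h2 (by linear_combination e)
  have h11 : N 1 1 = 0 := by have := key 1 1; simp at this; exact this.resolve_left fun e => h2 (by linear_combination -e)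
  have h12 : N 1 2 = 0 := by have := key 1 2; simp at this; exact this.resolve_left fun e => h2 (by linear_combination -e)
  have h21 : N 2 1 = 0 := by have := key 2 1; simp at this; exact this.resolve_left fun e => h2 (by linear_combination -e)
  have h22 : N 2 2 = 0 := by have := key 2 2; simp at this; exact this.resolve_left fun e => h2 (by linear_combination -e)
  have a := congrFun (congrFun hN 1) 1
  have b := congrFun (congrFun hN 1) 2
  have c := congrFun (congrFun hN 2) 1
  have d := congrFun (congrFun hN 2) 2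
  simp [Matrix.mul_apply, Fin.sum_univ_three, h11, h12, h21, h22] at a b c d
  by_cases hz : N 0 1 = 0 ∧ N 0 2 = 0
  · right
    refine ⟨N 1 0, N 2 0, ?_⟩
    ext i j
    fin_cases i <;> fin_cases j <;> simp [h00, h11, h12, h21, h22, hz.1, hz.2]
  · left
    have h10 : N 1 0 = 0 := by tauto
    have h20 : N 2 0 = 0 := by tauto
    refine ⟨N 0 1, N 0 2, ?_⟩
    ext i j
    fin_cases i <;> fin_cases j <;> simp [h00, h11, h12, h21, h22, h10, h20]

theorem IsRow.conj {g g' N : Matrix (Fin 3) (Fin 3) F} (hN : IsRow N) (hg : IsBlock g) (hg' : IsBlock g') :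
    IsRow (g * N * g') := by
  obtain ⟨p, s, rfl⟩ := hN
  refine ⟨g 0 0 * p * g' 1 1 + g 0 0 * s * g' 2 1, g 0 0 * p * g' 1 2 + g 0 0 * s * g' 2 2, ?_⟩
  rw [hg.eq, hg'.eq]
  ext i j
  fin_cases i <;> fin_cases j <;> simp [Matrix.mul_apply, Fin.sum_univ_three]

theorem IsCol.conj {g g' N : Matrix (Fin 3) (Fin 3) F} (hN : IsCol N) (hg : IsBlock g) (hg' : IsBlock g') :
    IsCol (g * N * g') := by
  obtain ⟨p, s, rfl⟩ := hN
  refine ⟨g 1 1 * p * g' 0 0 + g 1 2 * s * g' 0 0, g 2 1 * p * g' 0 0 + g 2 2 * s * g' 0 0, ?_⟩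
  rw [hg.eq, hg'.eq]
  ext i j
  fin_cases i <;> fin_cases j <;> simp [Matrix.mul_apply, Fin.sum_univ_three] <;> ring

theorem IsRow.mul_eq_zero {N N' : Matrix (Fin 3) (Fin 3) F} (hN : IsRow N) (hN' : IsRow N') : N * N' = 0 := by
  obtain ⟨p, s, rfl⟩ := hN
  obtain ⟨p', s', rfl⟩ := hN'
  ext i j
  fin_cases i <;> fin_cases j <;> simp [Matrix.mul_apply, Fin.sum_univ_three]

theorem IsCol.mul_eq_zero {N N' : Matrix (Fin 3) (Fin 3) F} (hN : IsCol N) (hN' : IsCol N') : N * N' = 0 := by
  obtain ⟨p, s, rfl⟩ := hN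
  obtain ⟨p', s', rfl⟩ := hN'
  ext i j
  fin_cases i <;> fin_cases j <;> simp [Matrix.mul_apply, Fin.sum_univ_three]

/-- A row line invariant under `w` and the semidihedral generator is zero. -/
theorem row_zero (h2 : (2 : F) ≠ 0) {S N : Matrix (Fin 3) (Fin 3) F} {i j : F} (hS : IsBlock S)
    (h00 : S 0 0 = 1) (hβ : S 1 2 ≠ 0) (hγ : S 2 1 ≠ 0) (hN : IsRow N)
    (hw : wMat * N = (i • N) * wMat) (hs : S * N = (j • N) * S) : N = 0 := by
  obtain ⟨p, s, rfl⟩ := hN
  have a := congrFun (congrFun hw 0) 1
  have b := congrFun (congrFun hw 0) 2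
  have c := congrFun (congrFun hs 0) 1
  have d := congrFun (congrFun hs 0) 2
  rw [hS.eq] at c d
  simp [wMat, Matrix.mul_apply, Fin.sum_univ_three, h00] at a b c d
  rcases mul_eq_zero.1 (show (2 * p) * s = 0 by linear_combination p * b - s * a) with h | h
  · have hp : p = 0 := (mul_eq_zero.1 h).resolve_left h2
    subst hp
    have hs0 : s = 0 := by
      rcases mul_eq_zero.1 (show (j * s) * S 2 1 = 0 by linear_combination -c) with h' | h'
      · rcases mul_eq_zero.1 h' with h'' | h''
        · rw [h''] at d; linear_combination d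
        · exact h''
      · exact absurd h' hγ
    subst hs0
    ext i j; fin_cases i <;> fin_cases j <;> simp
  · subst h
    have hp0 : p = 0 := by
      rcases mul_eq_zero.1 (show (j * p) * S 1 2 = 0 by linear_combination -d) with h' | h'
      · rcases mul_eq_zero.1 h' with h'' | h''
        · rw [h''] at c; linear_combination c
        · exact h''
      · exact absurd h' hβ
    subst hp0
    ext i j; fin_cases i <;> fin_cases j <;> simp

/-- A column line invariant under `w` and the semidihedral generator is zero. -/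
theorem col_zero (h2 : (2 : F) ≠ 0) {S N : Matrix (Fin 3) (Fin 3) F} {i j : F} (hS : IsBlock S)
    (h00 : S 0 0 = 1) (hβ : S 1 2 ≠ 0) (hγ : S 2 1 ≠ 0) (hN : IsCol N)
    (hw : wMat * N = (i • N) * wMat) (hs : S * N = (j • N) * S) : N = 0 := by
  obtain ⟨p, s, rfl⟩ := hN
  have a := congrFun (congrFun hw 1) 0
  have b := congrFun (congrFun hw 2) 0
  have c := congrFun (congrFun hs 1) 0
  have d := congrFun (congrFun hs 2) 0
  rw [hS.eq] at c d
  simp [wMat, Matrix.mul_apply, Fin.sum_univ_three, h00] at a b c d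
  rcases mul_eq_zero.1 (show (2 * p) * s = 0 by linear_combination s * a + p * b) with h | h
  · have hp : p = 0 := (mul_eq_zero.1 h).resolve_left h2
    subst hp
    have hs0 : s = 0 := (mul_eq_zero.1 (show S 1 2 * s = 0 by linear_combination c)).resolve_left hβ
    subst hs0
    ext i j; fin_cases i <;> fin_cases j <;> simp
  · subst h
    have hp0 : p = 0 := (mul_eq_zero.1 (show S 2 1 * p = 0 by linear_combination d)).resolve_left hγ
    subst hp0
    ext i j; fin_cases i <;> fin_cases j <;> simp

end Cfsg.Agent.U3Order
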