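import Cfsg.Agent.Lib.U3Order.TorusFrame
import Cfsg.Agent.Lib.U3Order.WeylBlock

/-!
# The order step of `PSU₃(q)`: coordinates on the elementary group (owner: helper40)

* `crd` : `(i, j, k) ↦ aⁱ bʲ cᵏ`
* `Frame.exists_rep` : conjugation as a representation of the normaliser by `3 × 3` matrices
-/

set_option autoImplicit false
set_option linter.unusedSectionVars false
set_option linter.style.haveILetI false

namespace Cfsg.Agent.U3Order

open Subgroup

variable {G : Type*} [Group G] [Finite G]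

theorem pow_val_add {r : ℕ} [NeZero r] {x : G} (hx : x ^ r = 1) (i j : ZMod r) :
    x ^ (i + j).val = x ^ i.val * x ^ j.val := by
  rw [ZMod.val_add, ← pow_add, ← pow_eq_pow_mod _ hx]

theorem pow_val_intCast {r : ℕ} [NeZero r] {x : G} (hx : x ^ r = 1) (i : ℤ) :
    x ^ ((i : ZMod r)).val = x ^ i := by
  rw [← zpow_natCast, ZMod.val_intCast]
  conv_rhs => rw [← Int.emod_add_mul_ediv i r, zpow_add, zpow_mul, zpow_natCast, hx, one_zpow, mul_one]

/-- Coordinates. -/
def crd {r : ℕ} (a b c : G) (f : Fin 3 → ZMod r) : G := a ^ (f 0).val * b ^ (f 1).val * c ^ (f 2).val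

namespace Frame

variable {t w σ a b c y : G} {T A : Subgroup G} {r v : ℕ}
variable (Fr : Frame t w σ a b c y r A) (H : TorusHyp t w σ a T r v)
include Fr H

theorem pow_b : b ^ r = 1 := Fr.order_b ▸ pow_orderOf_eq_one b

theorem pow_c : c ^ r = 1 := Fr.order_c ▸ pow_orderOf_eq_one c

theorem a_mem : a ∈ A := (Fr.mem_iff a).2 ⟨1, 0, 0, by simp⟩

theorem b_mem : b ∈ A := (Fr.mem_iff b).2 ⟨0, 1, 0, by simp⟩

theorem c_mem : c ∈ A := (Fr.mem_iff c).2 ⟨0, 0, 1, by simp⟩

theorem comm_A {x z : G} (hx : x ∈ A) (hz : z ∈ A) : Commute x z := by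
  obtain ⟨i, j, k, rfl⟩ := (Fr.mem_iff x).1 hx
  obtain ⟨i', j', k', rfl⟩ := (Fr.mem_iff z).1 hz
  have h : ∀ u ∈ ({a, b, c} : Set G), Commute u (a ^ i' * b ^ j' * c ^ k') := by
    rintro u (rfl | rfl | rfl)
    · exact (((Commute.refl u).zpow_right i').mul_right (Fr.ab.zpow_right j')).mul_right (Fr.ac.zpow_right k')
    · exact ((Fr.ab.symm.zpow_right i').mul_right ((Commute.refl u).zpow_right j')).mul_right (Fr.bc.zpow_right k')
    · exact ((Fr.ac.symm.zpow_right i').mul_right (Fr.bc.symm.zpow_right j')).mul_right ((Commute.refl u).zpow_right k')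
  exact (((h a (by simp)).zpow_left i).mul_left ((h b (by simp)).zpow_left j)).mul_left ((h c (by simp)).zpow_left k)

theorem crd_mem (f : Fin 3 → ZMod r) : crd a b c f ∈ A :=
  (Fr.mem_iff _).2 ⟨(f 0).val, (f 1).val, (f 2).val, by simp [crd]⟩

theorem crd_add (f g : Fin 3 → ZMod r) : crd a b c (f + g) = crd a b c f * crd a b c g := by
  haveI : NeZero r := ⟨H.prime.ne_zero⟩
  simp only [crd, Pi.add_apply]
  rw [pow_val_add H.a_pow, pow_val_add (Fr.pow_b H), pow_val_add (Fr.pow_c H)]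
  calc a ^ (f 0).val * a ^ (g 0).val * (b ^ (f 1).val * b ^ (g 1).val) * (c ^ (f 2).val * c ^ (g 2).val)
      = a ^ (f 0).val * (a ^ (g 0).val * b ^ (f 1).val) * (b ^ (g 1).val * c ^ (f 2).val) * c ^ (g 2).val := by
        simp only [mul_assoc]
    _ = a ^ (f 0).val * (b ^ (f 1).val * a ^ (g 0).val) * (c ^ (f 2).val * b ^ (g 1).val) * c ^ (g 2).val := by
        rw [(Fr.ab.pow_pow _ _).eq, (Fr.bc.pow_pow _ _).eq]
    _ = a ^ (f 0).val * b ^ (f 1).val * (a ^ (g 0).val * c ^ (f 2).val) * b ^ (g 1).val * c ^ (g 2).val := by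
        simp only [mul_assoc]
    _ = a ^ (f 0).val * b ^ (f 1).val * (c ^ (f 2).val * a ^ (g 0).val) * b ^ (g 1).val * c ^ (g 2).val := by
        rw [(Fr.ac.pow_pow _ _).eq]
    _ = _ := by simp only [mul_assoc]

theorem crd_eq_one {f : Fin 3 → ZMod r} (h : crd a b c f = 1) : f = 0 := by
  haveI : NeZero r := ⟨H.prime.ne_zero⟩
  set A' := a ^ (f 0).val
  set B' := b ^ (f 1).val
  set C' := c ^ (f 2).val
  have h0 : A' * B' * C' = 1 := h
  have hAr : A' ^ r = 1 := by rw [← pow_mul, mul_comm, pow_mul, H.a_pow, one_pow]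
  have hBr : B' ^ r = 1 := by rw [← pow_mul, mul_comm, pow_mul, Fr.pow_b H, one_pow]
  have tA : t * A' * t⁻¹ = A' := by rw [(H.comm_at.symm.pow_right _).eq, mul_inv_cancel_right]
  have tB : t * B' * t⁻¹ = B'⁻¹ := by rw [← conj_pow, Fr.tb, inv_pow]
  have tC : t * C' * t⁻¹ = C'⁻¹ := by rw [← conj_pow, Fr.tc, inv_pow]
  have h1 : A' * B'⁻¹ * C'⁻¹ = 1 := by
    rw [← tA, ← tB, ← tC]
    calc t * A' * t⁻¹ * (t * B' * t⁻¹) * (t * C' * t⁻¹) = t * (A' * B' * C') * t⁻¹ := by group
      _ = 1 := by rw [h0]; group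
  have hAB : Commute A' B' := Fr.ab.pow_pow _ _
  have hAC : Commute A' C' := Fr.ac.pow_pow _ _
  have hBC : Commute B' C' := Fr.bc.pow_pow _ _
  have hA : A' = 1 := by
    refine H.eq_one_of_sq hAr ?_
    have e1 : A' = C'⁻¹ * B'⁻¹ := by
      rw [← mul_inv_rev]; exact eq_inv_of_mul_eq_one_left (by rw [← mul_assoc]; exact h0)
    have e2 : A' = C' * B' := by
      have := eq_inv_of_mul_eq_one_left (a := A') (b := B'⁻¹ * C'⁻¹) (by rw [← mul_assoc]; exact h1)
      simpa using this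
    calc A' * A' = C'⁻¹ * B'⁻¹ * (C' * B') := by rw [← e1, ← e2]
      _ = 1 := by rw [hBC.symm.eq]; group
  rw [hA, one_mul] at h0
  have hB : B' = 1 := by
    refine H.eq_one_of_sq hBr ?_
    have wB : w * B' * w⁻¹ = B' := by rw [(Fr.bw.symm.pow_right _).eq, mul_inv_cancel_right]
    have wC : w * C' * w⁻¹ = C'⁻¹ := by rw [← conj_pow, Fr.wc, inv_pow]
    have e2 : B' * C'⁻¹ = 1 := by
      rw [← wB, ← wC, show w * B' * w⁻¹ * (w * C' * w⁻¹) = w * (B' * C') * w⁻¹ by group, h0]; group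
    rw [mul_inv_eq_one] at e2
    nth_rw 2 [e2]; exact h0
  rw [hB, one_mul] at h0
  funext i
  have key : ∀ (u : G), orderOf u = r → ∀ n : ZMod r, u ^ n.val = 1 → n = 0 := fun u hu n hn => by
    have h2 := orderOf_dvd_of_pow_eq_one hn
    rw [hu] at h2
    exact (ZMod.val_eq_zero n).1 (Nat.eq_zero_of_dvd_of_lt h2 (ZMod.val_lt n))
  fin_cases i
  · exact key a H.order_a _ hA
  · exact key b Fr.order_b _ hB
  · exact key c Fr.order_c _ h0

theorem exists_crd {x : G} (hx : x ∈ A) : ∃ f : Fin 3 → ZMod r, crd a b c f = x := by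
  haveI : NeZero r := ⟨H.prime.ne_zero⟩
  obtain ⟨i, j, k, rfl⟩ := (Fr.mem_iff x).1 hx
  refine ⟨![(i : ZMod r), (j : ZMod r), (k : ZMod r)], ?_⟩
  simp only [crd, Matrix.cons_val_zero, Matrix.cons_val_one, Matrix.cons_val]
  rw [pow_val_intCast H.a_pow, pow_val_intCast (Fr.pow_b H), pow_val_intCast (Fr.pow_c H)]

/-- Conjugation as a matrix representation of the normaliser. -/
theorem exists_rep : ∃ ρ : ↥(normalizer (A : Set G)) →* GL (Fin 3) (ZMod r),
    (∀ (n : ↥(normalizer (A : Set G))) (j : Fin 3) (f : Fin 3 → ZMod r),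
      (n : G) * crd a b c (Pi.single j (1 : ZMod r) : Fin 3 → ZMod r) * (n : G)⁻¹ = crd a b c f →
      ∀ i, (ρ n : Matrix (Fin 3) (Fin 3) (ZMod r)) i j = f i) ∧
    (∀ n : ↥(normalizer (A : Set G)), ρ n = 1 → ∀ x ∈ A, Commute (n : G) x) := by
  classical
  have hinj : Function.Injective (fun f : Fin 3 → ZMod r => (⟨crd a b c f, Fr.crd_mem H f⟩ : A)) := by
    intro f g e
    have e' : crd a b c f = crd a b c g := congrArg Subtype.val e
    have h := Fr.crd_add H (f - g) g
    rw [sub_add_cancel, e'] at h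
    exact sub_eq_zero.1 (Fr.crd_eq_one H (mul_eq_right.1 h.symm))
  let Φ : (Fin 3 → ZMod r) ≃+ Additive A := AddEquiv.ofBijective
    (AddMonoidHom.mk' (fun f => Additive.ofMul (⟨crd a b c f, Fr.crd_mem H f⟩ : A))
      (fun f g => congrArg Additive.ofMul (Subtype.ext (Fr.crd_add H f g))))
    ⟨fun f g e => hinj (Additive.ofMul.injective e), fun x => by
      obtain ⟨f, hf⟩ := Fr.exists_crd H (Additive.toMul x).2
      exact ⟨f, congrArg Additive.ofMul (Subtype.ext hf)⟩⟩
  let cj : ↥(normalizer (A : Set G)) → Additive A →+ Additive A := fun n =>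
    MonoidHom.toAdditive (A.normalizerMonoidHom n).toMonoidHom
  let L : ↥(normalizer (A : Set G)) → ((Fin 3 → ZMod r) →ₗ[ZMod r] (Fin 3 → ZMod r)) := fun n =>
    AddMonoidHom.toZModLinearMap r (Φ.symm.toAddMonoidHom.comp ((cj n).comp Φ.toAddMonoidHom))
  have hL : ∀ n f, Φ (L n f) = cj n (Φ f) := fun n f => Φ.apply_symm_apply _
  let M : ↥(normalizer (A : Set G)) →* Matrix (Fin 3) (Fin 3) (ZMod r) :=
    { toFun := fun n => LinearMap.toMatrix' (L n)
      map_one' := by
        rw [show L 1 = LinearMap.id from LinearMap.ext fun f => Φ.injective (by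
          rw [hL]; simp [cj]), LinearMap.toMatrix'_id]
      map_mul' := fun n m => by
        rw [← LinearMap.toMatrix'_comp]
        congr 1
        refine LinearMap.ext fun f => Φ.injective ?_
        rw [hL, LinearMap.comp_apply, hL, hL]
        simp [cj, map_mul] }
  refine ⟨M.toHomUnits, fun n j f hf i => ?_, fun n hn x hx => ?_⟩
  · show LinearMap.toMatrix' (L n) i j = f i
    have e : L n (Pi.single j 1) = f := Φ.injective (by
      rw [hL]
      exact congrArg Additive.ofMul (Subtype.ext hf))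
    rw [LinearMap.toMatrix'_apply]
    exact congrFun e i
  · obtain ⟨f, rfl⟩ := Fr.exists_crd H hx
    have e : LinearMap.toMatrix' (L n) = 1 := congrArg (fun u : GL (Fin 3) (ZMod r) =>
      (u : Matrix (Fin 3) (Fin 3) (ZMod r))) hn
    have e1 : L n = LinearMap.id := LinearMap.toMatrix'.injective (by rw [e, LinearMap.toMatrix'_id])
    have e2 := hL n f
    rw [e1] at e2
    have e3 : crd a b c f = (n : G) * crd a b c f * (n : G)⁻¹ :=
      congrArg (fun u : Additive A => ((Additive.toMul u : A) : G)) e2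
    exact mul_inv_eq_iff_eq_mul.1 e3.symm

end Frame

end Cfsg.Agent.U3Order
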