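import Cfsg.Agent.Lib.U3Order.TorusClassTwo

/-!
# The order step of `PSU₃(q)`: the three axes of the elementary group (owner: helper40)

* `TorusHyp.rot` : the power of `σ` that exchanges `w` and `t w`
* `Layer.exists_abc` : the layer is `⟨a⟩ × ⟨b⟩ × ⟨c⟩`
-/

set_option autoImplicit false
set_option linter.unusedSectionVars false
set_option linter.style.haveILetI false

namespace Cfsg.Agent.U3Order

open Subgroup

variable {G : Type*} [Group G] [Finite G]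

/-- A square root in a group of exponent an odd number. -/
theorem mem_of_sq_mem {A : Subgroup G} {x : G} {r : ℕ} (hr : Odd r) (hx : x ^ r = 1) (h : x ^ 2 ∈ A) : x ∈ A := by
  obtain ⟨k, rfl⟩ := hr
  have e : (x ^ 2) ^ (k + 1) = x := by
    rw [← pow_mul, show 2 * (k + 1) = 2 * k + 1 + 1 by ring, pow_succ, hx, one_mul]
  rw [← e]; exact pow_mem h _

namespace TorusHyp

variable {t w σ a : G} {T : Subgroup G} {r v : ℕ} (H : TorusHyp t w σ a T r v)
include H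

theorem order_tw : orderOf (t * w) = 2 := by
  refine orderOf_eq_prime ?_ fun e => ?_
  · rw [pow_two]
    calc t * w * (t * w) = t * (w * t) * w := by group
      _ = t * t * (w * w) := by rw [H.comm_tw.eq]; group
      _ = 1 := by rw [H.mul_self_t, H.mul_self_w, one_mul]
  · have e1 : t = w := by rw [mul_eq_one_iff_eq_inv, H.inv_w] at e; exact e
    apply H.a_inv_ne
    rw [← H.w_conj_a, ← e1, H.comm_at.symm.eq, mul_inv_cancel_right]

theorem w_conj_σ_zpow_two_mul (k : ℤ) : w * σ ^ (2 * k) * w⁻¹ = σ ^ (-(2 * k)) := by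
  rw [← conj_zpow, H.w_conj_σ, (H.comm_σt.inv_left).mul_zpow, zpow_mul t, zpow_two, H.mul_self_t, one_zpow,
    mul_one, inv_zpow, zpow_neg]

/-- The power of `σ` that exchanges `w` and `t w`. -/
theorem rot : ∃ m : ℕ, (σ ^ m) * w * (σ ^ m)⁻¹ = t * w ∧ (σ ^ m) * (t * w) * (σ ^ m)⁻¹ = w := by
  have h3 := H.three_le
  set ρ := σ ^ 2 ^ (v - 2)
  have hρ2 : ρ * ρ = t := by
    rw [← pow_two, ← pow_mul, ← pow_succ, show v - 2 + 1 = v - 1 by omega]; exact H.t_eq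
  have hρw : w * ρ * w⁻¹ = ρ⁻¹ := by
    obtain ⟨j, hj⟩ : 2 ∣ (2 : ℤ) ^ (v - 2) := dvd_pow_self 2 (by omega)
    have := H.w_conj_σ_zpow_two_mul j
    rwa [← hj, zpow_neg, show (2 : ℤ) ^ (v - 2) = ((2 ^ (v - 2) : ℕ) : ℤ) by push_cast; rfl, zpow_natCast] at this
  have h1 : ρ * w * ρ⁻¹ = t * w := by
    rw [← hρw, ← hρ2, H.inv_w]
    simp only [← mul_assoc]
    rw [mul_assoc ρ w w, H.mul_self_w, mul_one]
  refine ⟨2 ^ (v - 2), h1, ?_⟩
  calc ρ * (t * w) * ρ⁻¹ = ρ * t * ρ⁻¹ * (ρ * w * ρ⁻¹) := by group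
    _ = t * (t * w) := by rw [h1, (H.comm_σt.pow_left _).eq, mul_inv_cancel_right]
    _ = w := by rw [← mul_assoc, H.mul_self_t, one_mul]

theorem eq_one_of_sq {z : G} (hz : z ^ r = 1) (h : z * z = 1) : z = 1 := by
  have h1 : z ^ 2 = 1 := by rw [pow_two]; exact h
  have h2 := pow_gcd_eq_one.2 ⟨hz, h1⟩
  rwa [(Nat.coprime_primes H.prime Nat.prime_two).2 H.r_ne_two, pow_one] at h2

/-- A power of `a` fixed by an element that inverts `a` is trivial. -/
theorem zpow_eq_one {e : G} (he : e * a * e⁻¹ = a⁻¹) {z : G} (hz : z ∈ zpowers a) (hze : Commute z e) : z = 1 := by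
  obtain ⟨k, rfl⟩ := hz
  replace hze : Commute (a ^ k) e := hze
  show a ^ k = 1
  have h : e * a ^ k * e⁻¹ = (a ^ k)⁻¹ := by rw [← conj_zpow, he, inv_zpow]
  rw [hze.symm.eq, mul_inv_cancel_right] at h
  refine H.eq_one_of_sq ?_ ?_
  · show (a ^ k) ^ r = 1
    rw [← zpow_natCast, ← zpow_mul, mul_comm, zpow_mul, zpow_natCast, H.a_pow, one_zpow]
  · show a ^ k * a ^ k = 1
    nth_rw 1 [h]; exact inv_mul_cancel _

end TorusHyp

namespace Layer

variable {t w σ a : G} {T : Subgroup G} {r v : ℕ} {S M : Subgroup G}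
variable (L : Layer w σ a r S M) (H : TorusHyp t w σ a T r v)
include L H

theorem t_norm : t ∈ normalizer (M : Set G) := H.t_eq ▸ pow_mem L.σ_norm _

theorem conj_mem {g x : G} (hg : g ∈ normalizer (M : Set G)) (hx : x ∈ M) : g * x * g⁻¹ ∈ M :=
  (mem_normalizer_iff.1 hg x).1 hx

theorem cent_a {x : G} (hx : x ∈ M) : Commute x a := L.cent x (L.le hx)

/-- The elements of the layer centralized by `t`. -/
theorem mem_of_comm_t {x : G} (hx : x ∈ M) (hxt : Commute x t) : x ∈ zpowers a :=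
  H.mem_zpowers_of_cent H.order_t H.comm_at hxt (L.cent_a H hx).symm H.order_a (L.pow x hx)

/-- `x (e x e⁻¹)` can be corrected into the centralizer of `e`, for an involution `e` inverting `a`. -/
theorem fix_lift {e : G} (he : e * e = 1) (hea : e * a * e⁻¹ = a⁻¹) (hen : e ∈ normalizer (M : Set G)) {x : G}
    (hx : x ∈ M) : ∃ i : ℤ, Commute (x * (e * x * e⁻¹) * a ^ i) e := by
  set x' := e * x * e⁻¹
  have hx' : x' ∈ M := L.conj_mem H hen hx
  obtain ⟨k, hk⟩ := L.comm x hx x' hx'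
  have hk' : a ^ k = x * x' * x⁻¹ * x'⁻¹ := hk
  have hee : e⁻¹ = e := inv_eq_of_mul_eq_one_right he
  have h1 : e * (x * x') * e⁻¹ = x' * x := by
    show e * (x * (e * x * e⁻¹)) * e⁻¹ = (e * x * e⁻¹) * x
    rw [hee]; simp only [mul_assoc]; rw [he, mul_one]
  have h2 : x' * x = a ^ (-k) * (x * x') := by rw [zpow_neg, hk']; group
  obtain ⟨j, hj⟩ := H.prime.odd_of_ne_two H.r_ne_two
  -- `a ^ (r + 1) = a`
  refine ⟨-k * ((j : ℤ) + 1), ?_⟩
  have hc : ∀ n : ℤ, Commute (a ^ n) (x * x') := fun n =>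
    ((L.cent_a H (mul_mem hx hx')).symm).zpow_left n
  have har : a ^ ((r : ℤ)) = 1 := by rw [zpow_natCast, H.a_pow]
  refine (mul_inv_eq_iff_eq_mul.1 ?_).symm
  calc e * (x * x' * a ^ (-k * ((j : ℤ) + 1))) * e⁻¹
      = e * (x * x') * e⁻¹ * (e * a ^ (-k * ((j : ℤ) + 1)) * e⁻¹) := by group
    _ = a ^ (-k) * (x * x') * a ^ (k * ((j : ℤ) + 1)) := by
      rw [h1, h2, ← conj_zpow, hea, inv_zpow', neg_mul, neg_neg]
    _ = x * x' * a ^ (-k + k * ((j : ℤ) + 1)) := by rw [(hc _).eq, mul_assoc, ← zpow_add]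
    _ = x * x' * a ^ (-k * ((j : ℤ) + 1)) := by
      congr 1
      rw [show -k + k * ((j : ℤ) + 1) = -k * ((j : ℤ) + 1) + (r : ℤ) * k by rw [hj]; push_cast; ring,
        zpow_add, zpow_mul a (r : ℤ) k, har, one_zpow, mul_one]

/-- `x (t x t⁻¹)` is a power of `a`. -/
theorem mul_conj_t {x : G} (hx : x ∈ M) : x * (t * x * t⁻¹) ∈ zpowers a := by
  set x' := t * x * t⁻¹
  have hx' : x' ∈ M := L.conj_mem H (L.t_norm H) hx
  obtain ⟨k, hk⟩ := L.comm x' hx' x hx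
  have hk' : a ^ k = x' * x * x'⁻¹ * x⁻¹ := hk
  refine L.mem_of_comm_t H (mul_mem hx hx') ?_
  have hkt : t * a ^ k * t⁻¹ = a ^ k := by rw [((H.comm_at.symm).zpow_right k).eq, mul_inv_cancel_right]
  have h1 : t * (x * x') * t⁻¹ = x' * x := by
    show t * (x * (t * x * t⁻¹)) * t⁻¹ = (t * x * t⁻¹) * x
    rw [H.inv_t]; simp only [mul_assoc]; rw [H.mul_self_t, mul_one]
  have h2 : t * (x' * x) * t⁻¹ = x * x' := by
    rw [← h1, H.inv_t]; simp only [mul_assoc, H.mul_self_t, mul_one]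
    rw [← mul_assoc, H.mul_self_t, one_mul]
  have h3 : x' * x = a ^ k * (x * x') := by rw [hk']; group
  have h4 : a ^ k * a ^ k = 1 := by
    have e : x * x' = t * (a ^ k * (x * x')) * t⁻¹ := by rw [← h3, h2]
    rw [show t * (a ^ k * (x * x')) * t⁻¹ = t * a ^ k * t⁻¹ * (t * (x * x') * t⁻¹) by group, hkt, h1, h3,
      ← mul_assoc] at e
    exact mul_eq_right.1 (show a ^ k * a ^ k * (x * (t * x) * t⁻¹) = _ from (mul_assoc _ _ _).trans e.symm)
  have h5 : a ^ k = 1 := H.eq_one_of_sq (by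
    rw [← zpow_natCast, ← zpow_mul, mul_comm, zpow_mul, zpow_natCast, H.a_pow, one_zpow]) h4
  rw [h5, one_mul] at h3
  show _ * t = t * _
  rw [← mul_inv_eq_iff_eq_mul.1 (h1.trans h3)]

/-- `x²` is the product of the two projections, modulo `⟨a⟩`. -/
theorem sq_mem {x : G} (hx : x ∈ M) :
    x ^ 2 * ((x * (w * x * w⁻¹)) * (x * (t * w * x * (t * w)⁻¹)))⁻¹ ∈ zpowers a := by
  have hmem : ∀ g ∈ normalizer (M : Set G), g * x * g⁻¹ ∈ M := fun g hg => L.conj_mem H hg hx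
  set X := w * x * w⁻¹
  set Y := t * w * x * (t * w)⁻¹
  have hXY : X * Y ∈ zpowers a := by
    have e : Y = t * X * t⁻¹ := by show t * w * x * (t * w)⁻¹ = t * (w * x * w⁻¹) * t⁻¹; group
    rw [e]; exact L.mul_conj_t H (hmem w L.w_norm)
  obtain ⟨i, hi⟩ := hXY
  obtain ⟨k, hk⟩ := L.comm X (hmem w L.w_norm) x hx
  have hi' : a ^ i = X * Y := hi
  have hk' : a ^ k = X * x * X⁻¹ * x⁻¹ := hk
  refine ⟨-k - i, show a ^ (-k - i) = _ from ?_⟩
  have hc : ∀ (n : ℤ) (z : G), z ∈ M → Commute (a ^ n) z := fun n z hz => ((L.cent_a H hz).symm).zpow_left n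
  have e : (x * X) * (x * Y) = x ^ 2 * (a ^ k * a ^ i) := by
    calc (x * X) * (x * Y) = x * ((X * x * X⁻¹ * x⁻¹) * x) * (X * Y) := by group
      _ = x * (a ^ k * x) * a ^ i := by rw [← hk', ← hi']
      _ = _ := by rw [(hc k x hx).eq, pow_two]; simp only [mul_assoc]
  rw [e, mul_inv_rev, ← mul_assoc, mul_inv_rev, ← zpow_neg, ← zpow_neg, ← zpow_add,
    (((hc (-i + -k) (x ^ 2) (pow_mem hx 2)))).symm.eq, mul_assoc, mul_inv_cancel, mul_one]
  congr 1; ring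

/-- The layer is elementary abelian of order `r³`. -/
theorem exists_abc : ∃ b c : G, b ∈ M ∧ c ∈ M ∧ orderOf b = r ∧ orderOf c = r ∧
    Commute b w ∧ t * b * t⁻¹ = b⁻¹ ∧ Commute c (t * w) ∧ t * c * t⁻¹ = c⁻¹ ∧ Commute b c ∧
    ∀ x ∈ M, ∃ i j k : ℤ, x = a ^ i * b ^ j * c ^ k := by
  haveI := Fact.mk H.prime
  obtain ⟨m, hm1, hm2⟩ := H.rot
  set ρ := σ ^ m
  have hρM : ρ ∈ normalizer (M : Set G) := pow_mem L.σ_norm _
  have hρt : ρ * t * ρ⁻¹ = t := by rw [(H.comm_σt.pow_left m).eq, mul_inv_cancel_right]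
  have hρa : ρ * a * ρ⁻¹ = a := by rw [(H.comm_σa.pow_left m).eq, mul_inv_cancel_right]
  have htwn : t * w ∈ normalizer (M : Set G) := mul_mem (L.t_norm H) L.w_norm
  have htwa : t * w * a * (t * w)⁻¹ = a⁻¹ := by
    rw [show t * w * a * (t * w)⁻¹ = t * (w * a * w⁻¹) * t⁻¹ by group, H.w_conj_a,
      (H.comm_at.symm.inv_right).eq, mul_inv_cancel_right]
  have htw2 : t * w * (t * w) = 1 := by
    have h := pow_orderOf_eq_one (t * w); rwa [H.order_tw, pow_two] at h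
  obtain ⟨b, hb, hbw, hb1⟩ : ∃ b ∈ M, Commute b w ∧ b ≠ 1 := by
    by_contra hcon
    push Not at hcon
    obtain ⟨x, hx, hxa⟩ := L.big
    have key : ∀ z ∈ M, Commute z (t * w) → z = 1 := by
      intro z hz hzw
      have h1 : Commute (ρ * z * ρ⁻¹) w := by
        have := hzw.map (MulAut.conj ρ).toMonoidHom
        simpa [hm2] using this
      exact conj_eq_one_iff.1 (hcon _ (L.conj_mem H hρM hz) h1)
    obtain ⟨i, hi⟩ := L.fix_lift H H.mul_self_w H.w_conj_a L.w_norm hx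
    obtain ⟨j, hj⟩ := L.fix_lift H htw2 htwa htwn hx
    have hX : x * (w * x * w⁻¹) ∈ zpowers a := by
      have e := hcon _ (mul_mem (mul_mem hx (L.conj_mem H L.w_norm hx)) (zpow_mem L.a_mem i)) hi
      rw [mul_eq_one_iff_eq_inv.1 e]; exact inv_mem (zpow_mem (mem_zpowers a) i)
    have hY : x * (t * w * x * (t * w)⁻¹) ∈ zpowers a := by
      have e := key _ (mul_mem (mul_mem hx (L.conj_mem H htwn hx)) (zpow_mem L.a_mem j)) hj
      rw [mul_eq_one_iff_eq_inv.1 e]; exact inv_mem (zpow_mem (mem_zpowers a) j)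
    refine hxa (mem_of_sq_mem (H.prime.odd_of_ne_two H.r_ne_two) (L.pow x hx) ?_)
    have h := mul_mem (L.sq_mem H hx) (mul_mem hX hY)
    rwa [inv_mul_cancel_right] at h
  have hbo : orderOf b = r := orderOf_eq_prime (L.pow b hb) hb1
  set c := ρ * b * ρ⁻¹
  have hc : c ∈ M := L.conj_mem H hρM hb
  have hco : orderOf c = r := by
    rw [← hbo]; exact orderOf_injective (MulAut.conj ρ).toMonoidHom (MulAut.conj ρ).injective b
  have hcw : Commute c (t * w) := by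
    have := hbw.map (MulAut.conj ρ).toMonoidHom
    simpa [hm1] using this
  -- `t` inverts `b`
  have hbt : t * b * t⁻¹ = b⁻¹ := by
    have h1 := L.mul_conj_t H hb
    have h2 : Commute (b * (t * b * t⁻¹)) w := by
      refine hbw.mul_left ?_
      have := hbw.map (MulAut.conj t).toMonoidHom
      simpa [H.comm_tw.symm.eq] using this
    exact eq_inv_of_mul_eq_one_right (H.zpow_eq_one H.w_conj_a h1 h2)
  have hct : t * c * t⁻¹ = c⁻¹ := by
    have := congrArg (fun z => ρ * z * ρ⁻¹) hbt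
    simp only [← mul_inv_rev, mul_assoc] at this ⊢
    calc t * (c * t⁻¹) = ρ * (t * b * t⁻¹) * ρ⁻¹ := by
          show t * (ρ * b * ρ⁻¹ * t⁻¹) = _
          rw [show t * (ρ * b * ρ⁻¹ * t⁻¹) = (ρ * t * ρ⁻¹) * (ρ * b * ρ⁻¹) * (ρ * t * ρ⁻¹)⁻¹ by rw [hρt]; group]
          group
      _ = c⁻¹ := by rw [hbt]; show ρ * b⁻¹ * ρ⁻¹ = (ρ * b * ρ⁻¹)⁻¹; group
  -- the powers of `b` and `c` are the fixed points
  have hfixb : ∀ z ∈ M, Commute z w → z ∈ zpowers b := by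
    intro z hz hzw
    set P := M ⊓ centralizer ({w} : Set G)
    have hP : IsCyclic P := H.cyclic_of_cent H.order_w (L.pgroup.to_le (inf_le_left.trans L.le))
      fun g hg => mem_centralizer_singleton_iff.1 hg.2
    exact mem_zpowers_of_cyclic hP ⟨hb, mem_centralizer_singleton_iff.2 hbw.eq⟩ hbo
      ⟨hz, mem_centralizer_singleton_iff.2 hzw.eq⟩ (L.pow z hz)
  have hfixc : ∀ z ∈ M, Commute z (t * w) → z ∈ zpowers c := by
    intro z hz hzw
    set P := M ⊓ centralizer ({t * w} : Set G)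
    have hP : IsCyclic P := H.cyclic_of_cent H.order_tw (L.pgroup.to_le (inf_le_left.trans L.le))
      fun g hg => mem_centralizer_singleton_iff.1 hg.2
    exact mem_zpowers_of_cyclic hP ⟨hc, mem_centralizer_singleton_iff.2 hcw.eq⟩ hco
      ⟨hz, mem_centralizer_singleton_iff.2 hzw.eq⟩ (L.pow z hz)
  have hca : ∀ (n : ℤ) (z : G), z ∈ M → Commute (a ^ n) z := fun n z hz => ((L.cent_a H hz).symm).zpow_left n
  -- decomposition of squares
  have hdec : ∀ x ∈ M, ∃ i j k : ℤ, x ^ 2 = a ^ i * b ^ j * c ^ k := by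
    intro x hx
    obtain ⟨i, hi⟩ := L.fix_lift H H.mul_self_w H.w_conj_a L.w_norm hx
    obtain ⟨j, hj⟩ := L.fix_lift H htw2 htwa htwn hx
    obtain ⟨p, hp⟩ := hfixb _ (mul_mem (mul_mem hx (L.conj_mem H L.w_norm hx)) (zpow_mem L.a_mem i)) hi
    obtain ⟨s, hs⟩ := hfixc _ (mul_mem (mul_mem hx (L.conj_mem H htwn hx)) (zpow_mem L.a_mem j)) hj
    obtain ⟨n, hn⟩ := L.sq_mem H hx
    have hp' : b ^ p = x * (w * x * w⁻¹) * a ^ i := hp
    have hs' : c ^ s = x * (t * w * x * (t * w)⁻¹) * a ^ j := hs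
    have hn' : a ^ n * ((x * (w * x * w⁻¹)) * (x * (t * w * x * (t * w)⁻¹))) = x ^ 2 := by
      rw [show a ^ n = _ from hn, inv_mul_cancel_right]
    refine ⟨n - i - j, p, s, ?_⟩
    rw [eq_mul_inv_of_mul_eq hp'.symm, eq_mul_inv_of_mul_eq hs'.symm, ← zpow_neg, ← zpow_neg] at hn'
    rw [← hn']
    calc a ^ n * (b ^ p * a ^ (-i) * (c ^ s * a ^ (-j))) = a ^ n * ((b ^ p * a ^ (-i)) * (c ^ s * a ^ (-j))) := rfl
      _ = a ^ n * ((a ^ (-i) * b ^ p) * (a ^ (-j) * c ^ s)) := by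
          rw [(hca (-i) _ (zpow_mem hb p)).eq, (hca (-j) _ (zpow_mem hc s)).eq]
      _ = a ^ n * a ^ (-i) * (b ^ p * a ^ (-j)) * c ^ s := by simp only [mul_assoc]
      _ = a ^ n * a ^ (-i) * (a ^ (-j) * b ^ p) * c ^ s := by rw [(hca (-j) _ (zpow_mem hb p)).eq]
      _ = _ := by rw [show n - i - j = n + -i + -j by ring, zpow_add, zpow_add]; simp only [mul_assoc]
  have hbc : Commute b c := by
    by_contra hbc
    set u := σ * b * σ⁻¹
    have hu : u ∈ M := L.conj_mem H L.σ_norm hb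
    have hwu : w * u * w⁻¹ = σ⁻¹ * b⁻¹ * σ := by
      calc w * u * w⁻¹ = (w * σ * w⁻¹) * (w * b * w⁻¹) * (w * σ * w⁻¹)⁻¹ := by
            show w * (σ * b * σ⁻¹) * w⁻¹ = _; group
        _ = σ⁻¹ * (t * b * t⁻¹) * σ := by
            rw [H.w_conj_σ, hbw.symm.eq, mul_inv_cancel_right]; group
        _ = _ := by rw [hbt]
    have hub : Commute u b := by
      obtain ⟨i, hi⟩ := L.comm b hb u hu
      have hi' : a ^ i = b * u * b⁻¹ * u⁻¹ := hi
      have h1 : a ^ (-i) = b * (σ⁻¹ * b⁻¹ * σ) * b⁻¹ * (σ⁻¹ * b⁻¹ * σ)⁻¹ := by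
        rw [← hwu]
        have e := congrArg (fun z => w * z * w⁻¹) hi'
        simp only [← conj_zpow, H.w_conj_a, inv_zpow'] at e
        rw [e]
        have : w * b * w⁻¹ = b := by rw [hbw.symm.eq, mul_inv_cancel_right]
        calc w * (b * u * b⁻¹ * u⁻¹) * w⁻¹
            = w * b * w⁻¹ * (w * u * w⁻¹) * (w * b * w⁻¹)⁻¹ * (w * u * w⁻¹)⁻¹ := by group
          _ = _ := by rw [this]
      have h2 : a ^ (-i) = u * b⁻¹ * u⁻¹ * b := by
        have e := congrArg (fun z => σ * z * σ⁻¹) h1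
        simp only [← conj_zpow, H.conj_a_σ] at e
        rw [e]
        show _ = σ * b * σ⁻¹ * b⁻¹ * (σ * b * σ⁻¹)⁻¹ * b
        group
      have h3 : u * b⁻¹ * u⁻¹ * b = a ^ i := by
        calc u * b⁻¹ * u⁻¹ * b = b⁻¹ * (b * u * b⁻¹ * u⁻¹) * b := by group
          _ = a ^ i := by rw [← hi', mul_assoc, (hca i b hb).eq, inv_mul_cancel_left]
      have h4 : a ^ i = 1 := H.eq_one_of_sq
        (by rw [← zpow_natCast, ← zpow_mul, mul_comm, zpow_mul, zpow_natCast, H.a_pow, one_zpow])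
        (by nth_rw 1 [← h3]; rw [← h2, ← zpow_add, neg_add_cancel, zpow_zero])
      rw [h4, eq_comm, mul_inv_eq_one, mul_inv_eq_iff_eq_mul] at hi'
      exact hi'.symm
    obtain ⟨i, j, k, hijk⟩ := hdec u hu
    have hk : c ^ k = 1 := by
      by_contra hk
      apply hbc
      have h1 : Commute b (c ^ k) := by
        have e : c ^ k = (a ^ i * b ^ j)⁻¹ * u ^ 2 := by rw [hijk]; group
        rw [e]
        exact ((((hca i b hb).symm).mul_right ((Commute.refl b).zpow_right j)).inv_right).mul_right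
          (hub.symm.pow_right 2)
      obtain ⟨l, hl⟩ := mem_zpowers_of_cyclic (Subgroup.isCyclic_zpowers c) (zpow_mem (mem_zpowers c) k)
        (orderOf_eq_prime (L.pow _ (zpow_mem hc k)) hk) (mem_zpowers c) (L.pow c hc)
      exact hl ▸ h1.zpow_right l
    rw [hk, mul_one] at hijk
    obtain ⟨n, hn⟩ := H.prime.odd_of_ne_two H.r_ne_two
    obtain ⟨p, q, hpq⟩ : ∃ p q : ℤ, u = a ^ p * b ^ q := by
      refine ⟨i * ((n + 1 : ℕ) : ℤ), j * ((n + 1 : ℕ) : ℤ), ?_⟩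
      rw [zpow_mul, zpow_mul, zpow_natCast, zpow_natCast, ← ((hca i _ (zpow_mem hb j))).mul_pow, ← hijk, ← pow_mul,
        show 2 * (n + 1) = r + 1 by omega, pow_succ, L.pow u hu, one_mul]
    have hσq : ∀ z : ℤ, σ * b ^ z * σ⁻¹ = a ^ (p * z) * b ^ (q * z) := by
      intro z
      rw [← conj_zpow, show σ * b * σ⁻¹ = a ^ p * b ^ q from hpq, (hca p _ (zpow_mem hb q)).mul_zpow, zpow_mul,
        zpow_mul]
    have hσa : ∀ z : ℤ, σ * a ^ z * σ⁻¹ = a ^ z := fun z => by rw [← conj_zpow, H.conj_a_σ]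
    have hwb : w * b * w⁻¹ = b := by rw [hbw.symm.eq, mul_inv_cancel_right]
    have hbinv : b⁻¹ = a ^ (-p + p * q) * b ^ (q * q) := by
      have e : w * u * w⁻¹ = a ^ (-p) * b ^ q := by
        rw [hpq, ← conj_mul, ← conj_zpow, ← conj_zpow, H.w_conj_a, hwb, inv_zpow']
      calc b⁻¹ = σ * (σ⁻¹ * b⁻¹ * σ) * σ⁻¹ := by group
        _ = σ * a ^ (-p) * σ⁻¹ * (σ * b ^ q * σ⁻¹) := by rw [← hwu, e]; group
        _ = _ := by rw [hσa, hσq, ← mul_assoc, ← zpow_add]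
    have hσσ : σ * σ * b * (σ * σ)⁻¹ = a ^ (2 * p) * b⁻¹ := by
      rw [show σ * σ * b * (σ * σ)⁻¹ = σ * (σ * b * σ⁻¹) * σ⁻¹ by group, show σ * b * σ⁻¹ = a ^ p * b ^ q from hpq,
        ← conj_mul, hσa, hσq, hbinv, ← mul_assoc, ← mul_assoc, ← zpow_add, ← zpow_add]
      congr 2; ring
    have hσ4 : ∀ m : ℕ, ∃ z : ℤ, σ ^ (4 * m) * b * (σ ^ (4 * m))⁻¹ = a ^ z * b := by
      intro m
      induction m with
      | zero => exact ⟨0, by simp⟩
      | succ m ih =>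
        obtain ⟨z, hz⟩ := ih
        have h2a : ∀ y : ℤ, σ * σ * a ^ y * (σ * σ)⁻¹ = a ^ y := fun y => by
          rw [show σ * σ * a ^ y * (σ * σ)⁻¹ = σ * (σ * a ^ y * σ⁻¹) * σ⁻¹ by group, hσa, hσa]
        have h2b : σ * σ * b⁻¹ * (σ * σ)⁻¹ = a ^ (-(2 * p)) * b := by
          rw [← conj_inv, hσσ, mul_inv_rev, inv_inv, ← zpow_neg, (hca _ b hb).eq]
        have h2m : ∀ x y : G, σ * σ * (x * y) * (σ * σ)⁻¹ =
            σ * σ * x * (σ * σ)⁻¹ * (σ * σ * y * (σ * σ)⁻¹) := fun x y => by group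
        refine ⟨z, ?_⟩
        calc σ ^ (4 * (m + 1)) * b * (σ ^ (4 * (m + 1)))⁻¹
            = σ * σ * (σ * σ * (σ ^ (4 * m) * b * (σ ^ (4 * m))⁻¹) * (σ * σ)⁻¹) * (σ * σ)⁻¹ := by
              rw [show 4 * (m + 1) = 1 + 1 + (1 + 1 + 4 * m) by ring]
              simp only [pow_add, pow_one, mul_inv_rev, mul_assoc]
          _ = σ * σ * (a ^ z * (a ^ (2 * p) * b⁻¹)) * (σ * σ)⁻¹ := by
              rw [hz, h2m (a ^ z) b, h2a, hσσ]
          _ = a ^ z * (a ^ (2 * p) * (a ^ (-(2 * p)) * b)) := by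
              rw [h2m, h2m, h2a, h2a, h2b]
          _ = a ^ z * b := by rw [← mul_assoc (a ^ (2 * p)), ← zpow_add, add_neg_cancel, zpow_zero, one_mul]
    obtain ⟨z, hz⟩ := hσ4 (2 ^ (v - 3))
    rw [show 4 * 2 ^ (v - 3) = 2 ^ (v - 1) by
      rw [show v - 1 = v - 3 + 2 by have := H.three_le; omega, pow_add]; ring, H.t_eq, hbt] at hz
    have h5 : b * b = a ^ (-z) := by
      rw [zpow_neg, eq_inv_iff_mul_eq_one, mul_assoc, ← (hca z b hb).eq, ← hz, mul_inv_cancel]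
    have h6 : b * b = 1 := H.zpow_eq_one H.w_conj_a ⟨-z, h5.symm⟩ (hbw.mul_left hbw)
    rw [← H.a_pow] at h6
    exact H.a_ne_one (absurd (H.eq_one_of_sq (L.pow b hb) (h6.trans H.a_pow)) (fun e => by
      rw [e, orderOf_one] at hbo; exact H.prime.one_lt.ne hbo))
  refine ⟨b, c, hb, hc, hbo, hco, hbw, hbt, hcw, hct, hbc, fun x hx => ?_⟩
  obtain ⟨n, hn⟩ := H.prime.odd_of_ne_two H.r_ne_two
  obtain ⟨i, j, k, hijk⟩ := hdec (x ^ (n + 1)) (pow_mem hx _)
  refine ⟨i, j, k, ?_⟩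
  rw [← hijk, ← pow_mul, show (n + 1) * 2 = r + 1 by omega, pow_succ, L.pow x hx, one_mul]

end Layer

end Cfsg.Agent.U3Order
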