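import Cfsg.Agent.Lib.U3Order.WeylSylow
import Cfsg.Agent.Lib.BSW.Main

/-!
# The order step of `PSU₃(q)`: the hypotheses of Brauer, Suzuki and Wall (owner: helper40)

* `WeylHyp.W1` : the part of determinant one
* `WeylHyp.bsw` : it satisfies the hypotheses of Brauer, Suzuki and Wall
* `WeylHyp.le_W1` : a subgroup of `W` whose special part has odd order is special
-/

set_option autoImplicit false
set_option linter.unusedSectionVars false
set_option linter.style.haveILetI false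

namespace Cfsg.Agent.U3Order

open Matrix

namespace WeylHyp

variable {r v : ℕ} [Fact r.Prime] {W T : Subgroup (GLr r)} {t w σ y : GLr r}
  (H : WeylHyp r v W T t w σ y)
include H

/-- The part of determinant one. -/
def W1 : Subgroup (GLr r) where
  carrier := {g | g ∈ W ∧ dt g = 1}
  one_mem' := ⟨(fun _ => one_mem W) H, dt_one⟩
  mul_mem' := fun {a b} ha hb => ⟨mul_mem ha.1 hb.1, by rw [dt_mul, ha.2, hb.2, one_mul]⟩
  inv_mem' := fun {a} ha => ⟨inv_mem ha.1, by have := dt_inv_mul a; rwa [ha.2, mul_one] at this⟩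

theorem mem_W1 {g : GLr r} : g ∈ H.W1 ↔ g ∈ W ∧ dt g = 1 := Iff.rfl

theorem t_mem_W1 : t ∈ H.W1 := ⟨H.le H.t_mem, H.dt_t⟩

theorem w_mem_W1 : w ∈ H.W1 := ⟨H.w_mem, H.dt_w⟩

/-- A torus element of determinant one is inverted by `w`. -/
theorem inverted {x : GLr r} (hx : x ∈ T) (hd : dt x = 1) : x * (w * x * w) = 1 := by
  obtain ⟨hα, hβ, -, -⟩ := H.σ_entries
  obtain ⟨hb, h00⟩ := H.T_block x hx
  refine Units.ext ?_
  have h := torus_inverted (H.T_block σ H.σ_mem).1 hα hβ hb h00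
    (by rw [← Units.val_mul, (H.comm_T hx H.σ_mem).eq, Units.val_mul]) hd
  rw [Units.val_mul, Units.val_mul, Units.val_mul, H.w_val, Units.val_one]
  exact h

theorem regular {x : GLr r} (hx : x ∈ T) (hd : dt x = 1) (hx1 : x ≠ 1) :
    ((x : Matrix (Fin 3) (Fin 3) (ZMod r)) 1 1 - 1) * ((x : Matrix (Fin 3) (Fin 3) (ZMod r)) 2 2 - 1) -
      (x : Matrix (Fin 3) (Fin 3) (ZMod r)) 1 2 * (x : Matrix (Fin 3) (Fin 3) (ZMod r)) 2 1 ≠ 0 := by
  obtain ⟨hα, hβ, hγ, -⟩ := H.σ_entries
  obtain ⟨hb, h00⟩ := H.T_block x hx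
  exact torus_regular H.two_ne (H.T_block σ H.σ_mem).1 hα hβ hγ hb h00
    (by rw [← Units.val_mul, (H.comm_T hx H.σ_mem).eq, Units.val_mul]) hd
    (fun e => hx1 (Units.ext e))

theorem bsw : BSW.Hyp (⟨t, H.t_mem_W1⟩ : H.W1) ⟨w, H.w_mem_W1⟩ (T.subgroupOf H.W1) where
  ht := by rw [← Subgroup.orderOf_coe]; exact H.order_t
  hs := by rw [← Subgroup.orderOf_coe]; exact H.order_w
  comm := fun x hx z hz => Subtype.ext (H.comm_T hx hz).eq
  le_cent := fun x hx => BSW.mem_cent.2 (Subtype.ext (H.comm_t hx).eq)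
  t_mem := H.t_mem
  s_mem := BSW.mem_cent.2 (Subtype.ext H.comm_tw.eq)
  s_not := H.w_not_mem
  cent_le := fun g hg => by
    rcases H.cent g g.2.1 (congrArg Subtype.val (BSW.mem_cent.1 hg)) with h | h
    · exact Subgroup.mem_sup_left (show g ∈ T.subgroupOf H.W1 from h)
    · have hm : g * (⟨w, H.w_mem_W1⟩ : H.W1) ∈ T.subgroupOf H.W1 := h
      have e : g = g * (⟨w, H.w_mem_W1⟩ : H.W1) * (⟨w, H.w_mem_W1⟩ : H.W1) :=
        Subtype.ext (show (g : GLr r) = g * w * w by rw [mul_assoc, H.mul_self_w, mul_one])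
      rw [e]
      exact mul_mem (Subgroup.mem_sup_left hm) (Subgroup.mem_sup_right (Subgroup.mem_zpowers _))
  fix := fun x hx hc => by
    have hc' : w * (x : GLr r) = x * w := congrArg Subtype.val hc
    have h : (x : GLr r) * (w * x * w) = 1 := H.inverted hx x.2.2
    rw [hc', mul_assoc (x : GLr r) w w, H.mul_self_w, mul_one] at h
    rcases H.involution_T hx h with e | e
    · exact Or.inl (Subtype.ext e)
    · exact Or.inr (Subtype.ext e)
  inv := fun x hx => Subtype.ext (by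
    show w * (x : GLr r) * w⁻¹ = (x : GLr r)⁻¹
    rw [H.inv_w]
    exact eq_inv_of_mul_eq_one_right (H.inverted hx x.2.2))
  ti := fun g x hx hx1 hgx => by
    have hx1' : (x : GLr r) ≠ 1 := fun e => hx1 (Subtype.ext e)
    have hk : ((g * x * g⁻¹ : H.W1) : GLr r) ∈ T := hgx
    have hk1 : ((g * x * g⁻¹ : H.W1) : GLr r) ≠ 1 := fun e => by
      exact hx1 (conj_eq_one_iff.1 (Subtype.ext e))
    obtain ⟨hb, h00⟩ := H.T_block _ hx
    obtain ⟨hb', h00'⟩ := H.T_block _ hk
    have hblock : IsBlock ((g : GLr r) : Matrix (Fin 3) (Fin 3) (ZMod r)) := by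
      refine block_of_intertwine hb' h00' (H.regular hk (g * x * g⁻¹ : H.W1).2.2 hk1) hb h00
        (H.regular hx x.2.2 hx1') ?_
      rw [← Units.val_mul, ← Units.val_mul]
      congr 1
      show (g : GLr r) * x = g * x * (g : GLr r)⁻¹ * g
      group
    refine BSW.mem_cent.2 (Subtype.ext ?_)
    show (g : GLr r) * t = t * g
    refine Units.ext ?_
    rw [Units.val_mul, Units.val_mul, H.t_val]
    exact (isBlock_iff H.two_ne _).1 hblock
  all_conj := fun a b ha hb => by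
    have key : ∀ c : H.W1, orderOf c = 2 → IsConj (⟨t, H.t_mem_W1⟩ : H.W1) c := by
      intro c hc
      obtain ⟨-, h, hh, hd, e⟩ := H.involution_conj c.2.1 (by rw [Subgroup.orderOf_coe]; exact hc)
      exact isConj_iff.2 ⟨⟨h, hh, hd⟩, Subtype.ext e⟩
    exact (key a ha).symm.trans (key b hb)

/-- An element of determinant `-1` has a power of `2`-power order and determinant `-1`. -/
theorem exists_two_pow {g : GLr r} (hg : dt g = -1) :
    ∃ n i : ℕ, Odd n ∧ orderOf (g ^ n) = 2 ^ i ∧ dt (g ^ n) = -1 := by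
  obtain ⟨i, n, hn, e⟩ := Nat.exists_eq_two_pow_mul_odd (orderOf_pos g).ne'
  refine ⟨n, i, hn, ?_, by rw [dt_pow, hg, hn.neg_one_pow]⟩
  have hn0 : n ≠ 0 := fun h0 => by simp [h0] at hn
  rw [orderOf_pow' g hn0, e, Nat.gcd_mul_left_left, Nat.mul_div_cancel _ (Nat.pos_of_ne_zero hn0)]

/-- A subgroup of `W` whose special part has odd order is special. -/
theorem le_W1 {X : Subgroup (GLr r)} (hX : X ≤ W)
    (hodd : ∀ g ∈ X, dt g = 1 → Odd (orderOf g)) : X ≤ H.W1 := by
  intro g hg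
  rcases H.det g (hX hg) with h | h
  · exact ⟨hX hg, h⟩
  exfalso
  obtain ⟨n, i, -, hi, hdn⟩ := H.exists_two_pow h
  set z := g ^ n
  have hz : z ∈ X := pow_mem hg n
  have hz2 : orderOf (z * z) = 1 := by
    have ho := hodd _ (mul_mem hz hz) (by rw [dt_mul, hdn]; ring)
    have hd : orderOf (z * z) ∣ 2 ^ i := by
      rw [← hi, ← pow_two]
      exact orderOf_dvd_of_pow_eq_one (by rw [← pow_mul, mul_comm, pow_mul, pow_orderOf_eq_one, one_pow])
    exact (ho.coprime_two_right.pow_right i).eq_one_of_dvd hd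
  rw [orderOf_eq_one_iff] at hz2
  by_cases hz1 : z = 1
  · rw [hz1, dt_one] at hdn
    exact H.neg_one_ne hdn.symm
  · have h1 := (H.involution_conj (hX hz) (orderOf_eq_prime (by rw [pow_two, hz2]) hz1)).1
    rw [hdn] at h1
    exact H.neg_one_ne h1

end WeylHyp

end Cfsg.Agent.U3Order
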