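import Cfsg.Agent.Lib.U3Order.SU2
import Cfsg.Agent.Lib.InvolChar.WreathBranch
import Cfsg.Agent.Lib.LThreeRec.Equations
import Cfsg.Agent.Lib.QGroup.Tools
import Cfsg.Agent.S1218

/-!
# The order of a simple group with an involution centraliser `GU₂(q)/Z`, `q ≡ 3 (mod 4)`

* `PreData.exists_wreathed` : a wreathed Sylow 2-subgroup of `G` inside `C(t)`;
* `PreData.exists_normal_sl2` : the normal `SL₂(q)` of `C / O(C)`;
* `PreData.order_eq_three` : the order is that of `PSU₃(q)`.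
-/

set_option autoImplicit false
set_option linter.unusedSectionVars false
set_option linter.style.haveILetI false

namespace Cfsg.Agent.U3Recog

open Subgroup Cfsg.Agent.Unitary
open scoped MatrixGroups

variable {G : Type*} [Group G] [Finite G] {F : Type*} [Field F] [Fintype F] {q : ℕ}

/-- A 2-subgroup of `C(t)` of maximal order in which `t` is the only central involution is a Sylow
subgroup of `G`. -/
theorem exists_sylow_eq {t : G} (ht : orderOf t = 2) {R₁ : Subgroup G} (h2 : IsPGroup 2 R₁)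
    (hle : R₁ ≤ centralizer ({t} : Set G)) (htR : t ∈ R₁)
    (hcard : Nat.card R₁ = 2 ^ (Nat.card (centralizer ({t} : Set G))).factorization 2)
    (uniq : ∀ z ∈ R₁, orderOf z = 2 → (∀ y ∈ R₁, y * z = z * y) → z = t) :
    ∃ R : Sylow 2 G, (R : Subgroup G) = R₁ := by
  haveI : Fact (Nat.Prime 2) := ⟨Nat.prime_two⟩
  obtain ⟨R, hR⟩ := h2.exists_le_sylow
  refine ⟨R, ?_⟩
  have e1 : (R : Subgroup G) ⊓ centralizer ({t} : Set G) = R₁ := by
    refine (eq_of_le_of_card_ge (le_inf hR hle) ?_).symm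
    obtain ⟨k, hk⟩ := (R.isPGroup'.to_le inf_le_left :
      IsPGroup 2 ↥((R : Subgroup G) ⊓ centralizer ({t} : Set G))).exists_card_eq
    rw [hcard, hk]
    refine Nat.pow_le_pow_right two_pos
      ((Nat.Prime.pow_dvd_iff_le_factorization Nat.prime_two Nat.card_pos.ne').1 ?_)
    rw [← hk]; exact card_dvd_of_le inf_le_right
  by_contra hne
  haveI : Group.IsNilpotent (R : Subgroup G) := R.isPGroup'.isNilpotent
  have hlt : R₁.subgroupOf R < ⊤ :=
    lt_top_iff_ne_top.2 fun h => hne (le_antisymm (subgroupOf_eq_top.1 h) hR)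
  obtain ⟨g, hg, hgn⟩ := SetLike.exists_of_lt (Group.normalizerCondition_of_isNilpotent _ hlt)
  refine hgn (mem_subgroupOf.2 (e1 ▸ mem_inf.2 ⟨g.2, mem_centralizer_singleton_iff.2 ?_⟩))
  have key : ∀ y ∈ R₁, (g : G) * y * (g : G)⁻¹ ∈ R₁ := fun y hy =>
    (mem_normalizer_iff.1 hg ⟨y, hR hy⟩).1 hy
  have key' : ∀ y ∈ R₁, (g : G)⁻¹ * y * g ∈ R₁ := fun y hy => by
    simpa using mem_subgroupOf.1 ((mem_normalizer_iff.1 (inv_mem hg) ⟨y, hR hy⟩).1 hy)
  refine mul_inv_eq_iff_eq_mul.1 (uniq _ (key _ htR) (by rw [Involution.orderOf_conj, ht])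
    fun y hy => ?_)
  have h' := mem_centralizer_singleton_iff.1 (hle (key' y hy))
  calc y * ((g : G) * t * (g : G)⁻¹) = g * ((g : G)⁻¹ * y * g * t) * (g : G)⁻¹ := by group
    _ = g * (t * ((g : G)⁻¹ * y * g)) * (g : G)⁻¹ := by rw [h']
    _ = _ := by group

/-- The central involution of a wreathed group. -/
theorem eq_half_of_central {S : Type*} [Group S] {n : ℕ} (d : QDWreath.WrData S n) {g : S}
    (hg : orderOf g = 2) (hc : g ∈ center S) :
    g = d.a (QDWreath.tp n (n - 1)) (QDWreath.tp n (n - 1)) := by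
  obtain ⟨i, hi⟩ := d.mem_center.1 hc
  rcases Transfer.WR.involution_cases d hg with e | e | e | ⟨j, e⟩
  · exact e
  · rw [hi, d.a_inj] at e
    exact absurd (e.1.symm.trans e.2) (Transfer.WR.half_ne_zero d)
  · rw [hi, d.a_inj] at e
    exact absurd (e.2.symm.trans e.1) (Transfer.WR.half_ne_zero d)
  · rw [hi] at e
    exact absurd e (d.a_ne_b _ _ _ _)

namespace PreData

variable (D : PreData G F q)
include D

/-- A wreathed Sylow 2-subgroup inside the centraliser. -/
theorem exists_wreathed (h3 : q % 4 = 3) :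
    ∃ R : Sylow 2 G, (R : Subgroup G) ≤ centralizer ({D.t} : Set G) ∧ D.t ∈ R ∧
      Cfsg.IsWreathed (R : Subgroup G) := by
  haveI : Fact (Nat.Prime 2) := ⟨Nat.prime_two⟩
  set z₀ : U2 F q := negOne D.hF with hz₀
  have hcen : ∀ g : U2 F q, g * z₀ = z₀ * g := fun g => by
    obtain ⟨a, b, c, d⟩ := negOne_entries D.hF (q := q)
    apply ext4 <;> simp [hz₀, a, b, c, d]
  haveI : (zpowers z₀).Normal := ⟨fun x hx g => by
    obtain ⟨k, rfl⟩ := hx
    refine ⟨k, ?_⟩
    have hc : Commute g z₀ := hcen g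
    show z₀ ^ k = g * z₀ ^ k * g⁻¹
    rw [(hc.zpow_right k).eq, mul_inv_cancel_right]⟩
  have hp : IsPGroup 2 (zpowers z₀) := by
    refine IsPGroup.of_card (n := 1) ?_
    rw [Nat.card_zpowers, pow_one]
    exact orderOf_eq_prime (by rw [sq]; exact D.negOne_sq) D.negOne_ne
  obtain ⟨P, hP⟩ := hp.exists_le_sylow
  set R₁ : Subgroup G := (P : Subgroup (U2 F q)).map D.π with hR₁
  have hinj : Function.Injective (D.π.subgroupMap (P : Subgroup (U2 F q))) := by
    rw [injective_iff_map_eq_one]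
    intro x hx
    have hx' : D.π (x : U2 F q) = 1 := congrArg Subtype.val hx
    obtain ⟨k, hk⟩ := P.isPGroup' x
    have h1 : orderOf x ∣ 2 ^ k := orderOf_dvd_of_pow_eq_one hk
    have h2 : orderOf x ∣ Nat.card D.π.ker := by
      rw [← Subgroup.orderOf_coe]
      exact (Subgroup.orderOf_coe (⟨(x : U2 F q), hx'⟩ : D.π.ker)).symm ▸
        _root_.orderOf_dvd_natCard _
    rw [← orderOf_eq_one_iff]
    exact Nat.eq_one_of_dvd_coprimes (Nat.Coprime.pow_left k
      (Nat.coprime_two_left.2 D.ker_odd)) h1 h2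
  let e : (P : Subgroup (U2 F q)) ≃* R₁ :=
    MulEquiv.ofBijective (D.π.subgroupMap _) ⟨hinj, D.π.subgroupMap_surjective _⟩
  obtain ⟨φ⟩ := exists_equiv_GU D.hF D.two_ne
  let e₀ : (P : Subgroup (U2 F q)).comap φ.toMonoidHom ≃* (P : Subgroup (U2 F q)) :=
    { toFun := fun x => ⟨φ x, x.2⟩
      invFun := fun y => ⟨φ.symm y, by
        show φ (φ.symm y) ∈ (P : Subgroup (U2 F q))
        rw [φ.apply_symm_apply]; exact y.2⟩
      left_inv := fun x => Subtype.ext (φ.symm_apply_apply _)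
      right_inv := fun y => Subtype.ext (φ.apply_symm_apply _)
      map_mul' := fun x y => Subtype.ext (map_mul φ _ _) }
  have hW : Cfsg.IsWreathed R₁ :=
    QGroup.isWreathed_congr (e₀.trans e) ((S1218.result q D.hF D.hodd
      (P.comapOfInjective φ.toMonoidHom φ.injective
        (fun x _ => ⟨φ.symm x, φ.apply_symm_apply x⟩))).2 h3)
  have htR : D.t ∈ R₁ := ⟨_, hP (mem_zpowers _), D.π_negOne⟩
  have hle : R₁ ≤ centralizer ({D.t} : Set G) := fun _ ⟨g, _, hg⟩ => hg ▸ D.mem_C g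
  obtain ⟨n, ⟨d⟩⟩ := QDWreath.nonempty_wrData hW
  obtain ⟨R, hR⟩ := exists_sylow_eq D.orderOf_t (P.isPGroup'.map D.π : IsPGroup 2 R₁) hle htR
    (by
      rw [← Nat.card_congr e.toEquiv, P.card_eq_multiplicity]
      congr 1
      have h := D.π.ker.card_mul_index
      rw [Subgroup.index_ker, D.range_eq] at h
      rw [← h, Nat.factorization_mul Nat.card_pos.ne' Nat.card_pos.ne', Finsupp.add_apply,
        Nat.factorization_eq_zero_of_not_dvd (n := Nat.card D.π.ker)
          (fun h => Nat.not_even_iff_odd.2 D.ker_odd (even_iff_two_dvd.2 h)), zero_add])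
    (fun z hz hz2 hzc => congrArg Subtype.val ((eq_half_of_central d (g := (⟨z, hz⟩ : R₁))
      (by rw [Subgroup.orderOf_mk, hz2])
      (mem_center_iff.2 fun y => Subtype.ext (hzc y y.2))).trans
      (eq_half_of_central d (g := (⟨D.t, htR⟩ : R₁))
        (by rw [Subgroup.orderOf_mk, D.orderOf_t])
        (mem_center_iff.2 fun y => Subtype.ext
          (mem_centralizer_singleton_iff.1 (hle y.2)))).symm))
  exact ⟨R, hR ▸ hle, (SetLike.ext_iff.1 hR D.t).2 htR, hR ▸ hW⟩

/-- The normal `SL₂(q)` of the centraliser modulo its odd core. -/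
theorem exists_normal_sl2 :
    ∃ N : Subgroup (centralizer ({D.t} : Set G) ⧸ Cfsg.oddCore (centralizer ({D.t} : Set G))),
      N.Normal ∧ Nonempty (N ≃* Matrix.SpecialLinearGroup (Fin 2) (fixedField D.hF)) := by
  classical
  set C := centralizer ({D.t} : Set G) with hCdef
  obtain ⟨δ, hδ0, hδ⟩ := exists_skew D.hF
  let φ : Matrix.SpecialLinearGroup (Fin 2) (fixedField D.hF) →* C :=
    (D.π.comp (slHom D.hF hδ0 hδ)).codRestrict C fun g => D.mem_C _
  let ψ : Matrix.SpecialLinearGroup (Fin 2) (fixedField D.hF) →* C ⧸ Cfsg.oddCore C :=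
    (QuotientGroup.mk' (Cfsg.oddCore C)).comp φ
  have hφ : Function.Injective φ := by
    rw [injective_iff_map_eq_one]
    intro g hg
    refine slHom_injective D.hF hδ0 hδ ((D.eq_of_det (g' := 1) ?_ ?_).trans (map_one _).symm)
    · rw [map_one]; exact congrArg Subtype.val hg
    · rw [det2_slHom, det2_one]
  have h2F : (2 : fixedField D.hF) ≠ 0 := fun h => D.two_ne (by
    have := congrArg (fixedField D.hF).subtype h
    rwa [map_ofNat, map_zero] at this)
  haveI : Fintype (fixedField D.hF) := Fintype.ofFinite _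
  haveI : Fact (Nat.Prime 2) := ⟨Nat.prime_two⟩
  have hψ : Function.Injective ψ := by
    have hoddO : Odd (Nat.card (Cfsg.oddCore C)) :=
      Nat.odd_iff.2 (Nat.two_dvd_ne_zero.1 (Cores.not_dvd_card_pPrimeCore (p := 2)))
    have hk : ψ.ker = (Cfsg.oddCore C).comap φ := by
      rw [← MonoidHom.comap_ker, QuotientGroup.ker_mk']
    rw [← MonoidHom.ker_eq_bot_iff, hk]
    refine LThreeRec.sl2_odd_normal h2F _ (hoddO.of_dvd_nat ?_)
    exact card_dvd_of_injective
      ((φ.comp ((Cfsg.oddCore C).comap φ).subtype).codRestrict (Cfsg.oddCore C) fun x => x.2)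
      fun x y e => Subtype.ext (hφ (congrArg Subtype.val e))
  refine ⟨ψ.range, ⟨fun x hx y => ?_⟩, ⟨(MonoidHom.ofInjective hψ).symm⟩⟩
  obtain ⟨g, rfl⟩ := hx
  obtain ⟨c, rfl⟩ := QuotientGroup.mk'_surjective _ y
  obtain ⟨b, hb⟩ := D.exists_of_comm (mem_centralizer_singleton_iff.1 c.2)
  obtain ⟨g', hg'⟩ := (mem_range_slHom D.hF hδ0 hδ).2
    (show det2 (b * slHom D.hF hδ0 hδ g * b⁻¹) = 1 by
      rw [det2_mul, det2_mul, det2_inv D.hF, det2_slHom, mul_one,
        mul_inv_cancel₀ (det2_ne_zero D.hF b)])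
  refine ⟨g', ?_⟩
  show QuotientGroup.mk' _ (φ g') = _
  rw [show φ g' = c * φ g * c⁻¹ from Subtype.ext (by
    show D.π (slHom D.hF hδ0 hδ g') = (c : G) * D.π (slHom D.hF hδ0 hδ g) * (c : G)⁻¹
    rw [hg', map_mul, map_mul, map_inv, hb]), map_mul, map_mul, map_inv]
  rfl

/-- The centraliser of an involution of `C(t)` other than `t` has index `q (q - 1)` there. -/
theorem index_cent_invol {s : centralizer ({D.t} : Set G)} (hs : orderOf s = 2)
    (hne : (s : G) ≠ D.t) :
    (centralizer ({s} : Set (centralizer ({D.t} : Set G)))).index = q * (q - 1) := by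
  have h := (MulAction.stabilizer (ConjAct (centralizer ({D.t} : Set G))) s).card_mul_index
  rw [← Subgroup.nat_card_centralizer_nat_card_stabilizer,
    Nat.card_congr (ConjAct.ofConjAct (G := centralizer ({D.t} : Set G))).toEquiv,
    MulAction.index_stabilizer, ← Nat.card_coe_set_eq] at h
  have h' := (centralizer ({s} : Set (centralizer ({D.t} : Set G)))).card_mul_index
  refine (Nat.eq_of_mul_eq_mul_left Nat.card_pos (h'.trans h.symm)).trans ?_
  rw [← D.card_involutions]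
  refine Nat.card_congr (Equiv.subtypeEquivRight fun x => ?_)
  rw [ConjAct.mem_orbit_conjAct]
  constructor
  · intro h
    obtain ⟨c, rfl⟩ := isConj_iff.1 h.symm
    refine ⟨by rw [Involution.orderOf_conj, hs], fun e => hne ?_⟩
    have hc : (c : G) * D.t = D.t * c := mem_centralizer_singleton_iff.1 c.2
    have e' : (c : G) * s * (c : G)⁻¹ = D.t := e
    calc (s : G) = (c : G)⁻¹ * ((c : G) * s * (c : G)⁻¹) * c := by group
      _ = D.t := by rw [e', mul_assoc, ← hc, inv_mul_cancel_left]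
  · rintro ⟨hx, hxne⟩
    obtain ⟨z, hz, hze⟩ := D.exists_involution_conj x.2 (by rw [Subgroup.orderOf_coe, hx]) hxne
    obtain ⟨y, hy, hye⟩ := D.exists_involution_conj s.2 (by rw [Subgroup.orderOf_coe, hs]) hne
    have hzC := D.mem_C (sA D.hF D.two_ne z hz)
    have hyC := D.mem_C (sA D.hF D.two_ne y hy)
    refine IsConj.symm (isConj_iff.2 ⟨⟨_, mul_mem hzC (inv_mem hyC)⟩, Subtype.ext ?_⟩)
    show _ * (s : G) * _ = (x : G)
    rw [hze, hye, Subgroup.coe_inv]
    group

/-- The order of `G` is that of `PSU₃(q)`. -/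
theorem order_eq_three [IsSimpleGroup G] (h3 : q % 4 = 3) :
    Nat.card G * Nat.card D.π.ker = q ^ 3 * (q ^ 3 + 1) * (q ^ 2 - 1) := by
  classical
  obtain ⟨p, m, hp, -, hqp, hm⟩ := exists_prime_pow D.hF
  haveI := Fact.mk hp
  haveI : Fact (Nat.Prime 2) := ⟨Nat.prime_two⟩
  have hp2 : p ≠ 2 := fun h => by
    have h' := D.hodd
    rw [hqp, h, Nat.odd_pow_iff (by omega)] at h'
    exact absurd h' (by decide)
  have hq := D.q_ge
  obtain ⟨R, hRC, htR, hW⟩ := D.exists_wreathed h3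
  have hcR : ∀ r ∈ (R : Subgroup G), r * D.t = D.t * r := fun r hr =>
    mem_centralizer_singleton_iff.1 (hRC hr)
  obtain ⟨n, ⟨d⟩⟩ := QDWreath.nonempty_wrData hW
  set h := QDWreath.tp n (n - 1) with hh
  have h2h : 2 * h = 0 := (QDWreath.two_mul_eq_zero d.one_le).2 (Or.inr rfl)
  have ht : (⟨D.t, htR⟩ : (R : Subgroup G)) = d.a h h :=
    eq_half_of_central d (by rw [Subgroup.orderOf_mk, D.orderOf_t])
      (mem_center_iff.2 fun w => Subtype.ext (hcR w w.2))
  -- the four-group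
  set U := d.omega.map (R : Subgroup G).subtype with hUdef
  have hUR : U ≤ (R : Subgroup G) := map_subtype_le _
  have hU : IsKleinFour U := by
    have e := d.omega.equivMapOfInjective (R : Subgroup G).subtype (R : Subgroup G).subtype_injective
    exact ⟨by rw [← Nat.card_congr e.toEquiv]; exact d.isKleinFour_omega.card_four,
      by rw [← Monoid.exponent_eq_of_mulEquiv e]; exact d.isKleinFour_omega.exponent_two⟩
  have hUn : ∀ r ∈ (R : Subgroup G), ∀ y ∈ U, r * y * r⁻¹ ∈ U := by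
    rintro r hr _ ⟨y, hy, rfl⟩
    exact ⟨_, d.normal_omega.conj_mem y hy ⟨r, hr⟩, rfl⟩
  set x : G := ((d.a h 0 : (R : Subgroup G)) : G) with hx
  set C := centralizer ({D.t} : Set G) with hC
  set s : C := ⟨x, hRC (d.a h 0).2⟩ with hs
  have hs2 : orderOf s = 2 := by
    rw [hs, Subgroup.orderOf_mk, hx, Subgroup.orderOf_coe]
    exact Transfer.WR.orderOf_u2 d
  have hsne : (s : G) ≠ D.t := fun e => by
    have e' : d.a h 0 = d.a h h := (Subtype.ext e : d.a h 0 = ⟨D.t, htR⟩).trans ht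
    exact Transfer.WR.half_ne_zero d (d.a_inj.1 e').2.symm
  have hUC : ∀ g : G, g ∈ centralizer (U : Set G) ↔ g * D.t = D.t * g ∧ g * x = x * g := by
    intro g
    rw [mem_centralizer_iff]
    refine ⟨fun hg => ⟨(hg D.t ?_).symm, (hg x ?_).symm⟩, ?_⟩
    · exact ⟨⟨D.t, htR⟩, d.mem_omega.2 ⟨h, h, ht, h2h, h2h⟩, rfl⟩
    · exact ⟨d.a h 0, d.mem_omega.2 ⟨h, 0, rfl, h2h, mul_zero _⟩, rfl⟩
    rintro ⟨gt, gx⟩ _ ⟨y, hy, rfl⟩
    obtain ⟨i, j, rfl, hi, hj⟩ := d.mem_omega.1 hy
    have htg : Commute ((d.a h h : (R : Subgroup G)) : G) g := by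
      rw [← ht]; exact gt.symm
    have hxg : Commute ((d.a h 0 : (R : Subgroup G)) : G) g := gx.symm
    rcases (QDWreath.two_mul_eq_zero d.one_le).1 hi with rfl | rfl <;>
      rcases (QDWreath.two_mul_eq_zero d.one_le).1 hj with rfl | rfl
    · rw [d.a_zero]; exact (Commute.one_left g).eq
    · have e : d.a 0 h = d.a h h * d.a h 0 := by
        rw [d.a_mul_a, add_zero, ← two_mul, h2h]
      show ((d.a 0 h : (R : Subgroup G)) : G) * g = g * _
      rw [e, Subgroup.coe_mul]
      exact (htg.mul_left hxg).eq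
    · exact hxg.eq
    · exact htg.eq
  have hcard : Nat.card (centralizer (U : Set G)) = Nat.card (centralizer ({s} : Set C)) := by
    refine Nat.card_congr
      ⟨fun g => ⟨⟨(g : G), mem_centralizer_singleton_iff.2 ((hUC g).1 g.2).1⟩,
          mem_centralizer_singleton_iff.2 (Subtype.ext ((hUC g).1 g.2).2)⟩,
        fun g => ⟨((g : C) : G), (hUC _).2 ⟨mem_centralizer_singleton_iff.1 (g : C).2,
          congrArg Subtype.val (mem_centralizer_singleton_iff.1 g.2)⟩⟩,
        fun _ => rfl, fun _ => rfl⟩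
  have hidx : Nat.card (centralizer (U : Set G)) * (q * (q - 1)) = Nat.card C := by
    rw [hcard, ← D.index_cent_invol hs2 hsne]
    exact card_mul_index _
  haveI : Fintype (fixedField D.hF) := Fintype.ofFinite _
  have hFc : Fintype.card (fixedField D.hF) = p ^ m := by
    rw [← Nat.card_eq_fintype_card, card_fixedField D.hF, hqp]
  have hG : ¬ IsMulCommutative G := fun hc => by
    obtain ⟨c, hcs, hc0⟩ := D.exists_skew_ne
    obtain ⟨h10, -⟩ := of_comm_uu D.hF (wn D.hF) hcs hc0 (D.comm_lift (hc.is_comm.comm _ _))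
    simp at h10
  obtain ⟨ε, hε, h4ε, heq⟩ := InvolChar.wreathed_order hG R hW D.t D.orderOf_t htR hcR U hUR hU hUn
    hp2 m hm (fixedField D.hF) hFc D.exists_normal_sl2
  have hqz : (p : ℤ) ^ m = (q : ℤ) := by rw [hqp]; push_cast; rfl
  rw [hqz] at h4ε heq
  obtain rfl : ε = 1 := by
    rcases hε with rfl | rfl
    · rfl
    · exfalso; omega
  rw [← hC, ← hidx] at heq
  push_cast [Nat.cast_sub (show 1 ≤ q by omega)] at heq
  set u : ℤ := (Nat.card (centralizer (U : Set G)) : ℤ)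
  have hu : u ≠ 0 := by simp only [u]; exact_mod_cast Nat.card_pos.ne'
  have hq0 : ((q : ℤ) - 1) ^ 2 * u ^ 2 ≠ 0 :=
    mul_ne_zero (pow_ne_zero _ (by omega)) (pow_ne_zero _ hu)
  have key : (Nat.card G : ℤ) = u * ((q : ℤ) * ((q : ℤ) - 1)) *
      ((q : ℤ) ^ 2 * ((q : ℤ) ^ 2 - q + 1)) := by
    refine mul_left_cancel₀ hq0 ?_
    linear_combination heq
  have hCk := D.card_C
  rw [← hC, ← hidx] at hCk
  have hsq : q + 0 ≤ q * q := Nat.le_mul_self q
  have hCk' : u * ((q : ℤ) * ((q : ℤ) - 1)) * (Nat.card D.π.ker : ℤ) =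
      (q : ℤ) * (((q : ℤ) + 1) * ((q : ℤ) ^ 2 - 1)) := by
    have := congrArg (Nat.cast : ℕ → ℤ) hCk
    push_cast [Nat.cast_sub (show 1 ≤ q by omega), Nat.cast_sub (show 1 ≤ q ^ 2 by nlinarith)] at this
    exact this
  zify [show 1 ≤ q ^ 2 by nlinarith]
  rw [key]
  linear_combination ((q : ℤ) ^ 2 * ((q : ℤ) ^ 2 - q + 1)) * hCk'

end PreData

end Cfsg.Agent.U3Recog
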